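import Cfsg.Agent.MK.Two.Bor1

/-!
# MK, characteristic two: the characters of the Borel subgroup (helper89)

`borBox : BorBox`.  An irreducible character of `B` over a linear character `l` of `U` is `β * Ind F`, where `F` is the
extension of `l` to the inertia group `SL h l` which is trivial on `T`.
-/

set_option autoImplicit false
set_option maxHeartbeats 400000

namespace Cfsg.Agent.MK.Two

namespace Bor

open Cfsg Subgroup Cfsg.Agent.H40.OC Cfsg.Agent.H672 Cfsg.Agent.Characters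
open Cfsg.Agent.OddOrderCharacters Cfsg.Agent.CharactersDeep

variable {K I : Type} [Group K] {U T B : Subgroup K} {D : I → Subgroup K}

theorem nB (h : Bo U T B D) : B ≤ normalizer (U : Set K) := fun b hb => by
  obtain ⟨u, hu, t, ht, rfl⟩ := (h.mem b).1 hb
  exact mul_mem (le_normalizer hu) (h.sys.tU ht)

theorem nD (h : Bo U T B D) (i : I) : B ≤ normalizer (D i : Set K) := fun b hb => by
  obtain ⟨u, hu, t, ht, rfl⟩ := (h.mem b).1 hb
  exact mul_mem (h.sys.uD i hu) (h.sys.tD i ht)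

theorem cU (h : Bo U T B D) (b : B) {u : K} (hu : u ∈ U) : (b : K) * u * (b : K)⁻¹ ∈ U :=
  (mem_normalizer_iff.1 (nB h b.2) u).1 hu

theorem ab (h : Bo U T B D) (a b : B) : (((a * b)⁻¹ * (b * a) : B) : K) ∈ U := by
  obtain ⟨u, hu, s, hs, e1⟩ := (h.mem a).1 a.2
  obtain ⟨v, hv, t, ht, e2⟩ := (h.mem b).1 b.2
  have e : (((a * b)⁻¹ * (b * a) : B) : K) =
      (s * t)⁻¹ * ((u * (s * v * s⁻¹))⁻¹ * (v * (t * u * t⁻¹))) * (t * s) := by
    simp only [Subgroup.coe_mul, Subgroup.coe_inv, e1, e2]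
    group
  rw [e, ← h.comm s hs t ht]
  exact h.sys.conj_U (mul_mem hs ht)
    (mul_mem (inv_mem (mul_mem hu (h.sys.conj_U' hs hv))) (mul_mem hv (h.sys.conj_U' ht hu)))

theorem inf_UT (h : Bo U T B D) {x : K} (hU : x ∈ U) (hT : x ∈ T) : x = 1 := by
  obtain ⟨k, hk⟩ := h.two ⟨x, hU⟩
  have h1 : orderOf x ∣ 2 ^ k := orderOf_dvd_of_pow_eq_one (congrArg Subtype.val hk)
  have h2 : orderOf x ∣ Nat.card T := orderOf_dvd_natCard T hT
  exact orderOf_eq_one_iff.1 (Nat.eq_one_of_dvd_coprimes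
    (Nat.Coprime.pow_left k (Nat.coprime_two_left.2 h.odd)) h1 h2)

/-- the inertia group of `l` -/
def SL (h : Bo U T B D) (l : U →* ℂˣ) : Subgroup B where
  carrier := {b | ∀ u u' : U, (u' : K) = b * u * (b : K)⁻¹ → l u' = l u}
  one_mem' := fun u u' e => by
    have e' : u' = u := Subtype.ext (by rw [e]; simp)
    rw [e']
  mul_mem' := fun {a b} ha hb u u' e => by
    rw [← hb u ⟨_, cU h b u.2⟩ rfl]
    refine ha _ _ ?_
    rw [e]
    simp only [Subgroup.coe_mul]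
    group
  inv_mem' := fun {a} ha u u' e => by
    refine (ha u' u ?_).symm
    rw [e]
    simp only [Subgroup.coe_inv]
    group

theorem mem_SL (h : Bo U T B D) (l : U →* ℂˣ) (b : B) :
    b ∈ SL h l ↔ ∀ u u' : U, (u' : K) = b * u * (b : K)⁻¹ → l u' = l u := Iff.rfl

theorem SL_of_U (h : Bo U T B D) (l : U →* ℂˣ) {b : B} (hb : (b : K) ∈ U) : b ∈ SL h l := fun u u' e => by
  have e' : u' = ⟨b, hb⟩ * u * (⟨b, hb⟩ : U)⁻¹ := Subtype.ext e
  rw [e', map_mul, map_mul, map_inv, mul_inv_cancel_comm]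

theorem SL_normal (h : Bo U T B D) (l : U →* ℂˣ) : (SL h l).Normal := ⟨fun b hb g => by
  have e2 : g * b * g⁻¹ = ((b⁻¹ * g⁻¹)⁻¹ * (g⁻¹ * b⁻¹)) * b := by group
  rw [e2]
  exact mul_mem (SL_of_U h l (ab h _ _)) hb⟩

theorem rg_iff (h : Bo U T B D) (b : B) : b ∈ (inclusion h.uB).range ↔ (b : K) ∈ U :=
  ⟨fun ⟨u, hu⟩ => hu ▸ u.2, fun hb => ⟨⟨b, hb⟩, rfl⟩⟩

theorem rg_normal (h : Bo U T B D) : (inclusion h.uB).range.Normal :=
  ⟨fun b hb g => (rg_iff h _).2 (cU h g ((rg_iff h b).1 hb))⟩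

theorem odd_index [Finite K] (h : Bo U T B D) (l : U →* ℂˣ) : Odd (SL h l).index := by
  have := SL_normal h l
  refine Odd.of_dvd_nat h.odd (card_dvd_of_surjective ((QuotientGroup.mk' (SL h l)).comp (inclusion h.tB)) fun q => ?_)
  obtain ⟨b, rfl⟩ := QuotientGroup.mk'_surjective _ q
  obtain ⟨u, hu, t, ht, e⟩ := (h.mem b).1 b.2
  refine ⟨⟨t, ht⟩, ?_⟩
  have e' : b = ⟨u, h.uB hu⟩ * inclusion h.tB ⟨t, ht⟩ := Subtype.ext e
  have h1 : QuotientGroup.mk' (SL h l) ⟨u, h.uB hu⟩ = 1 :=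
    (QuotientGroup.eq_one_iff (⟨u, h.uB hu⟩ : B)).2 (SL_of_U h l hu)
  rw [e', map_mul, h1, one_mul]
  rfl

theorem exists_F (h : Bo U T B D) (l : U →* ℂˣ) : ∃ F : SL h l →* ℂˣ,
    (∀ (b : SL h l) (u : U), ((b : B) : K) = u → F b = l u) ∧ ∀ b : SL h l, ((b : B) : K) ∈ T → F b = 1 := by
  have hn : (U.subgroupOf B).Normal := normal_subgroupOf_of_le_normalizer (nB h)
  have h1 : U.subgroupOf B ≤ SL h l := fun b hb => SL_of_U h l hb
  obtain ⟨F, h2, h3⟩ := PF9.CliffGen.exists_extension (N := U.subgroupOf B) (T := SL h l) (U := T.subgroupOf B)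
    (eq_bot_iff.2 fun x hx => Subtype.ext (inf_UT h hx.1 hx.2))
    (eq_top_iff.2 fun b _ => by
      obtain ⟨u, hu, t, ht, e⟩ := (h.mem b).1 b.2
      have e' : b = ⟨u, h.uB hu⟩ * ⟨t, h.tB ht⟩ := Subtype.ext e
      rw [e']
      exact mul_mem_sup hu ht) h1 (lam := l.comp (subgroupOfEquivOfLe h.uB).toMonoidHom)
    (fun g hg => funext fun n => congrArg Units.val (hg ⟨(n : B), n.2⟩ ⟨_, cU h g n.2⟩ rfl)) 1
  refine ⟨F, fun b u e => ?_, fun b hb => h3 ⟨b, b.2, hb⟩⟩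
  have hb : (b : B) ∈ U.subgroupOf B := by
    rw [mem_subgroupOf, e]
    exact u.2
  have e' : u = ⟨(b : B), hb⟩ := Subtype.ext e.symm
  rw [e']
  exact h2 ⟨b, hb⟩

/-- **the standard character over `l`** -/
theorem exists_Ps [Fintype U] [Fintype B] [Finite K] (h : Bo U T B D) (l : U →* ℂˣ) : ∃ Ψ : B → ℂ, OI B Ψ ∧
    (∀ b, b ∉ SL h l → Ψ b = 0) ∧ (∀ t ∈ SL h l, (t : K) ∈ T → Ψ t = Ψ 1) ∧
    classInner (Ψ ∘ inclusion h.uB) (fun u => (l u : ℂ)) = 1 ∧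
    ∀ u : B, (u : K) ∈ U → (∀ (x : B) (u' : U), (u' : K) = x * u * (x : K)⁻¹ → l u' = 1) → Ψ u = Ψ 1 := by
  classical
  have hn := SL_normal h l
  obtain ⟨F, h1, h2⟩ := exists_F h l
  have h0 : ∀ b : SL h l, (∀ x : B, F ⟨x * b * x⁻¹, hn.conj_mem _ b.2 x⟩ = 1) →
      indFun (SL h l) (fun b => (F b : ℂ)) b = indFun (SL h l) (fun b => (F b : ℂ)) 1 := by
    intro b hb
    refine Eq.trans ?_ (NormalInd.indFun_coe (SL h l) (fun b => (F b : ℂ)) 1).symm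
    rw [NormalInd.indFun_coe]
    congr 1
    refine Finset.sum_congr rfl fun x _ => ?_
    rw [hb x, h2 _ (by simp)]
  refine ⟨indFun (SL h l) fun b => (F b : ℂ), ⟨?_, ?_⟩, fun b hb => NormalInd.indFun_of_not_mem _ _ hb,
    fun t ht hT => h0 ⟨t, ht⟩ fun x => ?_, ?_, fun u hu h3 => h0 ⟨u, SL_of_U h l hu⟩ fun x => ?_⟩
  · refine IndRes.isIrr_indFun_of_stabilizer _ (Linear.isIrrCharacter_hom F) fun g hg u u' e => ?_
    have h3 := congrFun hg ⟨inclusion h.uB u, SL_of_U h l u.2⟩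
    rw [NormalInduced.conjFn_apply, h1 _ u' e.symm, h1 _ u rfl] at h3
    exact Units.ext h3
  · rw [charDegree_of_eq (n := (SL h l).index) (by rw [NormalInd.indFun_one, map_one, Units.val_one, mul_one])]
    exact odd_index h l
  · obtain ⟨u, hu, s, hs, e⟩ := (h.mem x).1 x.2
    have e' : (⟨x * t * x⁻¹, hn.conj_mem _ ht x⟩ : SL h l) =
        ⟨⟨u, h.uB hu⟩, SL_of_U h l hu⟩ * ⟨t, ht⟩ * (⟨⟨u, h.uB hu⟩, SL_of_U h l hu⟩ : SL h l)⁻¹ := by
      refine Subtype.ext (Subtype.ext ?_)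
      simp only [Subgroup.coe_mul, Subgroup.coe_inv, e]
      calc u * s * t * (u * s)⁻¹ = u * (s * t) * s⁻¹ * u⁻¹ := by group
        _ = _ := by rw [h.comm s hs t hT]; group
    rw [e', map_mul, map_mul, map_inv, mul_inv_cancel_comm]
    exact h2 _ hT
  · have h3 : (indFun (SL h l) fun b => (F b : ℂ)) ∘ inclusion h.uB = (Nat.card (SL h l) : ℂ)⁻¹ •
        ∑ x : B, fun u : U => ((l.comp (RM.cj (nB h x.2)).toMonoidHom) u : ℂ) := by
      funext u
      have h4 := NormalInd.indFun_coe (SL h l) (fun b => (F b : ℂ)) ⟨inclusion h.uB u, SL_of_U h l u.2⟩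
      rw [Function.comp_apply, h4, Pi.smul_apply, Finset.sum_apply, smul_eq_mul]
      congr 1
      refine Finset.sum_congr rfl fun x _ => ?_
      rw [h1 _ (RM.cj (nB h x.2) u) rfl]
      rfl
    have h4 : ∀ x : B, classInner (fun u : U => ((l.comp (RM.cj (nB h x.2)).toMonoidHom) u : ℂ)) (fun u => (l u : ℂ)) =
        if x ∈ SL h l then 1 else 0 := by
      intro x
      rw [inner_ite]
      refine if_congr ⟨fun h5 u u' e => ?_, fun h5 => MonoidHom.ext fun u => h5 u _ rfl⟩ rfl rfl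
      have e' : u' = RM.cj (nB h x.2) u := Subtype.ext e
      rw [e']
      exact DFunLike.congr_fun h5 u
    rw [h3, Core.classInner_smul_left, Core.classInner_sum_left, Finset.sum_congr rfl fun x _ => h4 x, Finset.sum_boole,
      ← Fintype.card_subtype, ← Nat.card_eq_fintype_card]
    exact inv_mul_cancel₀ (Nat.cast_ne_zero.2 Nat.card_pos.ne')
  · rw [h1 _ ⟨_, cU h x hu⟩ rfl]
    exact h3 x _ rfl

theorem tw [Finite K] (h : Bo U T B D) {ψ ψ' : B → ℂ} (hψ : IsIrrCharacter B ψ) (hψ' : IsIrrCharacter B ψ')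
    {l : U →* ℂˣ} (h0 : ip (ψ ∘ inclusion h.uB) (fun u => (l u : ℂ)) ≠ 0)
    (h0' : ip (ψ' ∘ inclusion h.uB) (fun u => (l u : ℂ)) ≠ 0) :
    ∃ β : B →* ℂˣ, (∀ b : B, (b : K) ∈ U → β b = 1) ∧ ∀ b, ψ' b = β b * ψ b := by
  let _ := Fintype.ofFinite U
  let _ := Fintype.ofFinite B
  have := rg_normal h
  rw [ip_eq] at h0 h0'
  obtain ⟨β, h1, h2⟩ := GAL.C2.exists_tw (inclusion_injective h.uB) (fun a b => (rg_iff h _).2 (ab h a b)) hψ hψ'
    (Linear.isIrrCharacter_hom l) h0 h0'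
  exact ⟨β, fun b hb => h1 ⟨b, hb⟩, h2⟩

/-- **the irreducible characters over a linear character** -/
theorem ovr [Finite K] (h : Bo U T B D) {ψ : B → ℂ} (hψ : IsIrrCharacter B ψ) {l : U →* ℂˣ}
    (h0 : ip (ψ ∘ inclusion h.uB) (fun u => (l u : ℂ)) ≠ 0) :
    OI B ψ ∧ ip (ψ ∘ inclusion h.uB) (fun u => (l u : ℂ)) = 1 ∧ Js U B D ψ = sup U D l ∧
    (∀ b, b ∉ SL h l → ψ b = 0) ∧ ∃ β : B →* ℂˣ, ∀ t ∈ SL h l, (t : K) ∈ T → ψ t = β t * ψ 1 := by
  let _ := Fintype.ofFinite U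
  let _ := Fintype.ofFinite B
  obtain ⟨Ψ, h1, h2, h3, h4, h5⟩ := exists_Ps h l
  obtain ⟨β, h6, h7⟩ := tw h h1.1 hψ (l := l) (by rw [ip_eq, h4]; exact one_ne_zero) h0
  have h8 : ∀ u : B, (u : K) ∈ U → ψ u = Ψ u := fun u hu => by rw [h7, h6 u hu, Units.val_one, one_mul]
  have h9 : ψ 1 = Ψ 1 := h8 1 (one_mem _)
  refine ⟨⟨hψ, ?_⟩, ?_, ?_, fun b hb => by rw [h7, h2 b hb, mul_zero], β, fun t ht hT => by rw [h7, h3 t ht hT, h9]⟩
  · have h10 := h1.2
    unfold charDegree at h10 ⊢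
    rwa [h9]
  · rw [ip_eq, ← h4]
    congr 1
    exact funext fun u => h8 _ u.2
  · ext i
    constructor
    · rintro ⟨u, hu, h10, h11⟩
      by_contra h12
      apply h11
      rw [h8 u hu, h9]
      refine h5 u hu fun x u' e => ?_
      by_contra h13
      refine h12 ⟨u', fun j hj => ?_, h13⟩
      rw [e]
      exact (mem_normalizer_iff.1 (nD h j x.2) _).1 (h10 j hj)
    · rintro ⟨u, hu, h10⟩
      refine ⟨inclusion h.uB u, u.2, hu, fun h11 => h10 (Units.ext ?_)⟩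
      rw [ip_eq] at h0
      have h12 := PF9.CliffGen.constituent_ker (Core.isCharacter_comp (inclusion h.uB) (Core.isIrr_isCharacter hψ))
        (Linear.isIrrCharacter_hom l) h0 (y := u) (by
          rw [Function.comp_apply, Function.comp_apply, h11, map_one])
      rw [h12, map_one]

theorem exists_lin [Finite K] (h : Bo U T B D) {ψ : B → ℂ} (hψ : OI B ψ) :
    ∃ l : U →* ℂˣ, ip (ψ ∘ inclusion h.uB) (fun u => (l u : ℂ)) ≠ 0 := by
  obtain ⟨θ, h1, h2, h3⟩ := exists_under_not_dvd (inclusion h.uB) hψ.1 (r := 2) hψ.2.not_two_dvd_nat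
  have h4 := (H670.PSing.charDegree_pgroup h.two h1).resolve_right h3
  obtain ⟨l, rfl⟩ := Linear.exists_hom_of_isIrrCharacter h1 (by rw [← coe_charDegree h1, h4, Nat.cast_one])
  exact ⟨l, h2⟩

theorem over_psi [Finite K] [Fintype I] (h : Bo U T B D) {ψ : B → ℂ} (hψ : OI B ψ) {lam : I → (U →* ℂˣ)}
    (hl : Lam U D lam) {J : Finset I} (hJ : (J : Set I) = Js U B D ψ) :
    ip (ψ ∘ inclusion h.uB) (fun u => (psi lam J u : ℂ)) ≠ 0 := by
  let _ := Fintype.ofFinite U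
  obtain ⟨l, h0⟩ := exists_lin h hψ
  obtain ⟨t, ht, h1⟩ := exists_psi h hl l (hJ.trans (ovr h hψ.1 h0).2.2.1)
  have h2 : ip (ψ ∘ inclusion h.uB) (fun u => (l u : ℂ)) = ip (ψ ∘ inclusion h.uB) (fun u => (psi lam J u : ℂ)) := by
    rw [ip_eq, ip_eq, Core.classInner_def, Core.classInner_def]
    congr 1
    refine Fintype.sum_equiv (RM.cj (h.sys.tU ht)).toEquiv _ _ fun u => ?_
    rw [h1 u (RM.cj (h.sys.tU ht) u) rfl]
    congr 1
    exact (Core.isIrr_isClassFunction hψ.1 (inclusion h.uB u) ⟨t, h.tB ht⟩).symm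
  rwa [← h2]

end Bor

open Bor in
/-- **the characters of the Borel subgroup** -/
theorem borBox : BorBox := by
  intro K I _ _ _ U T B D h
  classical
  refine ⟨fun ψ hψ => ?_, fun ψ ψ' hψ hψ' hJ ht => ?_, fun lam hl => ⟨fun ψ hψ J => ⟨fun hJ => ?_, fun hJ => ?_⟩,
    fun ψ hψ l h0 => (ovr h hψ h0).1, fun lam' hl' => lam_conj h.sys hl hl', fun t ht i hf => ⟨ht, fun j hj u hu => ?_⟩⟩⟩
  · obtain ⟨l, h0⟩ := exists_lin h hψ
    obtain ⟨-, -, h1, -, β, h2⟩ := ovr h hψ.1 h0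
    refine ⟨β.comp (Subgroup.inclusion h.tB), fun t ht => h2 _ ?_ t.2⟩
    rw [h1] at ht
    exact (stab h l t.2).2 ht
  · obtain ⟨lam, hl⟩ := h.lam
    have h0 := over_psi h hψ hl (J := (Js U B D ψ).toFinset) (Set.coe_toFinset _)
    have h0' := over_psi h hψ' hl (J := (Js U B D ψ).toFinset) ((Set.coe_toFinset _).trans hJ)
    obtain ⟨β, h1, h2⟩ := tw h hψ.1 hψ'.1 h0 h0'
    obtain ⟨-, -, h3, h4, γ, h5⟩ := ovr h hψ.1 h0
    funext b
    by_cases hb : b ∈ SL h (H40.OC.psi lam (Js U B D ψ).toFinset)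
    · obtain ⟨u, hu, t, hT, e⟩ := (h.mem b).1 b.2
      have e' : b = ⟨u, h.uB hu⟩ * ⟨t, h.tB hT⟩ := Subtype.ext e
      have h6 : (⟨t, h.tB hT⟩ : B) ∈ SL h (H40.OC.psi lam (Js U B D ψ).toFinset) := by
        rw [e'] at hb
        exact (Subgroup.mul_mem_cancel_left _ (SL_of_U h _ hu)).1 hb
      have h7 := ht ⟨t, h.tB hT⟩ (by rw [h3]; exact (stab h _ hT).1 h6)
      have h8 : ψ ⟨t, h.tB hT⟩ * ψ 1 ≠ 0 := by
        rw [h5 _ h6 hT]
        exact mul_ne_zero (mul_ne_zero (Units.ne_zero _) hψ.one_ne) hψ.one_ne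
      rw [h2, h2, map_one, Units.val_one, one_mul, mul_assoc] at h7
      have h9 : (β ⟨t, h.tB hT⟩ : ℂ) = 1 := mul_right_cancel₀ h8 (h7.symm.trans (one_mul _).symm)
      have h10 : (β b : ℂ) = 1 := by rw [e', map_mul, h1 _ hu, one_mul, h9]
      rw [h2, h10, one_mul]
    · rw [h2, h4 b hb, mul_zero]
  · exact (ovr h hψ.1 (over_psi h hψ hl hJ)).2.1
  · by_contra h0
    exact hJ ((sup_psi h.sys hl J).symm.trans (ovr h hψ.1 h0).2.2.1.symm)
  · rw [Set.mem_singleton_iff.1 hj]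
    exact fix_D h (hl.one i) (hl.ne i) ht hf hu

end Cfsg.Agent.MK.Two
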