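import Cfsg.Agent.MK.Two.Defs

/-!
# MK, characteristic two: the two forms of the generic theorem (helper52)

* `boxT`, `boxS`, `boxes_of : GenBox → Boxes`.
-/

set_option autoImplicit false
set_option maxHeartbeats 400000
set_option linter.unusedSectionVars false

namespace Cfsg.Agent.MK.Two

open Cfsg Subgroup Cfsg.Agent.GAL.Two
open Cfsg.Agent.DL Cfsg.Agent.DL.PP Cfsg.Agent.Tits.Roots Cfsg.Agent.GAL.C2

section

variable {k : Type} [Field k] [CharP k 2] [IsAlgClosed k]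

theorem frob_inj {a b : k} {n : ℕ} (h : a ^ 2 ^ n = b ^ 2 ^ n) : a = b :=
  (iterateFrobenius k 2 n).injective h

theorem eq_of_pow_eq {i j n : ℕ} (hi : i < n) (hj : j < n) (h : ∀ a : k, a ^ 2 ^ n = a → a ^ 2 ^ i = a ^ 2 ^ j) :
    i = j := by
  wlog hij : i ≤ j generalizing i j
  · exact (this hj hi (fun a ha => (h a ha).symm) (by omega)).symm
  obtain ⟨m, rfl⟩ := Nat.exists_eq_add_of_le' hij
  by_contra h1
  obtain ⟨y, h2, h3⟩ := exists_not_pow (k := k) (i := m) (n := n) (by omega) (by omega)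
  exact h3 (frob_inj (n := i) (by rw [← pow_mul, ← pow_add, h y h2]))

variable {Y : Type} [Group Y] {N : Type} [Fintype N] [DecidableEq N]
  {ρ : Y →* GL N k} {F : MulAut Y} {G : Subgroup Y} {D : Datum 2 ρ F G}
  {X' S X : Type} [Group X'] [Group S] [Group X] {ι : X' →* Y} {pr : X' →* S} {π : X' →* X}

theorem Mo.ne_zero {d m : ℕ} (H : Mo D ι pr π d m) : m ≠ 0 := fun h => by
  have := (md_cx H.md).finS
  have h1 := H.card
  rw [h, mul_zero] at h1
  exact absurd h1 (not_le.2 Nat.card_pos)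

theorem pow_range {φ : MulAut Y} (h : ∀ x, φ (ι x) ∈ ι.range) (n : ℕ) (x : X') : (φ ^ n) (ι x) ∈ ι.range := by
  induction n with
  | zero => exact ⟨x, rfl⟩
  | succ n ih =>
    obtain ⟨y, hy⟩ := ih
    rw [pow_succ', MulAut.mul_apply, ← hy]
    exact h y

theorem pow_mod_apply {φ : MulAut Y} {n : ℕ} {g : Y} (h : (φ ^ n) g = g) (i : ℕ) : (φ ^ i) g = (φ ^ (i % n)) g := by
  have h1 : ∀ m, ((φ ^ n) ^ m) g = g := fun m => by
    induction m with
    | zero => rfl
    | succ m ih => rw [pow_succ, MulAut.mul_apply, h, ih]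
  conv_lhs => rw [← Nat.mod_add_div i n, pow_add, pow_mul, MulAut.mul_apply, h1]

end

theorem boxT (H : GenBox) : BoxT := by
  intro k _ _ Y _ N _ _ ρ F G _ D X' S X _ _ _ _ ι pr π d n M φ A hφ hr h1 ⟨j, hj⟩
  have : NeZero n := ⟨M.ne_zero⟩
  refine H (P := Fin n) (by rwa [Fintype.card_fin]) (fun i => sym_pow hφ i) (fun i => pow_range hr i)
    (fun i i' => ⟨⟨(i + i') % n, Nat.mod_lt _ (NeZero.pos n)⟩, fun g hg => ?_⟩) fun i i' h2 => Fin.ext ?_
  · rw [← MulAut.mul_apply, ← pow_add, pow_mod_apply (h1 g hg)]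
  · refine eq_of_pow_eq (k := k) i.2 i'.2 fun a ha => ?_
    obtain ⟨y, hy, rfl⟩ := hj a ha
    simpa only [one_mul] using h2 y hy j j rfl

theorem boxS (H : GenBox) : BoxS := by
  intro k _ _ Y _ N _ _ ρ F G _ D X' S X _ _ _ _ ι pr π P _ _ d e M ⟨j⟩ hσ he φ A hφ hr h1 ψ B s ε hψ hr' hs hc hm
  classical
  have : NeZero e := ⟨fun h => M.ne_zero (by rw [h, mul_zero])⟩
  have h0 : ∀ p (i : ℕ), ∀ g ∈ GF F G, ψ p ((φ ^ i) g) = (φ ^ i) (ψ p g) := fun p i g hg => by
    induction i with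
    | zero => rfl
    | succ i ih => rw [pow_succ', MulAut.mul_apply, MulAut.mul_apply, hc p _ ((sym_pow hφ i).mem_GF hg), ih]
  have hT : ∀ y : D.I → k, (∀ i, y i ^ 2 ^ e = y i) → FixT D.σ (fun i => D.ex (sr i)) y := fun y hy i => by
    rw [hσ]
    exact (hy i).symm.trans (by rw [← he i])
  refine H (P := P × Fin e) (by rwa [Fintype.card_prod, Fintype.card_fin]) (fun x => (sym_pow hφ x.2).mul (hψ x.1))
    (fun x y => ?_) (fun x x' => ?_) fun x x' h2 => ?_
  · obtain ⟨z, hz⟩ := hr' x.1 y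
    rw [MulAut.mul_apply, ← hz]
    exact pow_range hr _ z
  · obtain ⟨p, i, h2⟩ := hm x.1 x'.1
    refine ⟨(p, ⟨(x.2 + (x'.2 + i)) % e, Nat.mod_lt _ (NeZero.pos e)⟩), fun g hg => ?_⟩
    simp only [MulAut.mul_apply]
    rw [h0 _ _ _ ((hψ _).mem_GF hg), h2 g hg, ← pow_mod_apply (h1 _ ((hψ _).mem_GF hg)), pow_add, pow_add,
      MulAut.mul_apply, MulAut.mul_apply]
  · obtain ⟨p, i⟩ := x
    obtain ⟨p', i'⟩ := x'
    obtain rfl : p = p' := hs (Equiv.ext fun a => by
      obtain ⟨b, hb⟩ := (s p').surjective (s p a)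
      have h3 := h2 (Pi.single a 1) (hT _ fun i => by
        rw [Pi.single_apply]
        split_ifs <;> simp) a b hb.symm
      by_contra h4
      rw [Pi.single_eq_same, Pi.single_eq_of_ne fun h5 => h4 (by rw [← hb, h5])] at h3
      simp at h3)
    refine Prod.ext rfl (Fin.ext (eq_of_pow_eq (k := k) i.2 i'.2 fun a ha => frob_inj (n := ε p j) ?_))
    have h3 := h2 (fun _ => a) (hT _ fun _ => ha) j j rfl
    simp only [one_mul] at h3
    rwa [← pow_mul, ← pow_mul, ← pow_add, ← pow_add, add_comm, add_comm i'.1]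

/-- **the two forms from the generic theorem** -/
theorem boxes_of (H : GenBox) : Boxes := ⟨boxT H, boxS H⟩

end Cfsg.Agent.MK.Two
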