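import Cfsg.Agent.MK.Two.Defs

/-!
# MK, characteristic two: descent to a central quotient and to a subgroup (helper38)

`descBox : DescBox`.
-/

set_option autoImplicit false
set_option maxHeartbeats 400000

namespace Cfsg.Agent.MK.Two

open Cfsg Subgroup Cfsg.Agent.Characters.Core
open scoped ComplexConjugate

namespace Desc

variable {X' X : Type} [Group X'] [Group X]

/-- a homomorphism factors through a surjective one -/
theorem exists_fac {G H A : Type} [Group G] [Group H] [Group A] (φ : G →* H) (hφ : Function.Surjective φ)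
    (g : G →* A) (hk : ∀ z, φ z = 1 → g z = 1) : ∃ g' : H →* A, ∀ x, g' (φ x) = g x :=
  ⟨φ.liftOfRightInverse (Function.surjInv hφ) (Function.rightInverse_surjInv hφ) ⟨g, fun z hz => hk z hz⟩,
    fun x => φ.liftOfRightInverse_comp_apply _ _ _ x⟩

/-- two endomorphisms of a perfect group which differ by central elements are equal -/
theorem eq_of_cen (hp : commutator X' = ⊤) (a b : X' →* X') (h : ∀ x, (a x)⁻¹ * b x ∈ center X') (x : X') :
    a x = b x := by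
  let c : X' →* X' := MonoidHom.mk' (fun x => (a x)⁻¹ * b x) fun x y => by
    rw [← mul_assoc, ← mem_center_iff.1 (h x) (a y)⁻¹, map_mul, map_mul, mul_inv_rev]
    simp only [mul_assoc]
  have h1 : commutator X' ≤ c.ker := Subgroup.commutator_le.2 fun u _ v _ => by
    rw [MonoidHom.mem_ker, map_commutatorElement, commutatorElement_eq_one_iff_mul_comm]
    exact mem_center_iff.1 (h v) _
  exact inv_mul_eq_one.1 (MonoidHom.mem_ker.1 (h1 (hp ▸ mem_top x)))

/-- the data of the box -/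
structure Dt (π : X' →* X) (Λ' : Subgroup (MulAut X')) (Λ : Subgroup (MulAut X)) : Prop where
  surj : Function.Surjective π
  ker : π.ker ≤ center X'
  perf : commutator X' = ⊤
  lift : ∀ α ∈ Λ, ∃ α' ∈ Λ', ∀ x, π (α' x) = α (π x)
  inn : ∀ y, y ∈ In Λ' ↔ π y ∈ In Λ

theorem cen_mem (Λ' : Subgroup (MulAut X')) {z : X'} (hz : z ∈ center X') : z ∈ In Λ' := by
  have h1 : MulAut.conj z = 1 := MulEquiv.ext fun x => by
    change z * x * z⁻¹ = x
    rw [← mem_center_iff.1 hz x, mul_inv_cancel_right]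
  change MulAut.conj z ∈ Λ'
  rw [h1]
  exact one_mem _

namespace Dt

variable {π : X' →* X} {Λ' : Subgroup (MulAut X')} {Λ : Subgroup (MulAut X)} (d : Dt π Λ' Λ)

include d

/-- lifts are unique -/
theorem uniq {a b : MulAut X'} (h : ∀ x, π (a x) = π (b x)) : a = b :=
  MulEquiv.ext (eq_of_cen d.perf a.toMonoidHom b.toMonoidHom fun x => d.ker (by
    change π ((a x)⁻¹ * b x) = 1
    rw [map_mul, map_inv, h, inv_mul_cancel]))

/-- the preimage of the centre is the centre -/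
theorem cen {z : X'} (hz : π z ∈ center X) : z ∈ center X' := by
  have h1 : MulAut.conj z = 1 := d.uniq fun x => by
    change π (z * x * z⁻¹) = π x
    rw [map_mul, map_mul, map_inv, ← mem_center_iff.1 hz, mul_inv_cancel_right]
  refine mem_center_iff.2 fun x => ?_
  have h2 : z * x * z⁻¹ = x := MulEquiv.congr_fun h1 x
  exact (mul_inv_eq_iff_eq_mul.1 h2).symm

/-- the restriction of `π` -/
def p : In Λ' →* In Λ := (π.comp (In Λ').subtype).codRestrict (In Λ) fun y => (d.inn y).1 y.2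

theorem p_coe (y : In Λ') : (d.p y : X) = π y := rfl

theorem p_surj : Function.Surjective d.p := by
  intro y
  obtain ⟨x, hx⟩ := d.surj y
  exact ⟨⟨x, (d.inn x).2 (hx ▸ y.2)⟩, Subtype.ext hx⟩

/-- the lift of an automorphism -/
noncomputable def L : Λ →* Λ' :=
  MonoidHom.mk' (fun α => ⟨(d.lift α.1 α.2).choose, (d.lift α.1 α.2).choose_spec.1⟩) fun α β => Subtype.ext (d.uniq fun x => by
    change π ((d.lift _ (α * β).2).choose x) = π ((d.lift _ α.2).choose ((d.lift _ β.2).choose x))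
    rw [(d.lift _ (α * β).2).choose_spec.2, (d.lift _ α.2).choose_spec.2, (d.lift _ β.2).choose_spec.2]
    rfl)

theorem L_spec (α : Λ) (x : X') : π ((d.L α).1 x) = α.1 (π x) := (d.lift α.1 α.2).choose_spec.2 x

theorem p_rs (α : Λ) (y : In Λ') : d.p (rs Λ' (d.L α) y) = rs Λ α (d.p y) := Subtype.ext (d.L_spec α y)

/-- the descended map -/
noncomputable def om (Ω : (X' → ℂ) → In Λ' → ℂ) (θ : X → ℂ) : In Λ → ℂ :=
  fun y => Ω (θ ∘ π) (Function.surjInv d.p_surj y)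

variable [Finite X'] {Ω : (X' → ℂ) → In Λ' → ℂ} (c : CF Λ' Ω)

include c

theorem om_spec {θ : X → ℂ} (h : OI X θ) : OI (In Λ) (d.om Ω θ) ∧ ∀ y, d.om Ω θ (d.p y) = Ω (θ ∘ π) y := by
  have h1 : OI X' (θ ∘ π) := h.comp π d.surj
  have h2 : OI (In Λ') (Ω (θ ∘ π)) := c.bij.mapsTo h1
  obtain ⟨η, hη, he⟩ := ODD.Red.exists_quot d.p d.p_surj h2.1 fun z hz => by
    have h3 : π z = 1 := congrArg Subtype.val (show d.p z = 1 from hz)
    have h4 := c.cen _ h1 z (d.ker h3)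
    simp only [Function.comp, h3, map_one] at h4
    rw [mul_comm] at h4
    exact (mul_right_cancel₀ h.one_ne h4).symm
  have h5 : d.om Ω θ = η := funext fun y => by
    rw [om, ← he, Function.surjInv_eq d.p_surj]
  rw [h5]
  refine ⟨⟨hη, ?_⟩, he⟩
  rw [← deg_comp d.p η, show η ∘ d.p = Ω (θ ∘ π) from funext he]
  exact h2.2

theorem om_cen {θ : X → ℂ} (h : OI X θ) (z : In Λ) (hz : (z : X) ∈ center X) :
    θ z * d.om Ω θ 1 = d.om Ω θ z * θ 1 := by
  obtain ⟨y, rfl⟩ := d.p_surj z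
  have h4 := c.cen _ (h.comp π d.surj) y (d.cen hz)
  rw [← map_one d.p, (d.om_spec c h).2, (d.om_spec c h).2]
  simpa only [Function.comp, map_one, p_coe] using h4

omit c in
theorem oi_aut {θ : X → ℂ} (h : OI X θ) (α : MulAut X) : OI X fun x => θ (α x) :=
  haveI : Finite X := Finite.of_surjective π d.surj
  h.comp α.toMonoidHom α.surjective

theorem om_eqv {θ : X → ℂ} (h : OI X θ) (α : Λ) (y : In Λ) :
    d.om Ω (fun x => θ (α.1 x)) y = d.om Ω θ (rs Λ α y) := by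
  obtain ⟨y, rfl⟩ := d.p_surj y
  rw [← d.p_rs, (d.om_spec c h).2, (d.om_spec c (d.oi_aut h α.1)).2, ← c.eqv _ (h.comp π d.surj)]
  congr 1
  funext x
  simp only [Function.comp, d.L_spec]

theorem om_inj {θ θ' : X → ℂ} (h : OI X θ) (h' : OI X θ') (e : d.om Ω θ = d.om Ω θ') : θ = θ' := by
  refine d.surj.injective_comp_right (c.bij.injOn (h.comp π d.surj) (h'.comp π d.surj) (funext fun y => ?_))
  rw [← (d.om_spec c h).2, ← (d.om_spec c h').2, e]

theorem om_surj {ψ : In Λ → ℂ} (h : OI (In Λ) ψ) : ∃ θ, OI X θ ∧ d.om Ω θ = ψ := by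
  obtain ⟨θ₀, h0, e⟩ := c.bij.surjOn (h.comp d.p d.p_surj)
  obtain ⟨θ, hθ, he⟩ := ODD.Red.exists_quot π d.surj h0.1 fun z hz => by
    have h3 : d.p ⟨z, cen_mem Λ' (d.ker hz)⟩ = 1 := Subtype.ext hz
    have h4 := c.cen _ h0 ⟨z, cen_mem Λ' (d.ker hz)⟩ (d.ker hz)
    rw [e] at h4
    simp only [Function.comp, h3, map_one] at h4
    rw [mul_comm (ψ 1)] at h4
    exact mul_right_cancel₀ h.one_ne h4
  have he' : θ ∘ π = θ₀ := funext he
  have h1 : OI X θ := ⟨hθ, by rw [← deg_comp π θ, he']; exact h0.2⟩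
  refine ⟨θ, h1, funext fun y => ?_⟩
  obtain ⟨y, rfl⟩ := d.p_surj y
  rw [(d.om_spec c h1).2, he', e]
  rfl

theorem om_ext {θ : X → ℂ} (h : OI X θ) : ExtOn Λ (St Λ θ) θ (d.om Ω θ) := by
  obtain ⟨A, _, _, j, t, Ψ, ⟨n, ρ, -, rfl⟩, h1, h2, h3⟩ := c.ext _ (h.comp π d.surj)
  let u : A →* (Module.End ℂ (Fin n → ℂ))ˣ := MonoidHom.toHomUnits ρ
  have hs : Function.Surjective (π.prodMap d.p) := d.surj.prodMap d.p_surj
  obtain ⟨j', hj⟩ := exists_fac (π.prodMap d.p) hs (u.comp j) fun z hz => by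
    obtain ⟨x, y⟩ := z
    have h4 : π x = 1 := congrArg Prod.fst hz
    have h5 : d.p y = 1 := congrArg Prod.snd hz
    have h6 : ρ.character (j (x, y)) = ρ.character 1 := by
      rw [← map_one j, ← Prod.mk_one_one, h1, h1, ← (d.om_spec c h).2, ← (d.om_spec c h).2, h5, map_one]
      simp only [Function.comp, h4, map_one]
    have h7 : ρ (j (x, y)) = LinearMap.id := by
      rw [← Characters.Values.character_eq_finrank_iff, h6]
      simp
    exact Units.ext h7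
  have hj' : ∀ x y, j' (π x, d.p y) = u (j (x, y)) := fun x y => hj (x, y)
  let L : St Λ θ →* St Λ' (θ ∘ π) := MonoidHom.mk'
    (fun α => ⟨(d.L ⟨α.1, α.2.1⟩).1, (d.L ⟨α.1, α.2.1⟩).2, fun x => by
      simp only [Function.comp, d.L_spec]
      exact α.2.2 _⟩)
    fun α β => Subtype.ext (congrArg (fun γ : Λ' => γ.1) (map_mul d.L ⟨α.1, α.2.1⟩ ⟨β.1, β.2.1⟩))
  refine ⟨(Module.End ℂ (Fin n → ℂ))ˣ, inferInstance, j', u.comp (t.comp L),
    Representation.character (Units.coeHom _ : Representation ℂ (Module.End ℂ (Fin n → ℂ))ˣ (Fin n → ℂ)),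
    ⟨n, _, rfl⟩, fun x y => ?_, fun α x y y' e => ?_, fun y hy => ?_⟩
  · obtain ⟨x, rfl⟩ := d.surj x
    obtain ⟨y, rfl⟩ := d.p_surj y
    rw [hj', (d.om_spec c h).2]
    exact h1 x y
  · obtain ⟨x, rfl⟩ := d.surj x
    obtain ⟨y, rfl⟩ := d.p_surj y
    have h4 : y' = d.p (rs Λ' (d.L ⟨α.1, α.2.1⟩) y) := by
      rw [d.p_rs]
      exact Subtype.ext e
    have h5 : α.1 (π x) = π ((L α).1 x) := (d.L_spec ⟨α.1, α.2.1⟩ x).symm
    rw [h4, h5, hj', hj']
    change u (t (L α)) * _ = _ * u (t (L α))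
    rw [← map_mul, ← map_mul, h2 (L α) x y (rs Λ' (d.L ⟨α.1, α.2.1⟩) y) rfl]
  · obtain ⟨y, rfl⟩ := d.p_surj y
    have h4 : (L ⟨_, hy⟩).1 = MulAut.conj (y : X') := d.uniq fun x => by
      refine (d.L_spec ⟨_, hy.1⟩ x).trans ?_
      simp only [MulAut.conj_apply, map_mul, map_inv, p_coe]
    have h5 : MulAut.conj (y : X') ∈ St Λ' (θ ∘ π) := h4 ▸ (L ⟨_, hy⟩).2
    have h6 : L ⟨_, hy⟩ = ⟨_, h5⟩ := Subtype.ext h4
    change u (t (L ⟨_, hy⟩)) = j' (π y, d.p y)
    rw [h6, h3, hj']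

theorem cd (l : X → ℂ) : CD Λ l (d.om Ω) := by
  refine ⟨⟨fun θ h => ⟨(d.om_spec c h.1).1, fun z hz => ?_, fun α hα y => ?_⟩,
    fun θ h θ' h' e => d.om_inj c h.1 h'.1 e, fun ψ h => ?_⟩, fun θ h => d.om_eqv c h.1, fun θ h => d.om_ext c h.1⟩
  · have h1 := d.om_cen c h.1 z hz
    rw [h.2.1 z hz, mul_right_comm] at h1
    exact (mul_right_cancel₀ h.1.one_ne h1).symm
  · obtain ⟨k, hk⟩ := hα
    rw [← d.om_eqv c h.1]
    congr 1
    exact funext (h.2.2 α.1 α.2 ⟨k, congrArg Subtype.val hk⟩)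
  · obtain ⟨θ, hθ, rfl⟩ := d.om_surj c h.1
    refine ⟨θ, ⟨hθ, fun z hz => ?_, fun α hα ⟨k, hk⟩ => ?_⟩, rfl⟩
    · have h1 := d.om_cen c hθ ⟨z, cen_mem Λ hz⟩ hz
      rw [h.2.1 ⟨z, cen_mem Λ hz⟩ hz, mul_right_comm] at h1
      exact mul_right_cancel₀ h.1.one_ne h1
    · refine congrFun (d.om_inj c (d.oi_aut hθ α) hθ (funext fun y => ?_))
      exact (d.om_eqv c hθ ⟨α, hα⟩ y).trans (h.2.2 ⟨α, hα⟩ ⟨k, Subtype.ext hk⟩ y)

end Dt

end Desc

/-- **descent to a central quotient and to a subgroup** -/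
theorem descBox : DescBox := fun π hs hk hp Λ' Ω c Λ hl hi l =>
  ⟨_, Desc.Dt.cd (π := π) (Λ' := Λ') (Λ := Λ) (Ω := Ω) ⟨hs, hk, hp, hl, hi⟩ c l⟩

end Cfsg.Agent.MK.Two
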