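import Cfsg.Agent.MK.Two.Rel1

/-!
# MK, characteristic two: the relation between the characters of `G^F` and `B^F` (helper58)

`relBox (h : BorBox) : RelBox`.
-/

set_option autoImplicit false
set_option maxHeartbeats 400000
set_option linter.unusedSectionVars false

namespace Cfsg.Agent.MK.Two

open Cfsg CoxeterSystem Cfsg.Agent.Tits.Roots Cfsg.Agent.Nodes.Reps Cfsg.Agent.Nodes.BNOf
open Cfsg.Agent.DL Cfsg.Agent.DL.PP Cfsg.Agent.DL.Asm Cfsg.Agent.DL.Uni Cfsg.Agent.DL.Mk Cfsg.Agent.ODD.C2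
open Cfsg.Agent.GAL.C2 Cfsg.Agent.GAL.Two Cfsg.Agent.H40.OC Cfsg.Agent.Characters.Core Matrix

theorem Js_aut {K I : Type} [Group K] {U B : Subgroup K} {E : I → Subgroup K} (a : MulAut K) (s : Equiv.Perm I)
    (hU : ∀ u, a u ∈ U ↔ u ∈ U) (hUB : U ≤ B) (hE : ∀ o, ∀ u ∈ U, a u ∈ E (s o) ↔ u ∈ E o) {ψ ψ' : B → ℂ}
    (h : ∀ b b' : B, (b' : K) = a b → ψ' b = ψ b') (i : I) : i ∈ Js U B E ψ' ↔ s i ∈ Js U B E ψ := by
  have h1 : ψ' 1 = ψ 1 := h 1 1 (map_one a).symm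
  constructor
  · rintro ⟨u, hu, h2, h3⟩
    refine ⟨⟨a u, hUB ((hU _).2 hu)⟩, (hU _).2 hu, fun j hj => ?_, by rwa [← h u _ rfl, ← h1]⟩
    obtain ⟨j, rfl⟩ := s.surjective j
    exact (hE j _ hu).2 (h2 j fun e => hj (congrArg s e))
  · rintro ⟨u, hu, h2, h3⟩
    have h4 : a⁻¹ u ∈ U := by rwa [← hU, MulAut.apply_inv_self]
    refine ⟨⟨a⁻¹ u, hUB h4⟩, h4, fun j hj => ?_, by rwa [h _ u (MulAut.apply_inv_self _ a _).symm, h1]⟩
    rw [← hE j _ h4, MulAut.apply_inv_self]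
    exact h2 _ fun e => hj (s.injective e)

theorem Js_tw {K I : Type} [Group K] {U B : Subgroup K} {E : I → Subgroup K} (β : K →* ℂˣ) (h : ∀ u ∈ U, β u = 1)
    (ψ : B → ℂ) : Js U B E (fun b => β b * ψ b) = Js U B E ψ :=
  Set.ext fun i => exists_congr fun u => and_congr_right fun hu => and_congr_right fun _ => by
    simp only [h _ hu, OneMemClass.coe_one, map_one, Units.val_one, one_mul]

theorem oi_iff {H : Type} [Group H] {χ : H → ℂ} : OI H χ ↔ IsIrrCharacter H χ ∧ ¬ 2 ∣ charDegree χ :=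
  and_congr_right fun _ => by rw [← Nat.not_even_iff_odd, even_iff_two_dvd]

variable {k : Type} [Field k] [CharP k 2] {Y : Type} [Group Y] {N : Type} [Fintype N]
  [DecidableEq N] {ρ : Y →* GL N k} {F : MulAut Y} {G : Subgroup Y} [IsAlgClosed k] (D : Datum 2 ρ F G)
  [Fintype (GF F G)]

/-- the data of the relation -/
structure Rd (B : Subgroup (GF F G)) (d e : ℕ) (ζ : kˣ) (J : kˣ →* ℂˣ) (χ : GF F G → ℂ) (ψ : B → ℂ) (b0 : D.I → kˣ)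
    (z : D.R → kˣ) : Prop where
  inv : Inv D z
  tor : (pb (Wt D) b0 * z) ^ (2 ^ e - 1) = 1
  lb : Lb D d ζ χ (J.compLeft _ (pb (Wt D) b0 * z))
  cz : ∀ t : B, ((t : GF F G) : Y) ∈ Zc D → χ t * ψ 1 = ψ t * χ 1
  js : ∀ i, st D.cs D.h i b0 = 0 ↔ cl D i ∈ Js (UH D) B (Do D) ψ
  vl : ∀ i n v, Wt D *ᵥ v = (2 ^ n : ℤ) • Pi.single i 1 → ∀ x : kˣ, (x : k) = val b0 z i n v →
    ∀ t : B, ((t : GF F G) : Y) = nrm F d (D.τ (coch v ζ)) → ψ t = J x * ψ 1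

variable {D} {B : Subgroup (GF F G)} {d e : ℕ} {ζ : kˣ} {J : kˣ →* ℂˣ} {χ : GF F G → ℂ} {ψ ψ' : B → ℂ}
  {b0 b1 : D.I → kˣ} {z z' : D.R → kˣ} {α : MulAut Y} {A : Matrix D.R D.R ℤ} {π : Equiv.Perm D.I} {ε : D.I → ℕ}

theorem val_eq_zero {i : D.I} {n : ℕ} {v : D.R → ℤ} : val b0 z i n v = 0 ↔ st D.cs D.h i b0 = 0 := by
  rw [val, mul_eq_zero, or_iff_right (Units.ne_zero _), pow_eq_zero_iff (pow_ne_zero _ two_ne_zero)]

variable (V : Lev D d e ζ J) (hB : Bo (UH D) (TH D) B (Do D))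
include V

theorem exists_lift {c : D.R → ℂˣ} (hc : c ^ (2 ^ e - 1) = 1) : ∃ b, b ^ (2 ^ e - 1) = 1 ∧ J.compLeft _ b = c := by
  have : NeZero (2 ^ e - 1) := ⟨two_pow_ne V.lvl.e_pos⟩
  choose n _ hn using fun r => V.primJ.eq_pow_of_mem_rootsOfUnity (congrFun hc r)
  exact ⟨fun r => ζ ^ n r, funext fun r => by
    rw [Pi.pow_apply, ← pow_mul, mul_comm, pow_mul, V.prim.pow_eq_one, one_pow, Pi.one_apply],
    funext fun r => (map_pow J ζ _).trans (hn r)⟩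

theorem chr_of_J {b b' : D.R → kˣ} (hb : b ^ (2 ^ e - 1) = 1) (hb' : b' ^ (2 ^ e - 1) = 1) {v v' : D.R → ℤ}
    (h : chr v (J.compLeft _ b) = chr v' (J.compLeft _ b')) : chr v b = chr v' b' :=
  V.inj (map_tor _ hb) (map_tor _ hb') (by rwa [← chr_J, ← chr_J])

/-- the norm as an element of `T^F` -/
noncomputable def nr (v : D.R → ℤ) : TH D := ⟨⟨_, (nr_mem V.lvl V.prim v).2⟩, (nr_mem V.lvl V.prim v).1⟩

theorem nr_TJ {S : Set (Ob D)} {v : D.R → ℤ} (hv : ∀ i, cl D i ∈ S → (Wt D *ᵥ v) i = 0) :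
    (nr V v : GF F G) ∈ TJ (UH D) (TH D) (Do D) S :=
  (mem_TJ V.good.qs).2 (nrm_mem_of (ZP_F V.good.qs fun i hi => by rwa [cl_σ] at hi) d (coch_mem_ZP hv ζ))

theorem nr_TJ' {S : Set (Ob D)} {v : D.R → ℤ} {i : D.I} {n : ℕ} (hv : Wt D *ᵥ v = (2 ^ n : ℤ) • Pi.single i 1)
    (hi : cl D i ∉ S) : (nr V v : GF F G) ∈ TJ (UH D) (TH D) (Do D) S :=
  nr_TJ V fun j hj => by rw [hv, Pi.smul_apply, Pi.single_eq_of_ne (fun e : j = i => hi (e ▸ hj)), smul_zero]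

include hB

theorem Rd.aut (hα : Sym D α A π ε) (h : Rd D B d e ζ J χ ψ b0 z)
    (h1 : ∀ b b' : B, (b' : GF F G) = hα.au.aut b → ψ' b = ψ b') :
    Rd D B d e ζ J (fun g => χ (hα.au.aut g)) ψ' (pb (Ps π ε) b0) (pb A z) := by
  have h2 : pb (Wt D) (pb (Ps π ε) b0) * pb A z = pb A (pb (Wt D) b0 * z) := ext_chr fun v => by
    simp only [map_mul, chr_pb, mulVec_mulVec, hα.wt_mul]
  have h3 : ψ' 1 = ψ 1 := h1 1 1 (map_one _).symm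
  have h4 : ∀ i, st D.cs D.h i (pb (Ps π ε) b0) = st D.cs D.h (π i) b0 ^ 2 ^ ε i :=
    st_map D.cs D.h π ε _ (Ps_single π ε) hα.ps_wp (chr_pb _ · b0)
  obtain ⟨s, h5, h6⟩ := exists_perm V.good.qs V.good.cz hα
  refine ⟨h.inv.sym hα, h2 ▸ map_tor _ h.tor, ?_, fun t ht => ?_, fun i => ?_, fun i n v hv x hx t ht => ?_⟩
  · rw [h2, show J.compLeft _ (pb A (pb (Wt D) b0 * z)) = mon Aᵀ (J.compLeft _ (pb (Wt D) b0 * z)) from
      ext_chr fun v => by rw [chr_J, chr_pb, ← chr_J, chr_tr D A v]]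
    exact h.lb.aut hα.au
  · have h7 : ((hα.au.aut t : GF F G) : Y) ∈ Zc D := ⟨(hα.au.memT _).2 ht.1, fun i => by
      obtain ⟨i, rfl⟩ := π.surjective i
      obtain ⟨c, hc⟩ := (D.mem_T _).1 ht.1
      have h8 := ht.2 i
      rw [← hc, D.χ_τ, Units.val_eq_one] at h8
      rw [Au.coe_aut, ← hc, hα.au.tau, D.χ_τ, chr_wt_mon hα, h8, one_pow, Units.val_one]⟩
    rw [h1 t ⟨_, hB.tB h7.1⟩ rfl, h3, map_one]
    exact h.cz ⟨_, hB.tB h7.1⟩ h7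
  · rw [h4, pow_eq_zero_iff (pow_ne_zero _ two_ne_zero), h.js, ← h5]
    exact (Js_aut hα.au.aut s (fun u => hα.au.memU _) hB.uB h6 h1 _).symm
  · rw [h1 t ⟨_, hB.tB (nr V (A *ᵥ v)).2⟩ (Subtype.ext ?_), h3]
    · refine h.vl (π i) (ε i + n) (A *ᵥ v) ?_ x ?_ _ rfl
      · rw [mulVec_mulVec, hα.wt_mul, ← mulVec_mulVec, hv, mulVec_smul, Ps_single, pow_add, mul_comm, ← smul_smul]
        norm_cast
      · rw [hx, val, val, h4, chr_pb, ← pow_mul, ← pow_add]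
    · rw [Au.coe_aut, ht, ← nrm_map hα.au.comm, hα.au.tau, mon_coch]
      rfl

theorem Rd.tw (β : GF F G →* ℂˣ) (hβ : ∀ g : GF F G, (g : Y) ∈ GAL.C2.Gd D → β g = 1)
    (hu : ∀ g : GF F G, IsUni 2 (g : Y) → β g = 1) (h : Rd D B d e ζ J χ ψ b0 z) :
    ∃ z', Rd D B d e ζ J (fun g => β g * χ g) (fun b => β b * ψ b) b0 z' := by
  obtain ⟨z1, h1, h2, y, hy, w, hw, h3⟩ := lb_tw V.lvl V.prim h.lb β hβ hu
  have h4 : z1 ^ (2 ^ e - 1) = 1 := by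
    have := V.tor h2
    rwa [mul_pow, V.tor h.lb, one_mul] at this
  obtain ⟨z2, h5, rfl⟩ := exists_lift V h4
  have h6 : ∀ v, β (nr V v) = J (chr v z2) := fun v => by
    have h7 := (nrm_mem V.lvl V.prim hy hw v).2
    rw [← chr_J, ← h3 v ⟨_, h7⟩ rfl, eq_comm, ← mul_inv_eq_one, ← map_inv, ← map_mul]
    exact hβ _ (nrm_Gd (D.T_le_G (D.τ_mem _)) (Gd_comm hy (D.τ_mem _)) d)
  refine ⟨z * z2, h.inv.mul fun i => V.inj (map_tor _ h5) (one_pow _) (by rw [← chr_J, h1, map_one]), ?_, ?_,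
    fun t ht => ?_, fun i => ?_, fun i n v hv x hx t ht => ?_⟩
  · rw [← mul_assoc, mul_pow, h.tor, h5, mul_one]
  · rwa [← mul_assoc, map_mul]
  · simp only [OneMemClass.coe_one, map_one, Units.val_one, one_mul]
    rw [mul_assoc, h.cz t ht, mul_assoc]
  · rw [Js_tw β fun u hu' => ?_, h.js]
    obtain ⟨n, hn⟩ := pow_U D (mS hu')
    obtain ⟨j, -, hj⟩ := (Nat.dvd_prime_pow Nat.prime_two).1 (orderOf_dvd_of_pow_eq_one hn)
    exact hu u ⟨j, hj⟩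
  · simp only [OneMemClass.coe_one, map_one, Units.val_one, one_mul]
    rw [h.vl i n v hv (x * (chr v z2)⁻¹) (by
      rw [Units.val_mul, hx, val, val, map_mul, Units.val_mul, Units.val_inv_eq_inv_val]
      field_simp) t ht, show (t : GF F G) = nr V v from Subtype.ext ht, h6, ← mul_assoc, ← Units.val_mul, ← map_mul,
      mul_comm (chr v z2), inv_mul_cancel_right]

theorem Rd.un (hb : BorBox) (hχ : OI _ χ) (hψ : OI B ψ) (hψ' : OI B ψ') (h : Rd D B d e ζ J χ ψ b0 z)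
    (h' : Rd D B d e ζ J χ ψ' b1 z') : ψ = ψ' := by
  have := Fintype.ofFinite (Ob D)
  obtain ⟨m, ϖ, hϖ⟩ := V.good.cz
  obtain ⟨u, hu⟩ := h.lb.rel V.lvl V.prim hχ.1 h'.lb
  have h1 : ∀ {v i n}, Wt D *ᵥ v = (2 ^ n : ℤ) • Pi.single i 1 → val b0 z i n v = val b1 z' i n v :=
    val_eq h.inv h'.inv fun v => chr_of_J V h'.tor h.tor (hu v)
  have h2 : Js (UH D) B (Do D) ψ = Js (UH D) B (Do D) ψ' := Set.ext fun o => Quotient.inductionOn o fun i => by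
    rw [← h.js, ← h'.js, ← val_eq_zero (z := z), h1 (Wt_pi hϖ i), val_eq_zero]
  obtain ⟨μ, hμ⟩ := (hb hB).1 ψ hψ
  obtain ⟨μ', hμ'⟩ := (hb hB).1 ψ' hψ'
  rw [← h2] at hμ'
  obtain ⟨c, c1, c2⟩ := exists_labT V.lvl V.prim (μ * μ'⁻¹)
  have h3 : ∀ v, μ (nr V v) = μ' (nr V v) ↔ chr v c = 1 := fun v => by
    rw [← c2 v (nr V v) rfl, MonoidHom.mul_apply, MonoidHom.inv_apply, mul_inv_eq_one]
  refine (hb hB).2.1 ψ ψ' hψ hψ' h2 fun t ht => ?_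
  obtain ⟨v, hv, h4⟩ := exists_nrm_ZP V.lvl V.prim V.good.qs V.good.cz (fun i hi => by rwa [cl_σ] at hi)
    ((mem_TJ V.good.qs).1 ht) t.1.2.2
  obtain rfl : t = ⟨_, hB.tB (nr V v).2⟩ := Subtype.ext (Subtype.ext h4)
  rw [hμ _ ht, hμ' _ ht, (h3 v).2 ?_, mul_right_comm]
  have h5 : ∀ v, Wt D *ᵥ v = 0 → chr v c = 1 := fun v hv => (h3 v).1 (Units.ext ?_)
  · have h6 : ∀ i, chr ((Wt D *ᵥ v) i • ϖ i) c = 1 := fun i => by
      by_cases hi : cl D i ∈ Js (UH D) B (Do D) ψ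
      · rw [hv i hi, zero_smul, chr_zero]
      · have h7 : val b0 z i m (ϖ i) ≠ 0 := fun e => hi ((h.js i).1 (val_eq_zero.1 e))
        have h8 := h.vl i m _ (Wt_pi hϖ i) (Units.mk0 _ h7) rfl ⟨_, hB.tB (nr V (ϖ i)).2⟩ rfl
        have h9 := h'.vl i m _ (Wt_pi hϖ i) (Units.mk0 _ h7) (h1 (Wt_pi hϖ i)) ⟨_, hB.tB (nr V (ϖ i)).2⟩ rfl
        rw [hμ _ (nr_TJ' V (Wt_pi hϖ i) hi)] at h8
        rw [hμ' _ (nr_TJ' V (Wt_pi hϖ i) hi)] at h9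
        rw [chr_zsmul, (h3 _).1 (Units.ext ((mul_right_cancel₀ hψ.one_ne h8).trans
          (mul_right_cancel₀ hψ'.one_ne h9).symm)), _root_.one_zpow]
    have h7 := h5 ((2 ^ m : ℤ) • v - ∑ i, (Wt D *ᵥ v) i • ϖ i) (by rw [mulVec_sub, mulVec_smul, Wt_sum hϖ, sub_self])
    rw [chr_sub, chr_sum, Finset.prod_eq_one fun i _ => h6 i, inv_one, mul_one, chr_zsmul] at h7
    exact H672.units_eq_one_of_pow (A := 2 ^ m) (B := 2 ^ e - 1)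
      (Nat.Coprime.pow_left m (Mn.odd_two_pow_sub_one V.lvl.e_pos).coprime_two_left) (by exact_mod_cast h7)
      (map_tor _ (tor_of c1 (V.lvl.pow 1)))
  · have h6 : ((nr V v : GF F G) : Y) ∈ Zc D := nrm_mem_of (Zc_F V.good.qs) d (coch_mem_Zc hv ζ)
    have h7 := h.cz ⟨_, hB.tB (nr V v).2⟩ h6
    have h8 := h'.cz ⟨_, hB.tB (nr V v).2⟩ h6
    rw [hμ _ (nr_TJ V fun i _ => congrFun hv i), mul_right_comm] at h7
    rw [hμ' _ (nr_TJ V fun i _ => congrFun hv i), mul_right_comm] at h8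
    exact mul_right_cancel₀ hχ.one_ne ((mul_right_cancel₀ hψ.one_ne h7).symm.trans (mul_right_cancel₀ hψ'.one_ne h8))

theorem Rd.ex (hb : BorBox) (hψ : OI B ψ) : ∃ χ b0 z, OI _ χ ∧ Rd D B d e ζ J χ ψ b0 z := by
  classical
  have := Fintype.ofFinite (Ob D)
  have hF := Sym.self V.good.qs
  obtain ⟨μ, hμ⟩ := (hb hB).1 ψ hψ
  obtain ⟨c, c1, c2⟩ := exists_labT V.lvl V.prim μ
  obtain ⟨b, b1, rfl⟩ := exists_lift V (tor_of c1 (V.lvl.pow 1))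
  obtain ⟨b2, z, hz, rfl⟩ := exists_fac b
  obtain ⟨b0, h0⟩ := st_surj D.cs D.h fun i => if cl D i ∈ Js (UH D) B (Do D) ψ then 0 else (b2 i : k)
  let Ψ := Ps D.σ fun i => D.ex (sr i)
  have h1 : pb D.Mx z = pb (Wt D) (b2 * (pb Ψ b2)⁻¹) * z := ext_chr fun v => by
    have h2 := chr_of_J V b1 b1 (c1 v)
    rw [D.Wm_one, Matrix.one_mul, map_mul, map_mul, chr_pb, mulVec_mulVec, hF.wt_mul] at h2
    rw [map_mul, map_mul, map_mul, map_inv, map_inv, chr_pb _ _ z, chr_pb _ _ (pb Ψ b2), chr_pb Ψ, mulVec_mulVec,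
      mul_right_comm, ← h2, mul_comm (chr _ b2), mul_inv_cancel_right]
  have h2 : Inv D (pb (Wt D) (b2 * (pb Ψ b2)⁻¹)) := fun i => by
    have := hz.sym hF i
    rwa [h1, map_mul, hz i, mul_one] at this
  obtain ⟨u, hu⟩ := st_inj D.cs D.h (b := b0) (b' := pb Ψ b0 * (b2 * (pb Ψ b2)⁻¹)) fun i => by
    rw [st_mul D.cs D.h (inv_pb h2), st_map D.cs D.h _ _ _ (Ps_single _ _) hF.ps_wp (chr_pb _ · b0), h0, h0, cl_σ]
    split_ifs
    · rw [zero_pow (pow_ne_zero _ two_ne_zero), mul_zero]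
    · rw [Pi.mul_apply, Pi.inv_apply, pb_Ps, ← Units.val_pow_eq_pow_val, ← Units.val_mul, inv_mul_cancel_right]
  have h3 : ∀ v, chr ((D.Wm (D.Fw u) * D.Mx) *ᵥ v) (pb (Wt D) b0 * z) = chr v (pb (Wt D) b0 * z) := fun v => by
    rw [← D.Mx_Wm, ← mulVec_mulVec, map_mul, map_mul, ← chr_pb D.Mx _ z, h1, map_mul, hz.wm, ← mul_assoc, chr_pb,
      chr_pb, chr_pb, mulVec_mulVec, hF.wt_mul, ← mulVec_mulVec, ← chr_pb Ψ, ← map_mul, mulVec_mulVec, Wt_Wm,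
      ← mulVec_mulVec, hu]
  obtain ⟨χ, h4, h5, h6⟩ := exists_of_fx V.lvl V.prim V.good.cz (c := J.compLeft _ (pb (Wt D) b0 * z)) (w := D.Fw u)
    fun v => by rw [chr_J, chr_J, h3]
  refine ⟨χ, b0, z, oi_iff.2 ⟨h4, h5⟩, hz, tor_of h3 (V.lvl.pow _), h6, fun t ht => ?_, fun i => ?_,
    fun i n v hv x hx t ht => ?_⟩
  · obtain ⟨v, hv, h7⟩ := exists_nrm_cen V.lvl V.prim V.good.qs V.good.cz ht t.1.2.2
    obtain rfl : t = ⟨_, hB.tB (nr V v).2⟩ := Subtype.ext (Subtype.ext h7)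
    rw [hμ _ (nr_TJ V fun i _ => congrFun hv i), c2 v _ rfl, lb_nrm V.lvl V.prim h4 h6 V.good.qs hv h7, chr_J, chr_J,
      map_mul (chr v), map_mul (chr v), chr_pb, chr_pb, hv, chr_zero, chr_zero, mul_right_comm]
  · rw [h0]
    split_ifs with hi
    · exact iff_of_true rfl hi
    · exact iff_of_false (Units.ne_zero _) hi
  · have hi : cl D i ∉ Js (UH D) B (Do D) ψ := fun hi => x.ne_zero (by
      rw [hx, val_eq_zero, h0, if_pos hi])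
    obtain rfl : t = ⟨_, hB.tB (nr V v).2⟩ := Subtype.ext (Subtype.ext ht)
    rw [hμ _ (nr_TJ' V hv hi), c2 v _ rfl, chr_J, show x = chr v (pb (Wt D) b2 * z) from Units.ext (by
      rw [hx, val, h0, if_neg hi, map_mul, chr_fac hv, mul_comm, Units.val_mul, Units.val_pow_eq_pow_val])]

omit V hB

/-- **the relation** -/
theorem relBox (hb : BorBox) : RelBox := by
  intro k _ _ Y _ N _ _ ρ F G _ D h B hB
  have := D.amb.finite_GF G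
  have := Fintype.ofFinite (GF F G)
  obtain ⟨d, e, ζ, J, V⟩ := exists_lev h
  refine ⟨fun χ ψ => ∃ b0 z, Rd D B d e ζ J χ ψ b0 z, fun ψ hψ => ?_, ?_, ?_, ?_, ?_⟩
  · obtain ⟨χ, b0, z, h1, h2⟩ := Rd.ex V hB hb hψ
    exact ⟨χ, h1, b0, z, h2⟩
  · rintro χ ψ ψ' hχ hψ hψ' ⟨b0, z, h1⟩ ⟨b1, z', h2⟩
    exact h1.un V hB hb hχ hψ hψ' h2
  · rintro α A π ε hα χ ψ ψ' - - ⟨b0, z, h1⟩ h2
    exact ⟨_, _, h1.aut V hB hα h2⟩
  · rintro β h1 h2 χ ψ - - ⟨b0, z, h3⟩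
    exact ⟨b0, h3.tw V hB β h1 h2⟩
  · rintro χ ψ - - ⟨b0, z, h1⟩
    exact h1.cz

end Cfsg.Agent.MK.Two
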