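import Cfsg.Agent.MK.Two.Defs
import Cfsg.Agent.GAL.C2.RowC
import Cfsg.Agent.GAL.C2.RowD
import Cfsg.Agent.LieClassical.OrthForms
import Cfsg.Agent.LieClassical.OrthFinite
import Cfsg.Agent.ClassicalGeometry.OrthSemi

/-!
# MK, characteristic two: the families with trivial centre and without diagonal automorphisms (helper4)

`gdA_sp`, `gdA_psp` (`q ≥ 4`), `gdA_sz`, `gdA_G2` (`q ≥ 4`), `gdA_F4` (`q ≥ 4`), `gdA_E7`, `gdA_E8`, `gdA_tD4`, `gdA_tF4`,
`gdA_plus` (`m ≥ 5`), `gdA_minus`.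
Reusable: `CX.boxS2` (one graph automorphism), `CX.mo_id`, `CX.mo_quot`, `CX.fixT_one`, `CX.fixT_swap`, `CX.qs_plus`.
-/

set_option autoImplicit false
set_option maxHeartbeats 400000
set_option linter.unusedSectionVars false

namespace Cfsg.Agent.MK.Two.CX

open Cfsg Cfsg.Lie Cfsg.Agent.Tits.Roots Cfsg.Agent.Nodes Cfsg.Agent.BpExc.TowChev Cfsg.Agent.BpExc.Fr
open Cfsg.Agent.DL Cfsg.Agent.DL.PP Cfsg.Agent.DL.Ex Cfsg.Agent.DL.Tw Cfsg.Agent.ODD.C2 Cfsg.Agent.GAL.C2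
open Cfsg.Agent.GAL.C2.RX Cfsg.Agent.GAL.C2.RC Cfsg.Agent.GAL.C2.RD Cfsg.Agent.H129.TorusChar

theorem of_perf {X : Type} [Group X] (h : commutator X = ⊤ → GdA X) : GdA X := fun Γ hΓ => h hΓ.qs.1.1 Γ hΓ

section fix

variable {I k : Type} [Field k]

theorem fixT_one {π : Equiv.Perm I} {ε : I → ℕ} {n : ℕ} (hε : ∀ i, ε i = n) (j : I) (a : k)
    (h : a ^ 2 ^ n = a) : ∃ y, FixT π ε y ∧ y j = a :=
  ⟨fun _ => a, fun i => by rw [hε, h], rfl⟩

theorem fixT_swap {π : Equiv.Perm I} {ε : I → ℕ} {n : ℕ} {j : I} (h1 : π j ≠ j) (h2 : π (π j) = j)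
    (hε : ε j + ε (π j) = n) (a : k) (h : a ^ 2 ^ n = a) : ∃ y, FixT π ε y ∧ y j = a := by
  classical
  refine ⟨fun i => if i = j then a else if i = π j then a ^ 2 ^ ε j else 0, fun i => ?_, if_pos rfl⟩
  beta_reduce
  by_cases hi : i = j
  · rw [hi, if_neg h1, if_pos rfl, if_pos rfl]
  by_cases hi' : i = π j
  · rw [hi', h2, if_pos rfl, if_neg h1, if_pos rfl, ← pow_mul, ← pow_add, hε, h]
  · rw [if_neg hi, if_neg hi', if_neg fun e => hi' (π.injective (e.trans h2.symm)),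
      if_neg fun e => hi (π.injective e), zero_pow (pow_ne_zero _ two_ne_zero)]

theorem fixT_tri {π : Equiv.Perm (Fin 4)} {e : ℕ} (hπ : ⇑π = piD4) (a : k) (h : a ^ 2 ^ (3 * e) = a) :
    ∃ y, FixT π (fun _ => e) y ∧ y 0 = a := by
  refine ⟨![a, 0, a ^ 2 ^ e, (a ^ 2 ^ e) ^ 2 ^ e], fun i => ?_, rfl⟩
  rw [hπ]
  fin_cases i
  · rfl
  · exact (zero_pow (pow_ne_zero _ two_ne_zero)).symm
  · rfl
  · show a = ((a ^ 2 ^ e) ^ 2 ^ e) ^ 2 ^ e
    rw [← pow_mul, ← pow_mul, ← pow_add, ← pow_add, show e + (e + e) = 3 * e by ring, h]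

end fix

section gen

variable {k : Type} [Field k] [CharP k 2] {Y : Type} [Group Y] {N : Type} [Fintype N]
  [DecidableEq N] {ρ : Y →* GL N k} {F : MulAut Y} {G : Subgroup Y} [IsAlgClosed k] {D : Datum 2 ρ F G}
  {X' S X : Type} [Group X'] [Group S] [Group X]

/-- the model if `S = G^F` has trivial centre -/
theorem mo_id {ι : S →* Y} (hG : Good D) (hE : Emb F G D.T ι 1) (hZ : Subgroup.center S = ⊥) (e : X ≃* S)
    (hp : commutator X = ⊤) {m : ℕ} (h : Nat.card (MulAut S) = Nat.card S * m) :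
    Mo D ι (MonoidHom.id S) e.symm.toMonoidHom 1 m where
  md := md_of_emb hG hE hZ
  zS := hZ
  perf :=
    have : Group.IsPerfect X := ⟨hp⟩
    (Group.IsPerfect.ofSurjective (f := e.toMonoidHom) e.surjective).1
  surj := e.symm.surjective
  ker x hx := by
    rw [show x = 1 from e.symm.injective (hx.trans (map_one _).symm)]
    exact one_mem _
  dg := ⟨1, one_mem _, fun _ _ _ _ _ => one_dvd _⟩
  card := by rw [h, mul_one]

/-- the model if `X' = G^F` is quasisimple and `X` is its central quotient -/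
theorem mo_quot {ι : X' →* Y} (hG : Good D) (hE : Emb F G D.T ι 1) (hq : IsQuasisimple X')
    (e : X ≃* X' ⧸ Subgroup.center X') {m : ℕ}
    (h : Nat.card (MulAut (X' ⧸ Subgroup.center X')) = Nat.card (X' ⧸ Subgroup.center X') * m) :
    Mo D ι (QuotientGroup.mk' (Subgroup.center X'))
      (e.symm.toMonoidHom.comp (QuotientGroup.mk' (Subgroup.center X'))) 1 m where
  md := md_quot hG hE
  zS := center_quot hq.2
  perf := hq.1.1
  surj := e.symm.surjective.comp (QuotientGroup.mk'_surjective _)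
  ker x hx := (QuotientGroup.eq_one_iff x).1 (e.symm.injective (hx.trans (map_one _).symm))
  dg := ⟨1, one_mem _, fun _ _ _ _ _ => one_dvd _⟩
  card := by rw [h, mul_one]

theorem fix_of_emb {ι : X' →* Y} {T : Subgroup Y} (hE : Emb F G T ι 1) {α : MulAut Y} (h : ∀ s, α (ι s) = ι s) :
    ∀ g ∈ GF F G, α g = g := fun g hg => by
  obtain ⟨s, rfl⟩ := range_of_emb hE hg
  exact h s

theorem card_of_out [Finite S] (hZ : Subgroup.center S = ⊥) {n : ℕ} (h : Nat.card (Out S) = n) :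
    Nat.card (MulAut S) = Nat.card S * n := by rw [GAL.Nrm.card_out hZ, h, mul_comm]

/-- split groups with one graph automorphism `ψ` -/
theorem boxS2 (hB : Boxes) [Finite X] {ι : X' →* Y} {pr : X' →* S} {π : X' →* X} {d e : ℕ}
    (hM : Mo D ι pr π d (2 * e)) (hI : Nonempty D.I) (hσ : D.σ = 1) (hex : ∀ i, D.ex (sr i) = e)
    {φ : MulAut Y} {A : Matrix D.R D.R ℤ} (hφ : Sym D φ A 1 fun _ => 1) (hφ1 : ∀ x, φ (ι x) ∈ ι.range)
    (hφ2 : ∀ g ∈ GF F G, (φ ^ e) g = g) {ψ : MulAut Y} {B : Matrix D.R D.R ℤ} {s : Equiv.Perm D.I} {ε : D.I → ℕ}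
    (hψ : Sym D ψ B s ε) (hψ1 : ∀ x, ψ (ι x) ∈ ι.range) (hs : s ≠ 1) (hc : ∀ g ∈ GF F G, ψ (φ g) = φ (ψ g))
    {i : ℕ} (h2 : ∀ g ∈ GF F G, ψ (ψ g) = (φ ^ i) g) : GdA X := by
  refine hB.s (P := Bool) (e := e) (by rw [Fintype.card_bool]; exact hM) hI hσ hex hφ hφ1 hφ2
    (ψ := fun p => cond p ψ 1) (B := fun p => cond p B 1) (s := fun p => cond p s 1)
    (ε := fun p => cond p ε fun _ => 0) (fun p => ?_) (fun p x => ?_) (fun p p' h => ?_) (fun p g hg => ?_)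
    fun p p' => ?_
  · cases p
    · exact Sym.one
    · exact hψ
  · cases p
    · exact ⟨x, rfl⟩
    · exact hψ1 x
  · cases p <;> cases p'
    · rfl
    · exact absurd h.symm hs
    · exact absurd h hs
    · rfl
  · cases p
    · rfl
    · exact hc g hg
  · cases p <;> cases p'
    · exact ⟨false, 0, fun _ _ => rfl⟩
    · exact ⟨true, 0, fun _ _ => rfl⟩
    · exact ⟨true, 0, fun _ _ => rfl⟩
    · exact ⟨false, i, h2⟩

end gen

section chev

variable {k : Type} [Field k] [CharP k 2] [IsAlgClosed k] (hk : LocFin k)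

/-- the split groups with field automorphisms only -/
theorem gdA_split (hB : Boxes) {D : ChevalleyDatum} {l : ℕ} {M : CoxeterMatrix (Fin l)}
    (hp : RGDChev.IsType D l M) {e : ℕ} (he : 0 < e) {m : ℕ} {B : Fin l → Fin l → ℤ}
    (h : InvC D l (2 ^ m) B) (j : Fin l) (hG : Good (chev (p := 2) hp hk he)) {K : Type} [Field K] [Fintype K]
    (f : K →+* k) (hK : Fintype.card K = 2 ^ e) (hO : Nat.card (Out ↥(D.group K)) = e)
    {X : Type} [Group X] [Finite X] (a : X ≃* ↥(D.group K)) : GdA X := by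
  have hZ := H70.OutCount.center_eq_bot (F := K) hp.inList
  have hE := emb_chev hp hk he h f hK
  have : Finite ↥(D.group K) := Finite.of_equiv _ a.toEquiv
  exact of_perf fun hX => hB.t (mo_id hG hE hZ a hX (card_of_out hZ hO)) (sym_chev hp hk he)
    (stab_of_emb hE (sym_chev hp hk he)) (fix_of_emb hE fun s => by rw [frobA_pow hp, frobA_emb _ f hK])
    ⟨j, fixT_one (fun _ => rfl) j⟩

theorem sz_frob (m e : ℕ) (y : ↥(chevB2.group k)) :
    szA k m (frobA tyB2.inList 2 e y) = frobA tyB2.inList 2 e (szA k m y) :=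
  Spc.emb_comm (iterateFrobenius k 2 e) (F₀ := (szA k m).toMonoidHom) (spc_B2 k m) (spc_B2 k m) y

theorem ste_frob (m e : ℕ) (y : ↥(chevF4.group k)) :
    steA k m (frobA tyF4.inList 2 e y) = frobA tyF4.inList 2 e (steA k m y) :=
  Spc.emb_comm (iterateFrobenius k 2 e) (spc_ste k m) (spc_F4 m) y

theorem sym_Sz (m : ℕ) :
    Sym (datB2 hk m) (frobA tyB2.inList 2 1) (chev (p := 2) tyB2 hk one_pos).Mx 1 fun _ => 1 :=
  Sym.of_withF (D := datB2 hk m) (chev (p := 2) tyB2 hk one_pos).amb (chev (p := 2) tyB2 hk one_pos).g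
    (chev (p := 2) tyB2 hk one_pos).ex (chev (p := 2) tyB2 hk one_pos).g_root (chev (p := 2) tyB2 hk one_pos).F_x
    (chev (p := 2) tyB2 hk one_pos).F_τ (fun y => (sz_frob m 1 y).symm) (fun _ => rfl) fun _ => rfl

theorem sym_tF4 (m : ℕ) :
    Sym (datF4 hk m) (frobA tyF4.inList 2 1) (chev (p := 2) tyF4 hk one_pos).Mx 1 fun _ => 1 :=
  Sym.of_withF (D := datF4 hk m) (chev (p := 2) tyF4 hk one_pos).amb (chev (p := 2) tyF4 hk one_pos).g
    (chev (p := 2) tyF4 hk one_pos).ex (chev (p := 2) tyF4 hk one_pos).g_root (chev (p := 2) tyF4 hk one_pos).F_x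
    (chev (p := 2) tyF4 hk one_pos).F_τ (fun y => (ste_frob m 1 y).symm) (fun _ => rfl) fun _ => rfl

end chev

section orth

open Cfsg.Agent.LieClassical.OrthFinite Cfsg.Agent.LieClassical.OrthCore Cfsg.Agent.LieClassical.OrthTrans
  Cfsg.Agent.LieClassical.OrthForms

variable {F : Type} [Field F] [Finite F]

theorem qs_form {ι : Type} [Fintype ι] [DecidableEq ι] {Q : QuadraticForm F (ι → F)} (hN : Nondeg Q)
    (hn : 5 ≤ Fintype.card ι) : IsQuasisimple ↥(Omega F ⇑Q) := by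
  have hG := good_of_finite hN (by rw [Module.finrank_fintype_fun_eq_card]; exact hn)
  have h2 : Group.IsPerfect ↥(E Q) := ⟨ClassicalGeometry.OrthSemi.commutator_E hG⟩
  have e : ↥(E Q) ≃* Omega F (⇑Q) := ((omegaEquiv Q).trans (MulEquiv.subgroupCongr hG.commutator_eq_E)).symm
  exact ⟨Group.IsPerfect.ofSurjective (f := e.toMonoidHom) e.surjective, isSimpleGroup_POmega hN hn⟩

theorem qs_plus {m : ℕ} (hm : 3 ≤ m) : IsQuasisimple ↥(Omega F (quadFormPlus m F)) := by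
  have h := qs_form (nondeg_plusForm m F) (by simp; omega)
  rwa [coe_plusForm] at h

theorem qs_minus {m : ℕ} (hm : 2 ≤ m) {a b : F}
    (hab : ∀ z₁ z₂ : F, z₁ ^ 2 + a * z₁ * z₂ + b * z₂ ^ 2 = 0 → z₁ = 0 ∧ z₂ = 0) :
    IsQuasisimple ↥(Omega F (quadFormMinus m F a b)) := by
  have h := qs_form (nondeg_minusForm m F a b hab) (by simp; omega)
  rwa [coe_minusForm] at h

end orth

end Cfsg.Agent.MK.Two.CX

namespace Cfsg.Agent.MK.Two

open Cfsg Cfsg.Lie Cfsg.Agent.Tits.Roots Cfsg.Agent.Nodes Cfsg.Agent.BpExc.TowChev Cfsg.Agent.BpExc.Fr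
open Cfsg.Agent.DL Cfsg.Agent.DL.PP Cfsg.Agent.DL.Ex Cfsg.Agent.DL.Tw Cfsg.Agent.ODD.C2 Cfsg.Agent.GAL.C2
open Cfsg.Agent.GAL.C2.RX Cfsg.Agent.GAL.C2.RC Cfsg.Agent.GAL.C2.RD Cfsg.Agent.H129.TorusChar CX Matrix

variable (hB : Boxes) (F : Type) [Field F] [Fintype F] [CharP F 2] {X : Type} [Group X] [Finite X]

include hB

theorem gdA_G2 (h : 3 ≤ Fintype.card F) (a : X ≃* ↥(chevG2.group F)) : GdA X := by
  obtain ⟨e, he, hF, _, hk⟩ := exists_setup F
  exact gdA_split hk hB tyG2 he (m := 0) invC_G2 0 (good_G2 hk he (two_le_of F he hF (by omega))) (algebraMap F _) hF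
    (by rw [S2121.result 2 e hF (hF ▸ h), if_neg (by decide)]) a

theorem gdA_E7 (a : X ≃* ↥(chevE7.group F)) : GdA X := by
  obtain ⟨e, he, hF, _, hk⟩ := exists_setup F
  exact gdA_split hk hB tyE7 he (m := 1) invC_E7 0 (good_E7 hk he) (algebraMap F _) hF
    (by rw [S2124.result 2 e hF, (Mn.odd_two_pow_sub_one he).coprime_two_left, one_mul]) a

theorem gdA_E8 (a : X ≃* ↥(chevE8.group F)) : GdA X := by
  obtain ⟨e, he, hF, _, hk⟩ := exists_setup F
  exact gdA_split hk hB tyE8 he (m := 0) invC_E8 0 (good_E8 hk he) (algebraMap F _) hF (S2125.result 2 e hF) a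

theorem gdA_F4 (h : Fintype.card F ≠ 2) (a : X ≃* ↥(chevF4.group F)) : GdA X := by
  obtain ⟨e, he, hF, _, hk⟩ := exists_setup F
  have hZ := H70.OutCount.center_eq_bot (F := F) tyF4.inList
  have hE := emb_chev tyF4 hk he (m := 0) invC_F4 (algebraMap F _) hF
  have : Finite ↥(chevF4.group F) := Finite.of_equiv _ a.toEquiv
  exact of_perf fun hX => boxS2 hB
    (mo_id (good_F4 hk he (two_le_of F he hF h)) hE hZ a hX (card_of_out hZ (S2122.result 2 e hF))) ⟨(0 : Fin 4)⟩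
    (σ_chev tyF4 hk he) (fun _ => rfl) (sym_chev tyF4 hk he) (stab_of_emb hE (sym_chev tyF4 hk he))
    (fix_of_emb hE fun s => by rw [frobA_pow tyF4, frobA_emb _ _ hF]) (sym_F4 hk he) (stab_of_emb hE (sym_F4 hk he))
    (show rvE ≠ 1 by decide) (fun g _ => ste_frob 0 1 g) (i := 1)
    fun g _ => by rw [pow_one]; exact (spc_F4 0).sq (spcD_F4 0) g

theorem gdA_tD4 {q : ℕ} (hq : IsPrimePow q) (hF : Fintype.card F = q ^ 3) (a : X ≃* ↥(twistedD4 F q)) : GdA X := by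
  obtain ⟨e, he, rfl, _, hk⟩ := exists_setup' F three_ne_zero hF
  have hF' : Fintype.card F = 2 ^ (3 * e) := by rw [hF, ← pow_mul, mul_comm]
  have hZ := H69.OutTwD4.center_eq_bot hq hF
  have hE := emb_D4 (algebraMap F (AlgebraicClosure F)) rfl hq hF
  have : Finite ↥(twistedD4 F (2 ^ e)) := Finite.of_equiv _ a.toEquiv
  exact of_perf fun hX => hB.t (D := datD4 (p := 2) hk he)
    (mo_id (good_tD4 hk he) hE hZ a hX (card_of_out hZ (S2129.result 2 e hF' he))) (sym_tD4 hk he)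
    (stab_of_emb (D := datD4 (p := 2) hk he) hE (sym_tD4 hk he))
    (fix_of_emb hE fun s => by rw [frobA_pow RGDTwD4.hp]; exact frobA_emb _ _ hF' _)
    ⟨(0 : Fin 4), fixT_tri (σ_tD4 hk he)⟩

omit [CharP F 2] in
theorem gdA_tF4 {m : ℕ} (hm : 1 ≤ m) (hF : Fintype.card F = 2 ^ (2 * m + 1)) (a : X ≃* ↥(twistedF4 F (2 ^ m))) :
    GdA X := by
  obtain ⟨_, _, hk⟩ := setup' Nat.prime_two (by omega) hF
  have hZ := GAL.Nrm.center_eq_bot (S1072.result hm hF).1 (S1072.result hm hF).2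
  have hE := emb_F4 (algebraMap F (AlgebraicClosure F)) hF
  have : Finite ↥(twistedF4 F (2 ^ m)) := Finite.of_equiv _ a.toEquiv
  refine of_perf fun hX => hB.t (D := datF4 hk m)
    (mo_id (good_tF4 hk hm) hE hZ a hX (card_of_out hZ (S2128.result hm hF))) (sym_tF4 hk m)
    (stab_of_emb (D := datF4 hk m) hE (sym_tF4 hk m)) (fun g hg => ?_) ⟨(0 : Fin 4), fixT_swap ?_ ?_ ?_⟩
  · have h1 : steA _ m g = g := hg.2
    rw [frobA_pow tyF4, ← (spc_F4 m).sq (spcD_F4 m), h1, h1]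
  · rw [σ_tF4]
    show rvE 0 ≠ 0
    decide
  · rw [σ_tF4]
    exact H493.F4Tor.rv_rv 0
  · rw [σ_tF4]
    exact (congrArg₂ (· + ·) (ex_F4 hk m 0) (ex_F4 hk m 3)).trans (show m + 1 + m = _ by omega)

omit [CharP F 2] in
theorem gdA_sz {m : ℕ} (hm : 1 ≤ m) (hF : Fintype.card F = 2 ^ (2 * m + 1)) (a : X ≃* ↥(Lie.Sz F (2 ^ (m + 1)))) :
    GdA X := by
  obtain ⟨_, _, hk⟩ := setup' Nat.prime_two (by omega) hF
  have hE := emb_B2 (algebraMap F (AlgebraicClosure F)) hF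
  have hZ : Subgroup.center ↥(Lie.Sz F (2 ^ (m + 1))) = ⊥ := H67.SzOdd.center_sz hm hF
  have : Finite ↥(Lie.Sz F (2 ^ (m + 1))) := Finite.of_equiv _ a.toEquiv
  refine of_perf fun hX => hB.t (D := datB2 hk m)
    (mo_id (good_Sz hk hm) hE hZ a hX (card_of_out hZ (S2126.result hm hF))) (sym_Sz hk m)
    (stab_of_emb (D := datB2 hk m) hE (sym_Sz hk m)) (fun g hg => ?_) ⟨(0 : Fin 2), fixT_swap ?_ ?_ ?_⟩
  · have h1 : szA _ m g = g := hg.2
    rw [frobA_pow tyB2, ← (spc_B2 _ m).sq (spcD_B2 m), h1, h1]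
  · rw [σ_Sz]
    show swE 0 ≠ 0
    decide
  · rw [σ_Sz]
    exact swE.left_inv 0
  · rw [σ_Sz]
    exact (congrArg₂ (· + ·) (ex_B2 hk m 0) (ex_B2 hk m 1)).trans (show m + 1 + m = _ by omega)

theorem gdA_sp {n : ℕ} (hn : 2 ≤ n) (h : 4 ≤ Fintype.card F) (a : X ≃* symplecticGroup (Fin n) F) : GdA X := by
  obtain ⟨e, he, hF, _, hk⟩ := exists_setup F
  have he2 := two_le_of F he hF (by omega)
  have hZ := center_spC (n := n) (F := F)
  have h1 := Nat.card_congr (MulAut.congr (spEquivC n F)).toEquiv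
  have h2 := Nat.card_congr (spEquivC n F).toEquiv
  obtain rfl | hn := hn.eq_or_lt
  · have hE := emb_B2C (algebraMap F (AlgebraicClosure F)) hF he
    exact of_perf fun hX => boxS2 hB (D := chev (p := 2) tyB2 hk he)
      (mo_id (good_chev hk he tyB2 (hn_B2 hk he he2)) hE hZ a hX (h1 ▸ h2 ▸ card_aut_psp_two hF he2)) ⟨(0 : Fin 2)⟩
      (σ_chev tyB2 hk he) (fun _ => rfl) (sym_chev tyB2 hk he)
      (stab_of_emb (D := chev (p := 2) tyB2 hk he) hE (sym_chev tyB2 hk he))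
      (fun g hg => by rw [frobA_pow tyB2]; exact hg.2) (sym_B2 hk he)
      (stab_of_emb (D := chev (p := 2) tyB2 hk he) hE (sym_B2 hk he)) (show swE ≠ 1 by decide)
      (fun g _ => sz_frob 0 1 g) (i := 1) fun g _ => by rw [pow_one]; exact (spc_B2 _ 0).sq (spcD_B2 0) g
  · replace hk := lf_of_locFin (p := 2) hk
    have hE := embC1 (n := n) (algebraMap F (AlgebraicClosure F)) hF hk he
    have hS := sym_dat (mnC n) (csC n) (TypeC.isCartan n) hk he
    exact of_perf fun hX => hB.t (D := (mnC n).dat (csC n) (TypeC.isCartan n) hk he)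
      (mo_id (goodC hk he he2) hE hZ a hX (h1 ▸ h2 ▸ card_aut_psp hF he hn)) hS (stab_of_emb hE hS)
      (fun g hg => by
        have h3 := hg.2
        rw [one_mul] at h3
        rwa [one_mul, frA_one_pow])
      ⟨(⟨0, by omega⟩ : Fin n), fixT_one (fun _ => rfl) _⟩

/-- **`PSp_{2m}(q)`, `q ≥ 4` even** -/
theorem gdA_psp {m : ℕ} (hm : 2 ≤ m) (h : 4 ≤ Fintype.card F) (a : X ≃* PSp m F) : GdA X :=
  gdA_sp hB F hm h (a.trans (spEquivC m F))

/-- **`PΩ⁺_{2m}(q)`, `m ≥ 5`, `q` even** -/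
theorem gdA_plus {m : ℕ} (hm : 5 ≤ m) (a : X ≃* POmega F (quadFormPlus m F)) : GdA X := by
  obtain ⟨e, he, hF, _, hl⟩ := exists_setup F
  have hA := S0817.result 2 e he hF m (by omega)
  have hq := qs_plus (F := F) (m := m) (by omega)
  obtain ⟨n, rfl⟩ : ∃ n, m = n + 2 := ⟨m - 2, by omega⟩
  have := finD n
  have hk := Ex.lf_of_locFin (p := 2) hl
  obtain ⟨ι, E⟩ := embP (csD n) (algebraMap F (AlgebraicClosure F)) hF (by omega)
  have hσ := σ_datT hk he ((mnD n).sy_one (cs := csD n) (h := TypeD.isCartan n)) IsOfFinOrder.one (π := 1) fun _ => rfl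
  have h1 := sym_datT hk he ((mnD n).sy_one (cs := csD n) (h := TypeD.isCartan n)) IsOfFinOrder.one (mnD n).sy_one
    IsOfFinOrder.one (Commute.refl _) (π := 1) fun _ => rfl
  have h2 := sym_datT hk he ((mnD n).sy_one (cs := csD n) (h := TypeD.isCartan n)) IsOfFinOrder.one syD
    (Mn.fin_pm _) (Commute.one_right _) gD_sr
  have hM := mo_quot (m := 2 * e) (goodP hk he) E hq a (by rw [hA, if_neg (by omega), if_pos rfl]; ring)
  refine boxS2 hB (D := (mnD n).dat (csD n) (TypeD.isCartan n) hk he) hM ⟨Fin.last (n + 1)⟩ hσ (fun _ => rfl) h1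
    (stab_of_emb E h1) (fun g hg => ?_) h2 (stab_of_emb E h2) (piD_ne n) (fun g _ => ?_) (i := 2) fun g _ => ?_
  · have h3 := hg.2
    rw [one_mul] at h3
    rw [one_mul, frA_one_pow]
    exact h3
  · rw [← MulAut.mul_apply, ← MulAut.mul_apply,
      (comm_fr (syD (cs := csD n)) (mnD n).sy_one (Commute.one_left _) 1).eq]
  · rw [← MulAut.mul_apply, ← sq, ((syD (cs := csD n)).commute 1).mul_pow, conj_swD_sq, one_mul, one_mul]

/-- **`PΩ⁻_{2m}(q)`, `q` even** -/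
theorem gdA_minus {m : ℕ} {x y : F} (hm : 4 ≤ m)
    (hab : ∀ z₁ z₂ : F, z₁ ^ 2 + x * z₁ * z₂ + y * z₂ ^ 2 = 0 → z₁ = 0 ∧ z₂ = 0)
    (a : X ≃* POmega F (quadFormMinus (m - 1) F x y)) : GdA X := by
  obtain ⟨e, he, hF, _, hl⟩ := exists_setup F
  have hA := S0818.result 2 e he hF m hm x y hab
  have hq := qs_minus (F := F) (m := m - 1) (by omega) hab
  obtain ⟨n, rfl⟩ : ∃ n, m = n + 2 := ⟨m - 2, by omega⟩
  have := finD n
  have hk := Ex.lf_of_locFin (p := 2) hl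
  obtain ⟨ι, E⟩ := embM (csD n) (algebraMap F (AlgebraicClosure F)) hF (by omega) hab
  have hσ := σ_datT hk he (syD (cs := csD n)) (Mn.fin_pm _) gD_sr
  have h1 := sym_datT hk he (syD (cs := csD n)) (Mn.fin_pm _) (mnD n).sy_one
    IsOfFinOrder.one (Commute.one_left _) (π := 1) fun _ => rfl
  refine hB.t (D := (mnD n).datT hk he (syD (cs := csD n)) (Mn.fin_pm _)) (n := 2 * e)
    (mo_quot (goodM hk he) E hq a (by rw [mul_comm]; exact hA)) h1 (stab_of_emb E h1) (fun g hg => ?_)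
    ⟨Fin.last (n + 1), fixT_swap ?_ ?_ (two_mul e).symm⟩
  · rw [one_mul, frA_one_pow]
    exact Mn.Sy.fix_le (mnD n) (syD (cs := csD n)) conj_swD_sq e hg.2
  · rw [hσ]
    exact fun h => pd_ne n ((Equiv.swap_apply_right _ _).symm.trans h)
  · rw [hσ]
    exact Equiv.swap_apply_self _ _ _

omit [Field F] [Fintype F] [CharP F 2] in
theorem gdA_isoSz (h : Lie.IsoSuzuki X) : GdA X :=
  let ⟨K, _, _, _, hm, hK, ⟨a⟩⟩ := h
  gdA_sz hB K hm hK a

omit [Field F] [Fintype F] [CharP F 2] in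
theorem gdA_iso2F4 (h : Lie.Iso2F4 X) : GdA X :=
  let ⟨K, _, _, _, hm, hK, ⟨a⟩⟩ := h
  gdA_tF4 hB K hm hK a

end Cfsg.Agent.MK.Two
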