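import Cfsg.Agent.MK.Two.Defs
import Cfsg.Agent.GAL.C2.RowE

/-!
# MK, characteristic two: `E₆(q)`, `²E₆(q)` and their triple covers (helper48)

`gdA_e6`, `gdA_te6` (central quotient), `gdA_e6s`, `gdA_te6s` (the simple groups), `gdA_e6'`, `gdA_te6'` (any odd cover).
-/

set_option autoImplicit false
set_option maxHeartbeats 400000
set_option linter.unusedSectionVars false

namespace Cfsg.Agent.MK.Two.RE

open Cfsg Subgroup Cfsg.Agent.DL Cfsg.Agent.ODD Cfsg.Agent.ODD.C2 Cfsg.Agent.ODD.C2.E6c Cfsg.Agent.GAL.C2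
  Cfsg.Agent.GAL.C2.RE Cfsg.Agent.Tits.Roots

section gen

variable {Y : Type} [Group Y] {F : MulAut Y} {G : Subgroup Y}

theorem map_comm {A S : Type} [Group A] [Group S] (f : A →* S) (hf : Function.Surjective f) :
    (commutator A).map f = commutator S := by
  rw [map_commutator_eq, MonoidHom.range_eq_top.2 hf, commutator_def]

theorem perf_of {A S : Type} [Group A] [Group S] (f : A →* S) (hf : Function.Surjective f) (h : commutator A = ⊤) :
    commutator S = ⊤ := by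
  rw [← map_comm f hf, h, ← MonoidHom.range_eq_map, MonoidHom.range_eq_top.2 hf]

/-- the quotient map, and the group is perfect -/
theorem exists_cov {E St S : Type} [Group E] [Group St] [Group S] (ψ : St →* Y) (θ : St →* E) {F' : MulAut E}
    (ι : S →* E) (hι : Function.Injective ι) {d : ℕ} (hd : Odd d) (hpow : ∀ y, F' y = y → y ^ d ∈ ι.range)
    (hker : ∀ s, ψ s = 1 → θ s = 1) (hcen : ∀ s, θ s = 1 → s ∈ center St)
    (hodd : ∀ s, θ s = 1 → ∃ m, Odd m ∧ ψ s ^ m = 1)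
    (hG : ∀ y ∈ G, ∃ m, Odd m ∧ y ^ m ∈ ψ.range) (hF : ∀ s, ∃ s', ψ s' = F (ψ s) ∧ θ s' = F' (θ s))
    (hgen : ∀ H : Subgroup S, (∀ x s, ψ s ∈ G → F (ψ s) = ψ s → ψ s ^ 2 = 1 → θ s = ι x → x ∈ H) → H = ⊤)
    (hZ : center S = ⊥) (hS : commutator S = ⊤) :
    ∃ pr : O2 (GF F G) →* S, Function.Surjective pr ∧ (∀ s, pr s = 1 ↔ s ∈ center (O2 (GF F G))) ∧
      commutator (O2 (GF F G)) = ⊤ := by
  have heq : ∀ s s', ψ s = ψ s' → θ s = θ s' := fun s s' h => by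
    have h1 := hker (s⁻¹ * s') (by rw [map_mul, map_inv, h, inv_mul_cancel])
    rwa [map_mul, map_inv, inv_mul_eq_one] at h1
  have hex : ∀ y ∈ O2 (GF F G), ∃ s x, ψ s = y ∧ θ s = ι x := by
    intro y hy
    induction hy using closure_induction with
    | mem y hy =>
      obtain ⟨i, hi⟩ := hy
      have h1 : (y : Y) ^ 2 ^ i = 1 := congrArg Subtype.val hi
      obtain ⟨m, hm, h2⟩ := hG y y.2.1
      obtain ⟨s, hs⟩ := mem_of_odd_pow h1 hm h2
      obtain ⟨s', h3, h4⟩ := hF s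
      have h5 : F' (θ s) = θ s := by rw [← h4]; exact heq _ _ (by rw [h3, hs]; exact y.2.2)
      have h6 : θ s ^ 2 ^ i = 1 := by rw [← map_pow]; exact hker _ (by rw [map_pow, hs, h1])
      obtain ⟨x, hx⟩ := mem_of_odd_pow h6 hd (hpow _ h5)
      exact ⟨s, x, hs, hx.symm⟩
    | one => exact ⟨1, 1, map_one _, by rw [map_one, map_one]⟩
    | mul y z _ _ h1 h2 =>
      obtain ⟨s, x, a1, a2⟩ := h1
      obtain ⟨s', x', b1, b2⟩ := h2
      exact ⟨s * s', x * x', by rw [map_mul, a1, b1]; rfl, by rw [map_mul, map_mul, a2, b2]⟩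
    | inv y _ h1 =>
      obtain ⟨s, x, a1, a2⟩ := h1
      exact ⟨s⁻¹, x⁻¹, by rw [map_inv, a1]; rfl, by rw [map_inv, map_inv, a2]⟩
  choose st xs hst hxs using fun y : O2 (GF F G) => hex y y.2
  let σ : O2 (GF F G) →* S := MonoidHom.mk' xs fun a b => hι (by
    rw [map_mul, ← hxs, ← hxs, ← hxs, ← map_mul]
    exact heq _ _ (by rw [map_mul, hst, hst, hst]; rfl))
  have hσ : ∀ (y : O2 (GF F G)) s, ψ s = y → θ s = ι (σ y) := fun y s h => by
    rw [show σ y = xs y from rfl, ← hxs]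
    exact heq _ _ (by rw [h, hst])
  have hs : Function.Surjective σ := by
    rw [← MonoidHom.range_eq_top]
    refine hgen _ fun x s h1 h2 h3 h4 => ?_
    have h5 : (⟨ψ s, h1, h2⟩ : GF F G) ∈ O2 (GF F G) := subset_closure ⟨1, Subtype.ext (by rw [pow_one]; exact h3)⟩
    exact ⟨⟨_, h5⟩, hι (by rw [← hσ _ s rfl, h4])⟩
  have hk : ∀ y, σ y = 1 → θ (st y) = 1 := fun y hy => by rw [hσ y _ (hst y), hy, map_one]
  refine ⟨σ, hs, fun y => ⟨fun hy => mem_center_iff.2 fun z => Subtype.ext (Subtype.ext ?_), fun hy => ?_⟩, ?_⟩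
  · have h1 := congrArg ψ (mem_center_iff.1 (hcen (st y) (hk y hy)) (st z))
    rwa [map_mul, map_mul, hst, hst] at h1
  · rw [← mem_bot, ← hZ, mem_center_iff]
    intro x
    obtain ⟨z, rfl⟩ := hs x
    rw [← map_mul, ← map_mul, mem_center_iff.1 hy z]
  · rw [eq_top_iff]
    rintro ⟨y, hy⟩ -
    induction hy using closure_induction with
    | mem y hy =>
      obtain ⟨i, hi⟩ := id hy
      generalize hz : (⟨y, subset_closure hy⟩ : O2 (GF F G)) = z
      have h1 : z ^ 2 ^ i = 1 := by rw [← hz]; exact Subtype.ext hi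
      obtain ⟨c, h2, h3⟩ : σ z ∈ (commutator (O2 (GF F G))).map σ := by rw [map_comm σ hs, hS]; trivial
      obtain ⟨m, hm, h4⟩ := hodd _ (hk (c⁻¹ * z) (by rw [map_mul, map_inv, h3, inv_mul_cancel]))
      have h5 : (c⁻¹ * z) ^ m = 1 := Subtype.ext (Subtype.ext (by rw [hst] at h4; exact h4))
      refine mem_of_odd_pow h1 hm ?_
      have h6 : (z : _ ⧸ commutator (O2 (GF F G))) = (c⁻¹ * z : O2 (GF F G)) := by
        rw [QuotientGroup.mk_mul, (QuotientGroup.eq_one_iff _).2 (inv_mem h2), one_mul]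
      rw [← QuotientGroup.eq_one_iff, QuotientGroup.mk_pow, h6, ← QuotientGroup.mk_pow, h5]
      rfl
    | one => exact one_mem _
    | mul y z hy hz h1 h2 => exact mul_mem (a := (⟨y, hy⟩ : O2 (GF F G))) (b := ⟨z, hz⟩) h1 h2
    | inv y hy h1 => exact inv_mem (x := (⟨y, hy⟩ : O2 (GF F G))) h1

/-- the map onto an odd cover -/
theorem exists_pi [Finite (GF F G)] {S X : Type} [Group S] [Group X] [Finite X] {pr : O2 (GF F G) →* S}
    (h1 : Function.Surjective pr) (h2 : ∀ s, pr s = 1 ↔ s ∈ center (O2 (GF F G))) (h3 : commutator (O2 (GF F G)) = ⊤)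
    {ω : Y} (hω : orderOf ω = 3) (hωc : ∀ y, y * ω = ω * y) {n j : ℕ}
    (hωm : 3 ∣ n → ∀ H : Subgroup Y, (∀ y ∈ G, F y = y → y ^ 2 = 1 → y ∈ H) → ω ∈ H)
    (hM : Cv.MB S (Nat.gcd 3 n * 2 ^ j)) (hX : commutator X = ⊤) (p : X →* S) (hp : Function.Surjective p)
    (hc : p.ker ≤ center X) (ho : Odd (Nat.card p.ker)) :
    ∃ π : O2 (GF F G) →* X, Function.Surjective π ∧ π.ker ≤ center _ := by
  have h4 : Nat.gcd 3 n ∣ Nat.card pr.ker := by
    rcases (Nat.dvd_prime Nat.prime_three).1 (Nat.gcd_dvd_left 3 n) with h | h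
    · rw [h]
      exact one_dvd _
    · obtain ⟨y, hy⟩ := hωm (h ▸ Nat.gcd_dvd_right 3 n) (io F G).range fun y a b c => two_mem ⟨a, b⟩ (j := 1) c
      have h5 : y ∈ pr.ker := (h2 y).2 (mem_center_iff.2 fun z => io_inj (by rw [map_mul, map_mul, hy, hωc]))
      rw [h, ← hω, ← hy, orderOf_injective _ io_inj]
      exact Subgroup.orderOf_dvd_natCard _ h5
  obtain ⟨π, h5, h6⟩ := Cv.exists_cover_odd ⟨h3, h1, fun y hy => (h2 y).1 hy, j,
    hM.mono (Nat.mul_dvd_mul_right h4 _)⟩ hX p hp hc ho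
  exact ⟨π, h5, fun y hy => (h2 y).1 (by rw [← h6, show π y = 1 from hy, map_one])⟩

end gen

section e6

open Cfsg.Lie Cfsg.Agent.ChevalleyStructure Matrix

attribute [local instance] finW6

variable {k : Type} [Field k] [CharP k 2] [IsAlgClosed k]

/-- the character of the group -/
def nu6 : Fin 7 → ℤ := ![-4, -3, -5, -6, -4, -2, 3]

/-- a cocharacter on which `nu6` is `1` -/
def v6 : Fin 7 → ℤ := ![1, 0, 0, 0, 0, -1, 1]

/-- the scalars -/
def l6 : Fin 7 → ℤ := ![0, 0, 0, 0, 0, 0, 1]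

theorem nu6_cw : ∀ i : Fin 6, ∑ a, nu6 a * cw6 i a = 0 := by decide +kernel

theorem chr_nu_ct (x : Fin 6 → kˣ) : chr nu6 (ct x) = 1 := by
  rw [ct_apply, map_prod]
  exact Finset.prod_eq_one fun i _ => by rw [chr_coch, nu6_cw, zpow_zero]

theorem exists_ord {n : ℕ} (hn : Odd n) : ∃ w : kˣ, orderOf w = n := by
  have : NeZero (n : k) := ⟨by rw [Ne, CharP.cast_eq_zero_iff k 2]; exact hn.not_two_dvd_nat⟩
  obtain ⟨z, hz⟩ := HasEnoughRootsOfUnity.exists_primitiveRoot k n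
  exact ⟨(hz.isUnit hn.pos.ne').unit, by rw [← orderOf_units, IsUnit.unit_spec, ← hz.eq_orderOf]⟩

variable (hk : ∀ a : k, ∃ j, 0 < j ∧ a ^ 2 ^ j = a) {e : ℕ} (he : 0 < e) {α : MulAut (GL (Fin 27) k)}
  {g : (Fin 6 → ℤ) → Fin 6 → ℤ} {B : Matrix (Fin 7) (Fin 7) ℤ}

/-- **the diagonal automorphisms** -/
theorem dg6 (S : mn6.Sy cs6 hc6 α g B) (hα : IsOfFinOrder α) {ε : ℤ} (hv : B *ᵥ v6 = ε • v6) (hl : B *ᵥ l6 = ε • l6)
    {n : ℕ} (hn : Odd n) (hε : ∀ w : kˣ, (w ^ 2 ^ e) ^ ε = w ↔ w ^ n = 1) :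
    ∃ t ∈ GF (α * frA (Fin 27) k e) (mn6.G k cs6 hc6), ∀ (i : ℕ) x, ∀ z ∈ Zc (mn6.datT hk he S hα),
      t ^ i = io (α * frA (Fin 27) k e) (mn6.G k cs6 hc6) x * z → Nat.gcd 3 n ∣ i := by
  have hF : ∀ (v : Fin 7 → ℤ) (w : kˣ), B *ᵥ v = ε • v →
      (α * frA (Fin 27) k e) (mn6.τ k (coch v w)) = mn6.τ k (coch v ((w ^ 2 ^ e) ^ ε)) := fun v w h => by
    rw [MulAut.mul_apply, frA_apply, mn6.frob_τ, S.τ, ← map_pow, mon_coch, h]
    exact congrArg _ (funext fun j => by rw [coch_apply, coch_apply, ← _root_.zpow_mul]; rfl)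
  obtain ⟨γ, hγ⟩ := exists_ord (k := k) hn
  have ht : mn6.τ k (coch v6 γ) ∈ GF (α * frA (Fin 27) k e) (mn6.G k cs6 hc6) :=
    mem_GF.2 ⟨mn6.τ_mem_G _, by rw [hF _ _ hv, (hε γ).2 (hγ ▸ pow_orderOf_eq_one γ)]⟩
  refine ⟨_, ht, ?_⟩
  rintro i x _ ⟨⟨c, rfl⟩, hz⟩ h1
  have h2 : c = coch l6 (c 6) := by
    have h3 : ∀ j : Fin 6, chr (wt6 (sr j)) c = 1 := fun j =>
      Units.ext (((mn6.datT hk he S hα).χ_τ (sr j) c).symm.trans (hz j))
    have h4 : ∀ j : Fin 6, wt6 (sr j) = Pi.single j.castSucc 1 := by decide +kernel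
    funext j
    rw [coch_apply]
    induction j using Fin.lastCases with
    | last => exact (zpow_one _).symm
    | cast j => rw [← chr_single j.castSucc c, ← h4, h3, show l6 j.castSucc = 0 by revert j; decide, zpow_zero]
  have h3 : mn6.τ k c ∈ GF (α * frA (Fin 27) k e) (mn6.G k cs6 hc6) :=
    (mul_mem_cancel_left (io_mem x)).1 (h1 ▸ pow_mem ht i)
  have h4 : c 6 ^ n = 1 := by
    have h5 : (α * frA (Fin 27) k e) (mn6.τ k c) = mn6.τ k c := h3.2
    rw [h2, hF _ _ hl] at h5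
    have h6 := congrFun (mn6.τ_inj k h5) 6
    rw [coch_apply, coch_apply, show l6 6 = 1 from rfl, zpow_one, zpow_one] at h6
    exact (hε _).1 h6
  have h5 : io _ _ x ∈ (psi6 k).range := io_le (fun y hy j hj => by
    obtain ⟨m, hm, h⟩ := pow_mem_range hk hy.1
    exact mem_of_odd_pow hj hm h) x
  have h6 : mn6.τ k (coch v6 γ ^ i * c⁻¹) ∈ (psi6 k).range := by
    rw [map_mul, map_pow, map_inv, h1]
    rwa [show (io _ _ x * mn6.τ k c) * (mn6.τ k c)⁻¹ = _ from mul_inv_cancel_right _ _]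
  obtain ⟨y, hy⟩ := tor_ct h6
  have h7 := congrArg (chr nu6) hy
  rw [chr_nu_ct, map_mul, map_pow, map_inv, h2, chr_coch, chr_coch, show ∑ a, nu6 a * v6 a = 1 by decide +kernel,
    show ∑ a, nu6 a * l6 a = (3 : ℕ) by decide +kernel, zpow_one, zpow_natCast, mul_inv_eq_one] at h7
  rcases (Nat.dvd_prime Nat.prime_three).1 (Nat.gcd_dvd_left 3 n) with h | h
  · rw [h]
    exact one_dvd _
  · obtain ⟨m, hm⟩ : 3 ∣ n := h ▸ Nat.gcd_dvd_right 3 n
    have h8 : orderOf γ ∣ i * m := orderOf_dvd_of_pow_eq_one (by rw [pow_mul, h7, ← pow_mul, ← hm, h4])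
    rw [hγ, hm] at h8
    rw [h]
    exact Nat.dvd_of_mul_dvd_mul_right (Nat.pos_of_ne_zero fun e => by rw [e] at hm; exact hn.pos.ne' hm) h8

theorem odd_sub (he : 0 < e) : Odd (2 ^ e - 1) :=
  Nat.Even.sub_odd Nat.one_le_two_pow (Nat.even_pow.2 ⟨even_two, he.ne'⟩) odd_one

theorem eps_split (w : kˣ) : (w ^ 2 ^ e) ^ (1 : ℤ) = w ↔ w ^ (2 ^ e - 1) = 1 := by
  rw [zpow_one, ← mul_left_inj (b := w ^ (2 ^ e - 1)) w, ← pow_succ, Nat.sub_add_cancel Nat.one_le_two_pow, one_mul]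

theorem eps_tw (w : kˣ) : (w ^ 2 ^ e) ^ (-1 : ℤ) = w ↔ w ^ (2 ^ e + 1) = 1 := by
  rw [_root_.zpow_neg, zpow_one, pow_succ, inv_eq_iff_mul_eq_one]

end e6

end Cfsg.Agent.MK.Two.RE

namespace Cfsg.Agent.MK.Two

open Cfsg Subgroup Cfsg.Lie Cfsg.Agent.ChevalleyStructure Cfsg.Agent.Nodes Cfsg.Agent.Nodes.RGDChev
  Cfsg.Agent.KFacts.RgdChevCoord Cfsg.Agent.GpExc.Field Cfsg.Agent.DL Cfsg.Agent.ODD Cfsg.Agent.ODD.C2
  Cfsg.Agent.ODD.C2.E6c Cfsg.Agent.GAL Cfsg.Agent.GAL.C2 Cfsg.Agent.GAL.C2.RE Cfsg.Agent.MK.Two.RE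
open Cfsg.Agent.H493.TwE6Alg (dua dua_sr embT coe_embT)

attribute [local instance] finW6

variable (hB : Boxes) (F : Type) [Field F] [Fintype F] [CharP F 2] {X : Type} [Group X] [Finite X]
include hB

/-- the odd covers of `E₆(q)` -/
theorem gdA_e6' (hX : commutator X = ⊤) (p : X →* chevE6.group F) (hp : Function.Surjective p) (hc : p.ker ≤ center X)
    (ho : Odd (Nat.card p.ker)) : GdA X := by
  obtain ⟨e, he, hF, _, hl⟩ := exists_setup F
  have hk := Ex.lf_of_locFin (p := 2) hl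
  obtain ⟨θ, T⟩ := exists_th (AlgebraicClosure F)
  obtain ⟨w, hw⟩ := exists_om (AlgebraicClosure F)
  have O := Ex.over_E6 (algebraMap F (AlgebraicClosure F)) hF E6c.hp6
  have hZ := H70.OutCount.center_eq_bot (F := F) E6c.hp6.inList
  have := (mn6.dat cs6 hc6 hk he).amb.finite_GF (mn6.G _ cs6 hc6)
  obtain ⟨pr, h1, h2, h3⟩ := exists_cov (F := 1 * frA (Fin 27) (AlgebraicClosure F) e) (G := mn6.G _ cs6 hc6) (psi6 _) θ _
    O.inj (odd_gcd _) (fun y hy => O.mem_range.1 (O.pow_mem ⟨y, trivial, hy⟩)) T.ker T.cen (T.odd hk)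
    (fun _ => pow_mem_range hk) (compat mn6.sy_one T fun r _ u => Ex.frobA_xc E6c.hp6 e _ u) (fun H hH => by
      have h1 : chevE6.group F ≤ H.map (chevE6.group F).subtype := by
        rw [Elts.group_le_iff E6c.hp6.inList]
        intro r hr t
        have h := single (e := e) mn6.sy_one (root6 hr) rfl (u := algebraMap F (AlgebraicClosure F) t)
          (by rw [← map_pow, ← hF, FiniteField.pow_card])
        rw [← psi6_gen hr] at h
        exact ⟨xc E6c.hp6 (vec chevE6 6 r) t, hH _ _ h.1 h.2.1 h.2.2 (by rw [T.gen r hr, BpExc.TowChev.emb_xc]),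
          coe_xc E6c.hp6 hr t⟩
      refine eq_top_iff.2 fun y _ => ?_
      obtain ⟨z, hz, h2⟩ := h1 y.2
      rwa [← Subtype.ext h2]) hZ (perf_of p hp hX)
  obtain ⟨π, h4, h5⟩ := exists_pi h1 h2 h3 (om_order hw) (om_comm w) (fun h H hH => om_split hH hw h) (j := 0)
    (by rw [pow_zero, mul_one, ← hF]; exact Cv.mb_e6) hX p hp hc ho
  have hσ : (mn6.dat cs6 hc6 hk he).σ = 1 :=
    Equiv.ext (Datum.QSp.σ_eq (D := mn6.dat cs6 hc6 hk he) (π := id) fun _ => rfl)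
  have s1 := sym6 hk he mn6.sy_one IsOfFinOrder.one mn6.sy_one IsOfFinOrder.one (Commute.refl _) (π := 1) fun _ => rfl
  obtain ⟨γ, A, s2, hc, hg⟩ : ∃ γ A, Sym (mn6.dat cs6 hc6 hk he) (γ * frA (Fin 27) (AlgebraicClosure F) 1) A piE
      (fun _ => 1) ∧ Commute γ (frA (Fin 27) (AlgebraicClosure F) 1) ∧ γ ^ 2 = 1 :=
    ⟨_, _, sym6 hk he mn6.sy_one IsOfFinOrder.one (sy6 _) (Mn.fin_pm_it _) (Commute.one_right _) (π := piE) dua_sr,
      (sy6 (AlgebraicClosure F)).commute 1, gm6_sq⟩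
  refine hB.s (D := mn6.dat cs6 hc6 hk he) (P := Bool) (e := e) (π := π)
    ⟨md6 hk he mn6.sy_one IsOfFinOrder.one (π := id) (fun _ => rfl) tor_split h1 h2, hZ, h3, h4, h5,
      dg6 hk he mn6.sy_one IsOfFinOrder.one (ε := 1) (by simp) (by simp) (odd_sub he) eps_split, ?_⟩
    ⟨(0 : Fin 6)⟩ hσ (fun _ => rfl) s1 (stab_io fun _ => s1.mem_GF) (fun g hg => ?_)
    (ψ := fun b => (bif b then γ else 1) * frA (Fin 27) (AlgebraicClosure F) 1) (s := fun b => bif b then piE else 1)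
    (ε := fun _ _ => 1) (B := fun b => bif b then A else _) (fun b => by cases b; exacts [s1, s2])
    (fun b => by cases b; exacts [stab_io fun _ => s1.mem_GF, stab_io fun _ => s2.mem_GF]) ?_ (fun b g _ => ?_)
    fun b b' => ⟨xor b b', 1, fun g _ => ?_⟩
  · rw [Nrm.card_out hZ, S2123.result 2 e hF, Fintype.card_bool]
    exact le_of_eq (by ring)
  · have h3 := hg.2
    rw [one_mul, frA_pow, mul_one]
    exact h3
  · have h6 : piE ≠ 1 := by decide
    rintro (_ | _) (_ | _) h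
    exacts [rfl, absurd h.symm h6, absurd h h6, rfl]
  · rw [← MulAut.mul_apply, ← MulAut.mul_apply, one_mul]
    cases b
    · rw [cond_false, one_mul]
    · rw [cond_true, ← mul_assoc, ← hc.eq]
  · rw [← MulAut.mul_apply, ← MulAut.mul_apply, one_mul, pow_one]
    cases b <;> cases b' <;> simp only [cond_false, cond_true, one_mul, Bool.xor_false, Bool.xor_true, Bool.not_false,
      Bool.not_true]
    · rw [← mul_assoc, ← hc.eq]
    · rw [← mul_assoc, mul_assoc γ _ γ, ← hc.eq, ← mul_assoc, ← sq, hg, one_mul]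

/-- the odd covers of `²E₆(q)` -/
theorem gdA_te6' {q : ℕ} (hq : IsPrimePow q) (hF : Fintype.card F = q ^ 2) (hX : commutator X = ⊤)
    (p : X →* twistedE6 F q) (hp : Function.Surjective p) (hc : p.ker ≤ center X) (ho : Odd (Nat.card p.ker)) : GdA X := by
  obtain ⟨e, he, hqe, _, hl⟩ := exists_setup' F two_ne_zero hF
  have hk := Ex.lf_of_locFin (p := 2) hl
  obtain ⟨θ, T⟩ := exists_th (AlgebraicClosure F)
  obtain ⟨w, hw⟩ := exists_om (AlgebraicClosure F)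
  have O := Tw.emb_E6 (algebraMap F (AlgebraicClosure F)) hqe hq hF
  have hZ := Nrm.center_eq_bot (S1070.result hq hF).1 (S1070.result hq hF).2
  have := (mn6.datT hk he (sy6 _) (Mn.fin_pm_it _)).amb.finite_GF (mn6.G _ cs6 hc6)
  obtain ⟨pr, h1, h2, h3⟩ := exists_cov (F := gm6 _ * frA (Fin 27) (AlgebraicClosure F) e) (G := mn6.G _ cs6 hc6) (psi6 _)
    θ _ O.inj (odd_gcd _) (fun y hy => O.pow y ⟨trivial, hy⟩) T.ker T.cen (T.odd hk) (fun _ => pow_mem_range hk)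
    (compat (sy6 _) T fun r hr u => tau_xc hr u) (fun H hH => by
      have h1 : twistedE6 F q ≤ H.map (twistedE6 F q).subtype := by
        rw [TwE6Basic.twisted_le_iff]
        refine ⟨fun t ht r hr => ?_, fun t rs hr => ?_⟩
        · obtain ⟨h2, h4⟩ := E6c.tw_single r hr
          have h := single (e := e) (sy6 _) (root6 h2) h4 (u := algebraMap F (AlgebraicClosure F) t)
            (by rw [← map_pow, ← hqe, ht])
          rw [← psi6_gen h2] at h
          exact ⟨⟨_, TwE6Basic.single_mem ht hr⟩, hH _ _ h.1 h.2.1 h.2.2 (Subtype.ext (by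
            rw [T.gen r h2, coe_xc E6c.hp6 h2, coe_embT]
            exact (glMap_xG _ _ r t).symm)), rfl⟩
        · obtain ⟨h2, h4, h5, h6⟩ := E6c.tw_pair rs hr
          have h := pair (e := e) (root6 h2) (by rw [h5, cpr6 h4, h6]) (u := algebraMap F (AlgebraicClosure F) t)
            (by rw [← map_pow, ← map_pow, ← pow_mul, ← hqe, ← sq, ← hF, FiniteField.pow_card]) rfl
          rw [h5, ← psi6_gen h2, ← psi6_gen h4, ← map_mul] at h
          exact ⟨⟨_, TwE6Basic.pair_mem t hr⟩, hH _ _ h.1 h.2.1 h.2.2 (Subtype.ext (by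
            rw [map_mul, T.gen _ h2, T.gen _ h4, Subgroup.coe_mul, coe_xc E6c.hp6 h2, coe_xc E6c.hp6 h4, coe_embT, map_mul,
              glMap_xG, glMap_xG, map_pow, hqe])), rfl⟩
      refine eq_top_iff.2 fun y _ => ?_
      obtain ⟨z, hz, h2⟩ := h1 y.2
      rwa [← Subtype.ext h2]) hZ (perf_of p hp hX)
  obtain ⟨π, h4, h5⟩ := exists_pi h1 h2 h3 (om_order hw) (om_comm w) (fun h H hH => om_tw hH hw (hqe ▸ h))
    (Cv.mb_tw hq hF) hX p hp hc ho
  subst hqe
  have hσ : ⇑(mn6.datT hk he (sy6 (AlgebraicClosure F)) (Mn.fin_pm_it _)).σ = H493.TwE6Alg.pi :=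
    funext (Datum.QSp.σ_eq (D := mn6.datT hk he (sy6 (AlgebraicClosure F)) (Mn.fin_pm_it _)) dua_sr)
  have s1 := sym6 hk he (sy6 _) (Mn.fin_pm_it _) mn6.sy_one IsOfFinOrder.one (Commute.one_left _) (π := 1) fun _ => rfl
  have : Fact (Nat.Prime 2) := ⟨Nat.prime_two⟩
  refine hB.t (D := mn6.datT hk he (sy6 _) (Mn.fin_pm_it _)) (n := 2 * e) (π := π)
    ⟨md6 hk he (sy6 _) (Mn.fin_pm_it _) dua_sr tor_tw h1 h2, hZ, h3, h4, h5,
      dg6 hk he (sy6 _) (Mn.fin_pm_it _) (ε := -1) (by decide +kernel) (by decide +kernel)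
        ((Nat.even_pow.2 ⟨even_two, he.ne'⟩).add_one) eps_tw, ?_⟩
    s1 (stab_io fun _ => s1.mem_GF) (fun g hg => ?_)
    ⟨(0 : Fin 6), fun a ha => ⟨![a, 0, 0, 0, 0, a ^ 2 ^ e], fun i => ?_, rfl⟩⟩
  · rw [Nrm.card_out hZ, S2130.result 2 e (by rw [hF, ← pow_mul, mul_comm]) he]
    exact le_of_eq (by ring)
  · have h3 := Mn.Sy.fix_le mn6 (sy6 (AlgebraicClosure F)) gm6_sq e hg.2
    rw [one_mul, frA_pow, mul_one]
    exact h3
  · rw [hσ]
    have h6 : (0 : AlgebraicClosure F) = 0 ^ 2 ^ e := (zero_pow (by positivity)).symm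
    have h7 : a = (a ^ 2 ^ e) ^ 2 ^ e := by rw [← pow_mul, ← pow_add, ← two_mul, ha]
    revert i
    show ∀ i : Fin 6, (![a, 0, 0, 0, 0, a ^ 2 ^ e] : Fin 6 → _) (H493.TwE6Alg.pi i) =
      (![a, 0, 0, 0, 0, a ^ 2 ^ e] : Fin 6 → _) i ^ 2 ^ e
    intro i
    fin_cases i
    exacts [rfl, h6, h6, h6, h6, h7]

/-- **`E₆(q)` and its triple cover** -/
theorem gdA_e6 (hX : IsQuasisimple X) (hZ : Odd (Nat.card (center X))) (e : X ⧸ center X ≃* chevE6.group F) : GdA X := by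
  have h1 : (e.toMonoidHom.comp (QuotientGroup.mk' (center X))).ker = center X := by
    ext x
    simp
  exact gdA_e6' hB F hX.1.commutator_eq_top _ (e.surjective.comp (QuotientGroup.mk'_surjective _)) h1.le
    (by rwa [h1])

/-- **`²E₆(q)` and its triple cover** -/
theorem gdA_te6 {q : ℕ} (hq : IsPrimePow q) (hF : Fintype.card F = q ^ 2) (hX : IsQuasisimple X)
    (hZ : Odd (Nat.card (center X))) (e : X ⧸ center X ≃* twistedE6 F q) : GdA X := by
  have h1 : (e.toMonoidHom.comp (QuotientGroup.mk' (center X))).ker = center X := by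
    ext x
    simp
  exact gdA_te6' hB F hq hF hX.1.commutator_eq_top _ (e.surjective.comp (QuotientGroup.mk'_surjective _)) h1.le
    (by rwa [h1])

/-- the simple group `E₆(q)` -/
theorem gdA_e6s (hX : commutator X = ⊤) (e : X ≃* chevE6.group F) : GdA X := by
  have h1 : e.toMonoidHom.ker = ⊥ := (MonoidHom.ker_eq_bot_iff _).2 e.injective
  exact gdA_e6' hB F hX _ e.surjective (h1 ▸ bot_le) (by rw [h1, card_bot]; exact odd_one)

/-- the simple group `²E₆(q)` -/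
theorem gdA_te6s {q : ℕ} (hq : IsPrimePow q) (hF : Fintype.card F = q ^ 2) (hX : commutator X = ⊤)
    (e : X ≃* twistedE6 F q) : GdA X := by
  have h1 : e.toMonoidHom.ker = ⊥ := (MonoidHom.ker_eq_bot_iff _).2 e.injective
  exact gdA_te6' hB F hq hF hX _ e.surjective (h1 ▸ bot_le) (by rw [h1, card_bot]; exact odd_one)

end Cfsg.Agent.MK.Two
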