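import Cfsg.Agent.MK.Two.Rows
import Cfsg.Agent.MK.Two.RowCX
import Cfsg.Agent.MK.Two.RowE6
import Cfsg.Agent.MK.Two.Gen
import Cfsg.Agent.MK.Two.Box
import Cfsg.Agent.MK.Two.Desc
import Cfsg.Agent.MK.Two.Rel2
import Cfsg.Agent.MK.Two.Bor

/-!
# MK, characteristic two: the row from the remaining pieces (helper89)

* `boxes_of_sp (hC : StepC) (hS : SpBox) : Boxes`;
* `row_of_rest (hB : Boxes) (r : Rest)`, `Rest` = `SL`, `SU`, `D₄`, `Sp₂ₙ(2)`, `F₄(2)`; `gdI_of_sm` : small rows.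
-/

set_option autoImplicit false
set_option maxHeartbeats 400000

namespace Cfsg.Agent.MK.Two

open Cfsg Subgroup Matrix

theorem boxes_of_sp (hC : StepC) (hS : SpBox) : Boxes := boxes_of (genBox hC descBox hS (relBox borBox))

/-- a small row gives `GdI` -/
theorem gdI_of_sm (h : StepSm) {S : Type} [Group S]
    (hS : ∀ (X : Type) [Group X] [Finite X], IsSimpleGroup X → (X ≃* S) → IH (center X).index → Sm X) : GdI S :=
  fun X _ _ hX e Γ s => h X Γ s (hS X hX e)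

/-- the two small families -/
structure Small : Prop where
  sp2 : ∀ (F : Type) [Field F] [Fintype F] [CharP F 2] (m : ℕ), 3 ≤ m → Fintype.card F = 2 → GdI (PSp m F)
  f42 : ∀ (F : Type) [Field F] [Fintype F] [CharP F 2], Fintype.card F = 2 → GdI (Lie.chevF4.group F)

/-- the remaining families -/
structure Rest : Prop where
  sl : ∀ (F : Type) [Field F] [Fintype F] [CharP F 2] (n : ℕ), 2 ≤ n → (n = 2 → 4 ≤ Fintype.card F) →
    GdQ (SpecialLinearGroup (Fin n) F)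
  su : ∀ (F : Type) [Field F] [Fintype F] [CharP F 2] (n q : ℕ), Fintype.card F = q ^ 2 → 3 ≤ n → ¬ (n = 3 ∧ q = 2) →
    GdQ (SU n F q)
  d4 : ∀ (F : Type) [Field F] [Fintype F] [CharP F 2], GdI (POmega F (quadFormPlus 4 F))

theorem row_of_rest (hB : Boxes) (r : Rest) (s : Small) : Row fun S _ => IsLieTypeChar 2 S :=
  row_of_rows
    { sl := r.sl
      su := r.su
      sp := fun F _ _ _ _ h1 h2 _ _ _ _ e => gdA_psp hB F h1 h2 e
      sp2 := s.sp2
      d4 := r.d4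
      plus := fun F _ _ _ _ h1 _ _ _ _ e => gdA_plus hB F h1 e
      minus := fun F _ _ _ _ _ _ h1 h2 _ _ _ _ e => gdA_minus hB F h1 h2 e
      g2 := fun F _ _ _ h1 _ _ _ _ e => gdA_G2 hB F h1 e
      f4 := fun F _ _ _ h1 _ _ _ _ e => gdA_F4 hB F h1 e
      f42 := s.f42
      e6 := fun F _ _ _ _ _ _ h1 h2 e => gdA_e6 hB F h1 h2 e
      e7 := fun F _ _ _ _ _ _ _ e => gdA_E7 hB F e
      e8 := fun F _ _ _ _ _ _ _ e => gdA_E8 hB F e
      te6 := fun F _ _ _ _ h1 h2 _ _ _ h3 h4 e => gdA_te6 hB F h1 h2 h3 h4 e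
      td4 := fun F _ _ _ _ h1 h2 _ _ _ _ e => gdA_tD4 hB F h1 h2 e
      sz := fun F _ _ _ h1 h2 _ _ _ _ e => gdA_sz hB F h1 h2 e
      tf4 := fun F _ _ _ h1 h2 _ _ _ _ e => gdA_tF4 hB F h1 h2 e }

end Cfsg.Agent.MK.Two
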