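import Cfsg.Agent.MK.Two.Defs

/-!
# MK, characteristic two: abelian quotients and multiplicity one (helper13)

* `eq_one_of_tw` : an extension of an irreducible character is not fixed by a nontrivial linear character of the quotient;
* `abBox : AbBox`.
-/

set_option autoImplicit false
set_option maxHeartbeats 400000

namespace Cfsg.Agent.MK.Two

open Cfsg Cfsg.Agent.Characters.Core Cfsg.Agent.GAL.C2 Cfsg.Agent.ODD.Red Cfsg.Agent.OddOrderCharacters
open scoped ComplexConjugate

theorem eq_one_of_tw {L S : Type} [Group L] [Group S] [Finite L] [Finite S] (κ : S →* L) {η : L → ℂ}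
    (hη : IsIrrCharacter L η) (h : IsIrrCharacter S (η ∘ κ)) (β : L →* ℂˣ) (h1 : ∀ s, β (κ s) = 1)
    (h2 : ∀ g, β g * η g = η g) (g : L) : β g = 1 := by
  have := Fintype.ofFinite L
  have := Fintype.ofFinite β.ker
  have h3 : IsIrrCharacter β.ker (η ∘ β.ker.subtype) :=
    CharactersDeep.MaxInduced.isIrr_of_comp (κ.codRestrict β.ker h1) (isCharacter_comp _ (isIrr_isCharacter hη)) h
  have h4 := classInner_irr_self hη
  have h5 := classInner_irr_self h3
  rw [classInner_def, inv_mul_eq_one₀ card_ne_zero_complex] at h4 h5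
  have h6 := h5.trans ((Fintype.sum_of_injective β.ker.subtype Subtype.val_injective _ (fun g => η g * conj (η g))
    (fun x hx => by
      have h6 : η x = 0 := by
        by_contra h7
        exact hx ⟨⟨x, Units.ext (mul_right_cancel₀ h7 ((h2 x).trans (one_mul _).symm))⟩, rfl⟩
      rw [h6, zero_mul]) fun _ => rfl).trans h4.symm)
  exact MonoidHom.mem_ker.1 (Subgroup.eq_top_of_card_eq _ (Nat.cast_inj.1 h6) ▸ Subgroup.mem_top g)

/-- **abelian quotients, multiplicity one** -/
theorem abBox : AbBox := by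
  intro H S _ _ _ _ ι hι hn hab χ θ hχ hθ h1 L hL
  have := Fintype.ofFinite H
  have := Fintype.ofFinite S
  have := Fintype.ofFinite L
  have := Fintype.ofFinite ι.range
  rw [ip_eq] at h1
  have hNL : ι.range ≤ L := by
    rintro _ ⟨t, rfl⟩
    refine (hL _).2 fun s s' e => ?_
    rw [hι (e.trans (by simp : ι t * ι s * (ι t)⁻¹ = ι (t * s * t⁻¹)))]
    exact isIrr_isClassFunction hθ s t
  let κ : S →* L := ι.codRestrict L fun s => hNL ⟨s, rfl⟩
  have hκ : Function.Injective κ := fun a b e => hι (congrArg Subtype.val e)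
  have hκn : κ.range.Normal := ⟨by
    rintro _ ⟨s, rfl⟩ g
    obtain ⟨t, ht⟩ := hn.conj_mem _ ⟨s, rfl⟩ g
    exact ⟨t, Subtype.ext ht⟩⟩
  have hT : ∀ g, g ∈ L ↔ NormalInduced.conjFn ι.range (tr hι θ) g = tr hι θ := fun g => by
    rw [hL, funext_iff]
    refine ⟨fun h2 => ?_, fun h2 s s' e => ?_⟩
    · rintro ⟨_, s, rfl⟩
      obtain ⟨t, ht⟩ := hn.conj_mem _ ⟨s, rfl⟩ g
      exact (congrArg (tr hι θ) (Subtype.ext ht.symm)).trans ((tr_apply hι θ t ⟨t, rfl⟩).trans
        ((h2 s t ht).trans (tr_apply hι θ s _).symm))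
    · rw [← tr_apply hι θ s ⟨s, rfl⟩, ← h2, ← tr_apply hι θ s' ⟨s', rfl⟩]
      exact congrArg (tr hι θ) (Subtype.ext e)
  obtain ⟨η, hη, h2, h3⟩ := PF9.CliffGen.exists_ind (tr_irr hι hθ) hT hNL hχ
    (((inner_tr hι χ θ).trans h1).trans_ne one_ne_zero)
  have h4 : classInner (η ∘ κ) θ ≠ 0 := by
    rw [← Characters.Clifford.classInner_comp_mulEquiv (MonoidHom.ofInjective hι)] at h2
    refine fun e => h2 (Eq.trans ?_ e)
    congr 1
    exact funext fun s => tr_apply hι θ s _
  have h5 : classInner (χ ∘ L.subtype) η ≠ 0 := by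
    rw [← H672.over_iff, h3]
    exact H672.RM.over_self_indFun L (h3 ▸ hχ)
  have hc : IsCharacter L (χ ∘ L.subtype - η) :=
    Clifford.isCharacter_sub_irr (isCharacter_comp _ (isIrr_isCharacter hχ)) hη h5
  obtain ⟨a, ha⟩ := classInner_isNat (isCharacter_comp κ hc) (isIrr_isCharacter hθ)
  obtain ⟨e, he⟩ := classInner_isNat (isCharacter_comp κ (isIrr_isCharacter hη)) (isIrr_isCharacter hθ)
  have h6 : (a : ℂ) = 1 - e := by
    rw [← ha, ← he, ← h1, ← classInner_sub_left]
    rfl
  have h7 : a + e = 1 := by exact_mod_cast eq_sub_iff_add_eq.1 h6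
  have h8 : e ≠ 0 := fun e0 => h4 (by rw [he, e0, Nat.cast_zero])
  obtain rfl : e = 1 := by omega
  obtain rfl : a = 0 := by omega
  have h9 : η ∘ κ = θ := by
    rw [H672.comp_eq_smul_of_invariant_hom κ hκ hκn hη hθ
      (fun k s s' e => (hL k).1 k.2 s s' (congrArg Subtype.val e)) h4, he, Nat.cast_one, one_smul]
  have hu : ∀ η' : L → ℂ, IsIrrCharacter L η' → (∀ s (g : L), (g : H) = ι s → η' g = θ s) →
      ip (χ ∘ L.subtype) η' ≠ 0 → η' = η := fun η' h10 h11 h12 => by
    by_contra h13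
    rw [ip_eq] at h12
    obtain ⟨b, hb⟩ := classInner_isNat (isCharacter_comp κ (Clifford.isCharacter_sub_irr hc h10 (by
      rwa [classInner_sub_left, classInner_irr_ne hη h10 (Ne.symm h13), sub_zero]))) (isIrr_isCharacter hθ)
    rw [show (χ ∘ L.subtype - η - η') ∘ κ = (χ ∘ L.subtype - η) ∘ κ - θ from
      funext fun s => congrArg (_ - ·) (h11 s _ rfl), classInner_sub_left, ha, classInner_irr_self hθ,
      sub_eq_iff_eq_add] at hb
    exact Nat.succ_ne_zero b (by exact_mod_cast hb.symm)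
  have h10 : ∀ s (g : L), (g : H) = ι s → η g = θ s := fun s g e => by
    rw [← h9, show g = κ s from Subtype.ext e]
    rfl
  refine ⟨⟨η, hη, h10, by rwa [ip_eq], hu⟩, fun β hβ => ⟨fun h11 g hg => ?_, fun h11 g => ?_⟩⟩
  · refine eq_one_of_tw κ hη (h9 ▸ hθ) (β.comp L.subtype) hβ (congrFun (hu _ (isIrr_lin_mul _ hη) (fun s x e => ?_) ?_))
      ⟨g, hg⟩
    · rw [h10 s x e, MonoidHom.comp_apply, Subgroup.subtype_apply, e, hβ, Units.val_one, one_mul]
    · rw [ip_eq, classInner_def]
      rw [classInner_def] at h5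
      refine fun e => h5 (Eq.trans (congrArg _ (Finset.sum_congr rfl fun x _ => ?_)) e)
      by_cases h12 : χ x = 0
      · simp [h12]
      · rw [show ((β.comp L.subtype x : ℂˣ) : ℂ) = 1 from mul_right_cancel₀ h12 ((h11 x).trans (one_mul _).symm), one_mul]
  · by_cases hg : g ∈ L
    · rw [h11 g hg, Units.val_one, one_mul]
    · rw [h3, indFun_apply, Finset.sum_eq_zero fun x _ => extendByZero_of_notMem _ _ fun hx => hg ?_, mul_zero, mul_zero]
      rw [show g = x⁻¹ * g * x * ((g * x)⁻¹ * (x * g)) by group]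
      exact mul_mem hx (hNL (hab g x))

end Cfsg.Agent.MK.Two
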