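import Cfsg.Agent.MK.Two.Defs

/-!
# MK, characteristic two: the complement can be chosen such that it fixes `fl lam` (helper38)

`adjBox : BorBox → AdjBox`.
-/

set_option autoImplicit false
set_option maxHeartbeats 400000

namespace Cfsg.Agent.MK.Two

open Cfsg Subgroup Cfsg.Agent.Characters.Core Cfsg.Agent.H40.OC
open scoped ComplexConjugate

namespace Adj

variable {K I : Type} [Group K]

/-- `φ` permutes the characters `lam i` -/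
def Pm {U : Subgroup K} (lam : I → (U →* ℂˣ)) (φ : MulAut K) : Prop :=
  ∃ σ : Equiv.Perm I, ∀ i, ∀ u u' : U, (u' : K) = φ u → lam (σ i) u' = lam i u

/-- the new complement -/
def ph {U : Subgroup K} (T : Subgroup K) (Φ : Subgroup (MulAut K)) (lam : I → (U →* ℂˣ))
    (hT : ∀ φ ∈ Φ, ∀ t ∈ T, φ t ∈ T) (hU : ∀ φ ∈ Φ, ∀ u ∈ U, φ u ∈ U) (hc : ∀ t ∈ T, ∀ u ∈ U, t * u * t⁻¹ ∈ U) :
    Subgroup (MulAut K) where
  carrier := {φ' | (∃ t ∈ T, ∃ φ ∈ Φ, φ' = MulAut.conj t * φ) ∧ Pm lam φ'}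
  one_mem' := ⟨⟨1, one_mem _, 1, one_mem _, by rw [map_one, mul_one]⟩, 1, fun i u u' e => by
    rw [show u' = u from Subtype.ext e]
    rfl⟩
  mul_mem' := by
    rintro a b ⟨⟨t, ht, φ, hφ, ea⟩, σ, hσ⟩ ⟨⟨s, hs, ψ, hψ, eb⟩, τ, hτ⟩
    refine ⟨⟨t * φ s, mul_mem ht (hT φ hφ s hs), φ * ψ, mul_mem hφ hψ, ?_⟩, σ * τ, fun i u u' e => ?_⟩
    · rw [ea, eb, map_mul, conj_map]
      group
    · have h1 : b u ∈ U := by
        rw [eb]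
        exact hc s hs _ (hU ψ hψ u u.2)
      exact (hσ (τ i) ⟨b u, h1⟩ u' e).trans (hτ i u ⟨b u, h1⟩ rfl)
  inv_mem' := by
    rintro a ⟨⟨t, ht, φ, hφ, ea⟩, σ, hσ⟩
    refine ⟨⟨φ⁻¹ t⁻¹, hT _ (inv_mem hφ) _ (inv_mem ht), φ⁻¹, inv_mem hφ, ?_⟩, σ⁻¹, fun i u u' e => ?_⟩
    · rw [ea, conj_map, map_inv]
      group
    · rw [← hσ (σ⁻¹ i) u' u (by rw [e, MulAut.apply_inv_self]), ← Equiv.Perm.mul_apply, mul_inv_cancel,
        Equiv.Perm.one_apply]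

end Adj

open Adj in
/-- **the complement can be chosen such that it fixes `fl lam`** -/
theorem adjBox (h : BorBox) : AdjBox := by
  intro X K I _ _ _ _ ι U T B D Φ R f lam hl
  obtain ⟨-, -, h3⟩ := h f.bo
  obtain ⟨-, -, hc, hd⟩ := h3 lam hl
  have S := f.bo.sys
  have hB := f.bo.tB
  refine ⟨ph T Φ lam f.φT f.φU fun t ht u hu => S.conj_U' ht hu,
    ⟨f.bo, f.inj, f.nrm, f.uX, f.spl, f.ti, f.mr, f.cen, f.zX, f.cX, ?_, ?_, ?_, ?_, ?_, f.ex, f.un, ?_, f.tw, f.cz⟩,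
    fun Λ hΛ α => (hΛ α).trans ⟨?_, ?_⟩, ?_⟩
  · rintro _ ⟨⟨t, -, φ, hφ, rfl⟩, -⟩ x
    exact f.nrm.conj_mem _ (f.φX φ hφ x) t
  · rintro _ ⟨⟨t, ht, φ, hφ, rfl⟩, -⟩ u hu
    exact S.conj_U' ht (f.φU φ hφ u hu)
  · rintro _ ⟨⟨t, ht, φ, hφ, rfl⟩, -⟩ s hs
    exact mul_mem (mul_mem ht (f.φT φ hφ s hs)) (inv_mem ht)
  · rintro _ ⟨⟨t, ht, φ, hφ, rfl⟩, -⟩
    obtain ⟨σ, hσ⟩ := f.φD φ hφ
    exact ⟨σ, fun i u hu => (mem_normalizer_iff.1 (S.tD (σ i) ht) (φ u)).symm.trans (hσ i u hu)⟩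
  · rintro _ ⟨⟨t, ht, φ, hφ, rfl⟩, σ, hσ⟩ b hb e
    have h1 : φ = 1 := f.fa φ hφ (t⁻¹ * b) (mul_mem (inv_mem (hB ht)) hb) fun x => by
      have h2 : t * φ (ι x) * t⁻¹ = b * ι x * b⁻¹ := e x
      rw [mul_inv_rev, inv_inv, mul_assoc t⁻¹, mul_assoc t⁻¹, ← mul_assoc (b * ι x), ← h2]
      group
    subst h1
    rw [mul_one] at hσ ⊢
    have h2 : ∀ i, σ i = i := by
      intro i
      by_contra hi
      refine hl.ne i (MonoidHom.ext fun u => ?_)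
      obtain ⟨x, hx, h4, h5⟩ := S.co i u u.2
      have h6 : u = ⟨x, hx⟩ * ⟨x⁻¹ * u, mul_mem (inv_mem hx) u.2⟩ := Subtype.ext (mul_inv_cancel_left _ _).symm
      rw [h6, hl.mul h4, ← hσ i ⟨x, hx⟩ ⟨t * x * t⁻¹, S.conj_U' ht hx⟩ rfl]
      exact hl.one _ _ ((mem_normalizer_iff.1 (S.tD (σ i) ht) x).1 (h5 _ hi))
    have h7 : t ∈ center K := f.cen t ⟨ht, fun i _ => (hd t ht i fun u u' e' => by
      rw [← hσ i u u' e', h2]).2 i rfl⟩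
    refine MulEquiv.ext fun x => ?_
    change t * x * t⁻¹ = x
    rw [← mem_center_iff.1 h7 x, mul_inv_cancel_right]
  · rintro _ ⟨⟨t, ht, φ, hφ, rfl⟩, -⟩ χ ψ ψ' hχ hψ hR e
    have h1 : (fun g => χ ((MulAut.conj t * φ) g)) = fun g => χ (φ g) :=
      funext fun g => isIrr_isClassFunction hχ.1 (φ g) t
    rw [h1]
    refine f.aut φ hφ χ ψ ψ' hχ hψ hR fun b b' e' => ?_
    rw [e b (⟨t, hB ht⟩ * b' * ⟨t, hB ht⟩⁻¹) (by rw [MulAut.mul_apply, ← e']; rfl)]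
    exact isIrr_isClassFunction hψ.1 _ _
  · rintro ⟨b, hb, φ, hφ, e⟩
    obtain ⟨σ, hσ⟩ := f.φD φ hφ
    let r : U →* U := (φ.toMonoidHom.comp U.subtype).codRestrict U fun u => f.φU φ hφ u u.2
    obtain ⟨t, ht, h1⟩ := hc (fun i => (lam (σ i)).comp r) ⟨fun i u hu => hl.one _ _ ((hσ i u u.2).2 hu), fun i h1 =>
      hl.ne (σ i) (MonoidHom.ext fun u => by
        have h2 : u = r ⟨φ⁻¹ u, f.φU _ (inv_mem hφ) u u.2⟩ := Subtype.ext (MulAut.apply_inv_self _ φ u.1).symm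
        rw [h2]
        exact DFunLike.congr_fun h1 _)⟩
    refine ⟨b * φ t, mul_mem hb (hB (f.φT φ hφ t ht)), MulAut.conj (φ t⁻¹) * φ,
      ⟨⟨_, f.φT φ hφ _ (inv_mem ht), φ, hφ, rfl⟩, σ, fun i u u' e' => ?_⟩, fun x => ?_⟩
    · rw [← h1 i ⟨t⁻¹ * u * t, S.conj_U ht u.2⟩ u (by simp only [mul_assoc, mul_inv_cancel, mul_one, mul_inv_cancel_left])]
      refine congrArg (lam (σ i)) (Subtype.ext (e'.trans ?_))
      change φ t⁻¹ * φ u * (φ t⁻¹)⁻¹ = φ (t⁻¹ * u * t)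
      rw [map_mul, map_mul, ← map_inv, inv_inv]
    · rw [e, MulAut.mul_apply, MulAut.conj_apply, map_inv]
      group
  · rintro ⟨b, hb, _, ⟨⟨t, ht, φ, hφ, rfl⟩, -⟩, e⟩
    refine ⟨b * t, mul_mem hb (hB ht), φ, hφ, fun x => ?_⟩
    rw [e, MulAut.mul_apply, MulAut.conj_apply]
    group
  · rintro φ ⟨-, σ, hσ⟩ u u' e
    unfold fl
    rw [← Equiv.prod_comp σ]
    exact Finset.prod_congr rfl fun i _ => by rw [hσ i u u' e]

end Cfsg.Agent.MK.Two
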