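import Cfsg.Agent.MK.Two.Defs
import Cfsg.Agent.MK.E.Mult
import Cfsg.Agent.Blocks.OrbitSum
import Cfsg.Agent.S0888

/-!
# MK, characteristic two: `extBox` (helper62)

* `Ext.ext_sylow` : an invariant irreducible character which extends for all subgroups of prime power order extends;
* `Ext.exists_fixed` : an invariant linear constituent with a multiplicity prime to `r`;
* `extBox`.
-/

set_option autoImplicit false
set_option maxHeartbeats 400000

namespace Cfsg.Agent.MK.Two

open Cfsg Subgroup Cfsg.Agent.Characters.Core Cfsg.Agent.MK.E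
open scoped ComplexConjugate

namespace Ext

/-- **Sylow-wise extension to a semidirect product** -/
theorem ext_sylow {H P : Type} [Group H] [Group P] [Finite H] [Finite P] {φ : P →* MulAut H} {θ : H → ℂ}
    (hθ : IsIrrCharacter H θ) (hinv : ∀ p x, θ (φ p x) = θ x)
    (h : ∀ r : ℕ, r.Prime → ∀ R : Subgroup P, IsPGroup r R → ExS (φ.comp R.subtype) θ) :
    ∃ Θ : H ⋊[φ] P → ℂ, IsIrrCharacter _ Θ ∧ ∀ x, Θ (SemidirectProduct.inl x) = θ x := by
  have := finite_sd (φ := φ)
  have := normal_NS (φ := φ)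
  have h0 : IsIrrCharacter (NS φ) (θ ∘ lf) := isIrr_comp lf lf_surj hθ
  obtain ⟨d, -, hd⟩ := isIrr_apply_one h0
  obtain ⟨χ, hχ, hr⟩ := CharactersDeep.ExtGroup.extends_of_local (NS φ) (θ ∘ lf) h0
    (inv_NS (isIrr_isClassFunction hθ) hinv) d hd fun r hr => by
      have := Fact.mk hr
      obtain ⟨R⟩ : Nonempty (Sylow r P) := inferInstance
      obtain ⟨Θ, hΘ, h1⟩ := h r hr R R.isPGroup'
      let Q : Subgroup (H ⋊[φ] P) := (R : Subgroup P).comap SemidirectProduct.rightHom
      have hle : NS φ ≤ Q := fun g hg => by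
        have h2 : SemidirectProduct.rightHom g = 1 := hg
        rw [mem_comap, h2]
        exact one_mem _
      let κ : Q →* H ⋊[φ.comp (R : Subgroup P).subtype] (R : Subgroup P) :=
        MonoidHom.mk' (fun g => ⟨g.1.left, ⟨g.1.right, g.2⟩⟩) fun _ _ => rfl
      have h3 : ∀ n : NS φ, Θ (κ ⟨n, hle n.2⟩) = (θ ∘ lf) n := fun n => by
        have h2 : n.1.right = 1 := n.2
        rw [Function.comp, ← h1]
        exact congrArg Θ (SemidirectProduct.ext rfl (Subtype.ext h2))
      refine Or.inl ⟨Q, hle, fun g => Θ (κ g), ?_, ?_, h3⟩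
      · rw [index_comap_of_surjective _ SemidirectProduct.rightHom_surjective]
        exact ((Nat.Prime.coprime_iff_not_dvd hr).2 R.not_dvd_index).symm
      · refine isIrr_of_comp (inclusion hle) (isCharacter_comp κ hΘ) ?_
        exact (funext h3 : (fun n : NS φ => Θ (κ ⟨n, hle n.2⟩)) = _) ▸ h0
  exact ⟨χ, hχ, fun x => hr ⟨SemidirectProduct.inl x, rfl⟩⟩

theorem finite_lin {V : Type} [Group V] [Finite V] : Finite (V →* ℂˣ) := by
  have := finite_irr (G := V)
  refine Finite.of_injective (fun l : V →* ℂˣ => (⟨_, Characters.Linear.isIrrCharacter_hom l⟩ : IrrCharacter V))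
    fun a b e => MonoidHom.ext fun v => Units.ext ?_
  exact congrFun (congrArg Subtype.val e) v

theorem inner_lin {V : Type} [Group V] [Fintype V] (a b : V →* ℂˣ) [Decidable (a = b)] :
    classInner (fun v => (a v : ℂ)) (fun v => (b v : ℂ)) = if a = b then 1 else 0 := by
  split_ifs with h
  · rw [h]
    exact classInner_irr_self (Characters.Linear.isIrrCharacter_hom b)
  · exact classInner_irr_ne (Characters.Linear.isIrrCharacter_hom a) (Characters.Linear.isIrrCharacter_hom b)
      fun e => h (MonoidHom.ext fun v => Units.ext (congrFun e v))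

/-- the action on the linear characters -/
@[reducible] def act {V R : Type} [Group V] [Group R] (σ : R →* MulAut V) : MulAction R (V →* ℂˣ) where
  smul φ l := l.comp (σ φ⁻¹).toMonoidHom
  one_smul l := MonoidHom.ext fun v => by
    change l (σ 1⁻¹ v) = l v
    rw [inv_one, map_one, MulAut.one_apply]
  mul_smul φ ψ l := MonoidHom.ext fun v => by
    change l (σ (φ * ψ)⁻¹ v) = l (σ ψ⁻¹ (σ φ⁻¹ v))
    rw [mul_inv_rev, map_mul, MulAut.mul_apply]

/-- **an invariant linear constituent with a multiplicity prime to `r`** -/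
theorem exists_fixed {V R : Type} [Group V] [Fintype V] [Group R] {r : ℕ} (hr : r.Prime) (hR : IsPGroup r R)
    (σ : R →* MulAut V) {X : V → ℂ} (hX : IsCharacter V X) (hXi : ∀ φ v, X (σ φ v) = X v) {n : Type} [Fintype n]
    (c : n → ℤ) (l : n → (V →* ℂˣ)) (f : V → ℂ) (hf : ∀ v, f v = ∑ i, c i * (l i v : ℂ))
    (hfi : ∀ φ v, f (σ φ v) = f v) (h1 : Complex.normSq (classInner X f) = 1) :
    ∃ (lam : V →* ℂˣ) (m : ℕ), (∀ φ v, lam (σ φ v) = lam v) ∧ classInner X (fun v => (lam v : ℂ)) = m ∧ ¬ r ∣ m := by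
  classical
  have := Fact.mk hr
  have := finite_lin (V := V)
  have := Fintype.ofFinite (V →* ℂˣ)
  let _ := act σ
  have hs : ∀ (φ : R) (a : V →* ℂˣ) (v : V), (φ • a) v = a (σ φ⁻¹ v) := fun _ _ _ => rfl
  have hI : ∀ g : V → ℂ, (∀ φ v, g (σ φ v) = g v) → ∀ (φ : R) (a : V →* ℂˣ),
      classInner g (fun v => ((φ • a) v : ℂ)) = classInner g fun v => (a v : ℂ) := fun g hg φ a => by
    rw [← Characters.Clifford.classInner_comp_mulEquiv (σ φ⁻¹) g fun v => (a v : ℂ)]
    congr 1
    exact funext fun v => (hg φ⁻¹ v).symm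
  choose m hm using fun a : V →* ℂˣ => classInner_isNat hX (Characters.Linear.isCharacter_hom a)
  let c' : (V →* ℂˣ) → ℤ := fun a => ∑ i with l i = a, c i
  have hf' : f = ∑ i, (c i : ℂ) • fun v => (l i v : ℂ) := by
    funext v
    rw [hf]
    simp
  have hc : ∀ a : V →* ℂˣ, classInner f (fun v => (a v : ℂ)) = c' a := fun a => by
    rw [hf', classInner_sum_left]
    simp only [classInner_smul_left, inner_lin, c', Finset.sum_filter]
    push_cast
    refine Finset.sum_congr rfl fun i _ => ?_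
    split_ifs <;> simp
  have h2 : classInner X f = (∑ a, c' a * m a : ℤ) := by
    rw [hf', classInner_sum_right]
    simp only [classInner_smul_right, hm, c', Finset.sum_mul]
    rw [← Finset.sum_fiberwise (s := Finset.univ) (g := l)]
    push_cast
    refine Finset.sum_congr rfl fun a _ => Finset.sum_congr rfl fun i hi => ?_
    rw [(Finset.mem_filter.1 hi).2]
    simp
  obtain ⟨z, hz⟩ := Blocks.OrbitSum.sum_eq_sum_fixed_add_smul hR (fun a : V →* ℂˣ => c' a * m a) fun φ a => by
    have e1 : c' (φ • a) = c' a := by exact_mod_cast (hc _).symm.trans ((hI f hfi φ a).trans (hc a))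
    have e2 : m (φ • a) = m a := by exact_mod_cast (hm _).symm.trans ((hI X hXi φ a).trans (hm a))
    simp only [e1, e2]
  by_contra hno
  have h3 : (r : ℤ) ∣ ∑ a, c' a * m a := by
    rw [hz]
    refine dvd_add (Finset.dvd_sum fun a ha => Dvd.dvd.mul_left ?_ _) ⟨z, by simp⟩
    by_contra h4
    refine hno ⟨a, m a, fun φ v => ?_, hm a, fun h5 => h4 (Int.natCast_dvd_natCast.2 h5)⟩
    have h5 := (Finset.mem_filter.1 ha).2 φ⁻¹
    rw [← inv_inv φ, ← hs, h5]
  rw [h2, Complex.normSq_intCast] at h1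
  have h4 : (∑ a, c' a * m a) * (∑ a, c' a * m a) = 1 := by exact_mod_cast h1
  have h5 : (r : ℤ) ∣ 1 := h4 ▸ h3.mul_left _
  exact hr.one_lt.ne' (Nat.dvd_one.1 (Int.natCast_dvd_natCast.1 h5))

end Ext

/-- **extension to a semidirect product** -/
theorem extBox : ExtBox := by
  intro E Φ V _ _ _ _ _ _ ρ σ j hj hσ Ψ hΨ hinv n _ c l f hf hfi h1
  refine Ext.ext_sylow hΨ hinv fun r hr R hR => ?_
  have := Fintype.ofFinite V
  have := Fintype.ofFinite j.range
  rw [ip_eq] at h1
  obtain ⟨lam, m, h2, h3, h4⟩ := Ext.exists_fixed hr hR (σ.comp R.subtype) (isCharacter_comp j (isIrr_isCharacter hΨ))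
    (fun φ v => by
      change Ψ (j (σ φ v)) = Ψ (j v)
      rw [hσ, hinv]) c l f hf (fun φ v => hfi φ v) h1
  let e : V ≃* j.range := MonoidHom.ofInjective hj
  have he : ∀ v, (e v : E) = j v := fun _ => rfl
  have hU : ∀ p : R, ∀ u ∈ j.range, (ρ.comp R.subtype) p u ∈ j.range := by
    rintro p _ ⟨v, rfl⟩
    exact ⟨σ p v, hσ p v⟩
  refine exS_lin hr hR hΨ (fun p x => hinv p x) j.range hU (lam.comp e.symm.toMonoidHom) (fun p u => ?_) (m := m) ?_ h4
  · obtain ⟨v, rfl⟩ := e.surjective u
    have h5 : (⟨(ρ.comp R.subtype) p (e v), hU p (e v) (e v).2⟩ : j.range) = e (σ p v) := Subtype.ext (hσ p v).symm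
    rw [h5]
    simpa using h2 p v
  · rw [← h3, ← Characters.Clifford.classInner_comp_mulEquiv e]
    congr 1
    funext v
    simp

end Cfsg.Agent.MK.Two
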