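import Cfsg.Agent.MK.Two.Sp3
import Cfsg.Agent.MK.E.Ext

/-!
# MK, characteristic two: the bijection (helper58)

* `Cx.Wt.ext` : the extension property for a standard pair; `Cx.Rx`, `Cx.exists_cf`; **`spBox`**.
-/

set_option autoImplicit false
set_option maxHeartbeats 400000

namespace Cfsg.Agent.MK.Two

open Cfsg Subgroup Cfsg.Agent.Characters Cfsg.Agent.Characters.Core Cfsg.Agent.ODD.Red
open scoped ComplexConjugate

namespace Cx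

variable {X K V : Type} [Group X] [Group K] [Group V] [Finite X] [Finite K] [Finite V] {ι : X →* K} {B : Subgroup K}
  {Φ : Subgroup (MulAut K)} {R : (K → ℂ) → (B → ℂ) → Prop} {Λ : Subgroup (MulAut X)} {κ : In Λ →* B}
  {j : V →* In Λ} {f : V → ℂ} {C : Cx ι B Φ R Λ κ j f} {χ χ' : K → ℂ} {ψ ψ' : B → ℂ} {θ θ' : X → ℂ}
  {η η' : In Λ → ℂ}

theorem Wt.ext (hA : AbBox) (hE : ExtBox) (w : C.Wt χ ψ θ η) : ExtF Λ (St Λ θ) θ η := by
  obtain ⟨ξ, x1, x2, x3, x4⟩ := (hA ι C.aX.inj C.aX.nrm C.aX.ab χ θ w.oχ.1 w.iθ w.mθ (C.aX.Stb θ) fun _ => Iff.rfl).1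
  obtain ⟨ζ, z1, z2, z3, z4⟩ := (hA κ C.aM.inj C.aM.nrm C.aM.ab ψ η w.oψ.1 w.iη w.mη (C.aM.Stb η) fun _ => Iff.rfl).1
  obtain ⟨ρ, hρ⟩ := C.exists_ρ
  obtain ⟨τ, hτ⟩ := C.exists_τ
  obtain ⟨σ, hσ⟩ := C.φV
  obtain ⟨n, _, c, l, hl⟩ := C.lin
  have := C.aX.nrm
  let P : Subgroup Φ := (St Λ θ).comap (Λ.subtype.comp ρ)
  have hP : ∀ p : P, ∃ β : K →* ℂˣ, (∀ x, β (ι x) = 1) ∧
      ((∀ g ∈ C.aX.Stb θ, p.1.1 g ∈ C.aX.Stb θ) ∧ ∀ g g' : C.aX.Stb θ, (g' : K) = p.1.1 g → ξ g' = β g * ξ g) ∧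
      (∀ g ∈ C.aM.Stb η, τ p g ∈ C.aM.Stb η) ∧ ∀ g g' : C.aM.Stb η, (g' : B) = τ p g → ζ g' = β (g : B) * ζ g := fun p => by
    have w' := w.aut (hρ p) (hτ p)
    rw [show (fun x => θ ((ρ p).1 x)) = θ from funext p.2.2] at w'
    obtain ⟨β, h1, h2⟩ := C.aX.tw w.oχ.1 w'.oχ.1 w.iθ w.uθ w'.uθ
    exact ⟨β, h1, C.aX.hat x1 x2 x3 x4 (hρ p) p.2.2 h1 (congrFun h2), C.aM.hat z1 z2 z3 z4 (α := rs Λ (ρ p))
      (fun y => Subtype.ext (by rw [hτ, C.hκ, C.hκ, ← hρ]; rfl)) (congrFun (pr_un ⟨_, _, w'⟩ ⟨_, _, w⟩))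
      (β := β.comp B.subtype) (fun y => (congrArg β (C.hκ y)).trans (h1 _))
      (congrFun (w.link w'.oχ w'.oψ w'.r h1 h2))⟩
  let E : Subgroup (C.aX.Stb θ × C.aM.Stb η) :=
    ((QuotientGroup.mk' ι.range).comp ((C.aX.Stb θ).subtype.comp (MonoidHom.fst _ _))).eqLocus
      ((QuotientGroup.mk' ι.range).comp (B.subtype.comp ((C.aM.Stb η).subtype.comp (MonoidHom.snd _ _))))
  have hE0 : ∀ e, e ∈ E ↔ (e.1 : K)⁻¹ * (e.2 : B) ∈ ι.range := fun e => QuotientGroup.eq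
  let i : E →* K × K := ((C.aX.Stb θ).subtype.prodMap (B.subtype.comp (C.aM.Stb η).subtype)).comp E.subtype
  have hi : Function.Injective i := fun a b e => Subtype.ext (Prod.ext (Subtype.ext (congrArg Prod.fst e))
    (Subtype.ext (Subtype.ext (congrArg Prod.snd e))))
  obtain ⟨a, ha⟩ := exists_act (prodA (Φ.subtype.comp P.subtype) (Φ.subtype.comp P.subtype)) hi fun p e => by
    obtain ⟨β, -, h1, h2⟩ := hP p
    obtain ⟨x, hx⟩ := (hE0 _).1 e.2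
    refine ⟨⟨(⟨_, h1.1 _ e.1.1.2⟩, ⟨_, h2.1 _ e.1.2.2⟩), (hE0 _).2 ?_⟩, Prod.ext rfl (hτ _ _)⟩
    have h3 := C.φX _ p.1.2 x
    rwa [hx, map_mul, map_inv, ← hτ p.1 e.1.2] at h3
  have a1 : ∀ p e, (i (a p e)).1 = p.1.1 (i e).1 := fun p e => congrArg Prod.fst (ha p e)
  have a2 : ∀ p e, (i (a p e)).2 = p.1.1 (i e).2 := fun p e => congrArg Prod.snd (ha p e)
  let j0 : X × In Λ →* E := ((ι.codRestrict _ (C.aX.le_Stb w.iθ)).prodMap (κ.codRestrict _ (C.aM.le_Stb w.iη))).codRestrict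
    E fun v => (hE0 _).2 (mul_mem (inv_mem ⟨v.1, rfl⟩) ⟨v.2, (C.hκ _).symm⟩)
  have j1 : ∀ x y, (i (j0 (x, y))).1 = ι x := fun _ _ => rfl
  have j2 : ∀ x y, (i (j0 (x, y))).2 = ι y := fun _ y => C.hκ y
  let Ψ : E → ℂ := fun e => ξ e.1.1 * conj (ζ e.1.2)
  have hΨ : ∀ x y, Ψ (j0 (x, y)) = θ x * conj (η y) := fun x y =>
    congrArg₂ (fun a b => a * conj b) (x2 x _ rfl) (z2 y _ rfl)
  obtain ⟨Ξ, y1, y2⟩ := hE a (prodA (σ.comp P.subtype) (σ.comp P.subtype))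
    (j0.comp (((In Λ).subtype.comp j).prodMap j))
    (fun u v e => Prod.ext (C.jinj (Subtype.ext (C.aX.inj (congrArg (fun e => (i e).1) e))))
      (C.jinj (Subtype.ext (C.aX.inj ((j2 _ _).symm.trans ((congrArg (fun e => (i e).2) e).trans (j2 _ _)))))))
    (fun p v => hi (Prod.ext ((hσ p v.1).1.trans (a1 p (j0 (j v.1, j v.2))).symm)
      ((j2 _ _).trans ((hσ p v.2).1.trans ((congrArg _ (j2 _ _).symm).trans (a2 p (j0 (j v.1, j v.2))).symm))))) Ψ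
    (MK.E.isIrr_of_comp j0 (isCharacter_comp E.subtype (S0188.isCharacter_outer (isIrr_isCharacter x1)
      (isCharacter_conj (isIrr_isCharacter z1))))
      (funext (fun v : X × In Λ => hΨ v.1 v.2) ▸ S0188.isIrr_outer w.iθ (isIrr_conj w.iη) :))
    (fun p e => by
      obtain ⟨β, h0, h1, h2⟩ := hP p
      obtain ⟨x, hx⟩ := (hE0 _).1 e.2
      have h3 : β (e.1.2 : B) = β e.1.1 := by rw [← mul_one (β e.1.1), ← h0 x, hx, ← map_mul, mul_inv_cancel_left]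
      change ξ _ * conj (ζ _) = ξ _ * conj (ζ _)
      rw [h1.2 e.1.1 (a p e).1.1 (a1 p e), h2.2 e.1.2 (a p e).1.2 (Subtype.ext ((a2 p e).trans (hτ _ _).symm)), h3, map_mul]
      linear_combination ξ e.1.1 * conj (ζ e.1.2) * lin_conj β e.1.1)
    (fun k : n × n => c k.1 * c k.2) (fun k => (l k.1).comp (MonoidHom.fst _ _) * (l k.2)⁻¹.comp (MonoidHom.snd _ _))
    (fun v => f v.1 * conj (f v.2)) (fun v => by
      rw [hl, hl, map_sum, Finset.sum_mul_sum, Fintype.sum_prod_type]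
      refine Finset.sum_congr rfl fun k _ => Finset.sum_congr rfl fun k' _ => ?_
      simp [eq_inv_of_mul_eq_one_right (lin_conj (l k') v.2), mul_mul_mul_comm])
    (fun p v => congrArg₂ (fun a b => a * conj b) (hσ p v.1).2 (hσ p v.2).2) (by
      refine (congrArg _ ((congrArg (ip · _) (funext fun v => hΨ _ _)).trans
        (ip_outer (θ ∘ (In Λ).subtype.comp j) f (η ∘ j) f))).trans ?_
      rw [map_mul, Complex.normSq_conj, ((pr_cnt (C := C)).1 θ w.iθ w.aθ).1,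
        (C.uM ψ η η w.oψ w.iη w.iη w.uη w.uη w.aη w.aη).2, mul_one])
  have := MK.E.finite_sd (φ := a)
  refine extF_of (SemidirectProduct.inl.comp j0) y1 (fun x y => (y2 _).trans (hΨ x y))
    (fun g α => (i g.left).1 = (i g.left).2 ∧ ∀ x, ι (α x) = (i g.left).1 * g.right.1.1 (ι x) * (i g.left).1⁻¹)
    (fun g g' α α' h h' => ⟨?_, fun x => ?_⟩) (fun g g' α h h' => ?_) (fun g α h x y y' e => ?_)
    (fun y => ⟨(j2 _ _).symm, fun x => by simp [j1]⟩) fun α hα => ?_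
  · rw [SemidirectProduct.mul_left, map_mul, Prod.fst_mul, Prod.snd_mul, a1, a2, h.1, h'.1]
  · rw [SemidirectProduct.mul_left, map_mul, Prod.fst_mul, a1, MulAut.mul_apply, h.2, h'.2]
    simp [mul_assoc]
  · have h1 : (i g'.left).1⁻¹ * (i g.left).1 ∈ B := by
      rw [h.1, h'.1]
      exact mul_mem (inv_mem g'.left.1.2.1.2) g.left.1.2.1.2
    have h2 : ∀ x, g'.right.1.1 (g.right.1.1⁻¹ (ι x)) =
        (i g'.left).1⁻¹ * (i g.left).1 * ι x * ((i g'.left).1⁻¹ * (i g.left).1)⁻¹ := fun x => by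
      obtain ⟨x', hx⟩ := C.φX _ (inv_mem g.right.1.2) x
      have h3 := (h.2 x').symm.trans (h'.2 x')
      rw [hx, MulAut.apply_inv_self] at h3
      rw [← mul_left_inj (i g'.left).1⁻¹, ← mul_right_inj (i g'.left).1, ← mul_assoc, ← h3]
      group
    have h3 := C.fa (g'.right.1.1 * g.right.1.1⁻¹) (mul_mem g'.right.1.2 (inv_mem g.right.1.2)) _ h1 h2
    have h4 : g'.right = g.right := Subtype.ext (Subtype.ext (mul_inv_eq_one.1 h3))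
    have h5 := C.cX _ h1 fun x => by
      have h5 := h2 x
      rw [h4, MulAut.apply_inv_self] at h5
      exact (eq_mul_inv_iff_mul_eq.1 h5).symm
    have h6 : g * g'⁻¹ = SemidirectProduct.inl (g.left * g'.left⁻¹) := by ext1 <;> simp [h4]
    have h7 : (i (g.left * g'.left⁻¹)).1 ∈ center K := by
      rwa [map_mul, map_inv, Prod.fst_mul, Prod.fst_inv, ← mul_inv_cancel_left (i g'.left).1 (i g.left).1,
        mem_center_iff.1 h5, mul_inv_cancel_right]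
    have h8 : (i (g.left * g'.left⁻¹)).2 = (i (g.left * g'.left⁻¹)).1 := by
      rw [map_mul, map_inv, Prod.fst_mul, Prod.fst_inv, Prod.snd_mul, Prod.snd_inv, h.1, h'.1]
    rw [h6, ← map_one (SemidirectProduct.inl (φ := a)), y2, y2]
    generalize g.left * g'.left⁻¹ = z at h7 h8
    have h9 : χ (i z).1 = χ (i z).1 / χ 1 * χ 1 := (div_mul_cancel₀ _ w.oχ.one_ne).symm
    have h10 : ψ z.1.2 = χ (i z).1 / χ 1 * ψ 1 := by
      rw [div_mul_eq_mul_div, eq_div_iff w.oχ.one_ne, ← C.cz χ ψ w.oχ w.oψ w.r z.1.2 (h8 ▸ h7 :), ← h8]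
      rfl
    change ξ _ * conj (ζ _) = ξ 1 * conj (ζ 1)
    rw [cen_of_und (C.aX.Stb θ).subtype_injective w.oχ.1 x1 x3 (z := z.1.1) h7 h9,
      cen_of_und (C.aM.Stb η).subtype_injective w.oψ.1 z1 z3 (z := z.1.2)
        (mem_center_iff.2 fun b => Subtype.ext (mem_center_iff.1 (h8 ▸ h7 :) b)) h10, map_mul]
    linear_combination ξ 1 * conj (ζ 1) * MK.E.mul_conj_central w.oχ.1 h7 h9
  · refine SemidirectProduct.ext (hi (Prod.ext ?_ ?_)) (by simp)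
    · simp [a1, j1, h.2]
    · simp [a2, j2, e, h.2, h.1]
  · obtain ⟨b, φ, δ, h1, h2, -⟩ := C.split hρ ⟨α, hα.1⟩
    obtain rfl : α = δ.1 * (ρ φ).1 := congrArg Subtype.val h1
    have h3 := Pr.aut ⟨_, _, w⟩ (hρ φ⁻¹)
    rw [show (fun x => θ ((ρ φ⁻¹).1 x)) = fun x => θ (δ.1 x) from funext fun x => by
      simpa using (hα.2 ((ρ φ⁻¹).1 x)).symm] at h3
    have h4 := congrFun (w.fix h2 h3)
    have h5 := (C.aX.mem_Stb h2).2 h4
    exact ⟨⟨⟨(⟨b, h5⟩, ⟨b, (w.stab hA b).1 h5⟩), rfl⟩, ⟨φ, (ρ φ).2, fun x => (h4 _).symm.trans (hα.2 x)⟩⟩, rfl,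
      fun x => (h2 _).trans (congrArg (b * · * (b : K)⁻¹) (hρ φ x))⟩

variable (C) in
/-- conjugate to a standard pair -/
def Rx (θ : X → ℂ) (η : In Λ → ℂ) : Prop := ∃ α : Λ, C.Pr (fun x => θ (α.1 x)) fun y => η (rs Λ α y)

theorem rx_iff (hA : AbBox) (h : C.Rx θ η) (h' : C.Rx θ' η') : θ = θ' ↔ η = η' := by
  obtain ⟨α, h⟩ := h
  obtain ⟨α', h'⟩ := h'
  rw [← comp_inj α.1, ← comp_inj (rs Λ α)]
  exact key hA h (α⁻¹ * α') (by simpa using h')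

theorem Rx.odd (h : C.Rx θ η) : OI X θ ∧ OI (In Λ) η := by
  obtain ⟨α, χ, ψ, w⟩ := h
  exact ⟨by simpa using oi_aut α.1⁻¹ (C.aX.down w.oχ w.iθ w.uθ),
    by simpa using oi_aut (rs Λ α)⁻¹ (C.aM.down w.oψ w.iη w.uη)⟩

theorem Rx.aut (h : C.Rx θ η) (γ : Λ) : C.Rx (fun x => θ (γ.1 x)) fun y => η (rs Λ γ y) :=
  let ⟨α, h⟩ := h
  ⟨γ⁻¹ * α, by simpa using h⟩

theorem rx_ex (h : OI X θ) : ∃ η, C.Rx θ η := by
  obtain ⟨χ, h1, h2⟩ := C.aX.up h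
  obtain ⟨θ', h3, h4, h5⟩ := C.exists_std h1
  obtain ⟨-, η, h6⟩ := (pr_cnt (C := C)).1 θ' h3 h5
  obtain ⟨k, hk⟩ := C.aX.cj h1.1 h.1 h3 h2 h4
  obtain ⟨x, b, hb, rfl⟩ := C.spl k
  obtain ⟨δ, h7, -⟩ := C.exists_b ⟨b, hb⟩
  refine ⟨fun y => η (rs Λ δ⁻¹ y), δ, ?_⟩
  rw [show θ' = fun s => θ (δ.1 s) from funext fun s => (hk s (x * δ.1 s * x⁻¹) (by simp [h7, mul_assoc])).trans
    (isIrr_isClassFunction h.1 _ x)] at h6
  simpa using h6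

theorem rx_ex' (h : OI (In Λ) η) : ∃ θ, C.Rx θ η := by
  obtain ⟨ψ, h1, h2⟩ := C.aM.up h
  obtain ⟨η', h3, h4, h5⟩ := exists_und j (isCharacter_comp κ (isIrr_isCharacter h1.1)) (f := f) fun e =>
    zero_ne_one (map_zero Complex.normSq ▸ e ▸ C.nB ψ h1 :)
  obtain ⟨θ, h6⟩ := C.pr_ex h3 h5
  obtain ⟨b, hb⟩ := C.aM.cj h1.1 h.1 h3 h2 h4
  obtain ⟨δ, -, h7⟩ := C.exists_b b
  refine ⟨fun x => θ (δ.1⁻¹ x), δ, ?_⟩
  rw [show η' = fun s => η (rs Λ δ s) from funext fun s => hb s _ (h7 s)] at h6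
  simpa using h6

theorem Rx.cen (h : C.Rx θ η) (z : In Λ) (hz : (z : X) ∈ center X) : θ z * η 1 = η z * θ 1 := by
  obtain ⟨α, χ, ψ, w⟩ := h
  obtain ⟨z, rfl⟩ := (rs Λ α).surjective z
  have h1 : (z : X) ∈ center X := mem_center_iff.2 fun g => α.1.injective (by
    rw [map_mul, map_mul]
    exact mem_center_iff.1 hz _)
  have h2 := C.zX _ h1
  have h3 : χ (ι z) = χ (ι z) / χ 1 * χ 1 := (div_mul_cancel₀ _ w.oχ.one_ne).symm
  have h4 : ψ (κ z) = χ (ι z) / χ 1 * ψ 1 := by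
    rw [div_mul_eq_mul_div, eq_div_iff w.oχ.one_ne, ← C.cz χ ψ w.oχ w.oψ w.r _ (C.hκ z ▸ h2 :), C.hκ]
  have h5 := cen_of_und C.aX.inj w.oχ.1 w.iθ w.uθ h2 h3
  have h6 := cen_of_und C.aM.inj w.oψ.1 w.iη w.uη
    (mem_center_iff.2 fun b => Subtype.ext (mem_center_iff.1 (C.hκ z ▸ h2 :) b)) h4
  simp only [map_one] at h5 h6
  rw [rs_coe, h5, h6]
  ring

theorem Rx.ext (hA : AbBox) (hE : ExtBox) (h : C.Rx θ η) : ExtF Λ (St Λ θ) θ η := by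
  obtain ⟨α, χ, ψ, w⟩ := h
  simpa using (w.ext hA hE).conj (S := St Λ θ) α⁻¹ fun γ hγ =>
    ⟨mul_mem (mul_mem α⁻¹.2 hγ.1) (inv_mem α⁻¹.2), fun x => by simpa using hγ.2 (α.1 x)⟩

theorem exists_cf (C : Cx ι B Φ R Λ κ j f) (hA : AbBox) (hE : ExtBox) : ∃ Ω, CF Λ Ω := by
  choose! Ω hΩ using fun θ => rx_ex (C := C) (θ := θ)
  refine ⟨Ω, ⟨fun θ h => (hΩ θ h).odd.2, fun θ h θ' h' e => (rx_iff hA (hΩ θ h) (hΩ θ' h')).2 e, fun η h => ?_⟩,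
    fun θ h => (hΩ θ h).cen, fun θ h α =>
      congrFun ((rx_iff hA (hΩ _ (oi_aut α.1 h)) ((hΩ θ h).aut α)).1 rfl), fun θ h => (hΩ θ h).ext hA hE⟩
  obtain ⟨θ, h1⟩ := rx_ex' (C := C) h
  exact ⟨θ, h1.odd.1, (rx_iff hA (hΩ θ h1.odd.1) h1).1 rfl⟩

end Cx

/-- **the bijection** -/
theorem spBox (hB : BorBox) (hT : TiBox) (hA : AbBox) (hE : ExtBox) (hJ : AdjBox) : SpBox := by
  intro X K I _ _ _ _ ι U T B D Φ R F Λ hΛ
  have : Finite X := Finite.of_injective _ F.inj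
  obtain ⟨lam, hl⟩ := F.bo.lam
  obtain ⟨Φ', F', h1, h2⟩ := hJ F lam hl
  obtain ⟨κ, j, C⟩ := exists_cx hB hT F' (h1 Λ hΛ) hl h2
  exact C.exists_cf hA hE

end Cfsg.Agent.MK.Two
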