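import Cfsg.Agent.MK.Two.Defs

/-!
# MK, characteristic two: the isometry (helper13)

* `col` : column orthogonality as a count;
* `sum_ip` : the sum of the squares of the scalar products over all irreducible characters;
* `tiBox : TiBox`.
-/

set_option autoImplicit false
set_option maxHeartbeats 400000

namespace Cfsg.Agent.MK.Two

open Cfsg Cfsg.Agent.Characters.Core
open scoped ComplexConjugate

open scoped Classical in
/-- column orthogonality as a count -/
theorem col {H : Type} [Group H] [Fintype H] [Fintype (IrrCharacter H)] (a b : H) :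
    ∑ χ : IrrCharacter H, (χ : H → ℂ) a * conj ((χ : H → ℂ) b) = ∑ g : H, if g⁻¹ * a * g = b then (1 : ℂ) else 0 := by
  let c : H → ℂ := fun a => ∑ g : H, if g⁻¹ * a * g = b then (1 : ℂ) else 0
  have h1 : IsClassFunction H c := fun g h => by
    simp only [c]
    rw [← Equiv.sum_comp (Equiv.mulLeft h)]
    refine Finset.sum_congr rfl fun x _ => if_congr ?_ rfl rfl
    rw [Equiv.coe_mulLeft, show (h * x)⁻¹ * (h * g * h⁻¹) * (h * x) = x⁻¹ * g * x by group]
  have h2 : ∀ χ : IrrCharacter H, classInner c χ = conj ((χ : H → ℂ) b) := fun χ => by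
    have h3 : ∀ g a : H, (g⁻¹ * a * g = b) = (a = g * b * g⁻¹) := fun g a =>
      propext ⟨fun e => by rw [← e]; group, fun e => by rw [e]; group⟩
    simp only [classInner_def, c, Finset.sum_mul, h3, ite_mul, one_mul, zero_mul]
    rw [Finset.sum_comm]
    simp only [Finset.sum_ite_eq', Finset.mem_univ, if_true, isIrr_isClassFunction χ.2 _ _, Finset.sum_const,
      Finset.card_univ, nsmul_eq_mul, ← Nat.card_eq_fintype_card,
      inv_mul_cancel_left₀ (card_ne_zero_complex (G := H))]
  have h4 := congrFun (classFunction_eq_sum h1) a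
  simp only [Finset.sum_apply, Pi.smul_apply, smul_eq_mul, h2] at h4
  exact (Finset.sum_congr rfl fun χ _ => mul_comm _ _).trans h4.symm

open scoped Classical in
theorem sum_ip {H V : Type} [Group H] [Group V] [Fintype H] [Fintype V] (j : V → H) (f : V → ℂ) :
    ((∑ᶠ θ : IrrCharacter H, Complex.normSq (ip (fun v => (θ : H → ℂ) (j v)) f) : ℝ) : ℂ) =
      (Nat.card V : ℂ)⁻¹ * (Nat.card V : ℂ)⁻¹ * ∑ v, ∑ v', conj (f v) * f v' *
        ∑ g : H, if g⁻¹ * j v * g = j v' then (1 : ℂ) else 0 := by
  have := @Fintype.ofFinite _ (finite_irr (G := H))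
  rw [finsum_eq_sum_of_fintype, Complex.ofReal_sum]
  simp only [← col, Finset.mul_sum, ← Complex.mul_conj, ip_eq, classInner_def, map_mul, map_sum, map_inv₀, map_natCast,
    Complex.conj_conj, Finset.sum_mul]
  rw [Finset.sum_comm]
  conv_rhs => rw [Finset.sum_comm]
  refine Finset.sum_congr rfl fun v' _ => ?_
  rw [Finset.sum_comm]
  exact Finset.sum_congr rfl fun v _ => Finset.sum_congr rfl fun χ _ => by ring

/-- **the isometry** -/
theorem tiBox : TiBox := by
  intro H V _ _ _ _ M j f h
  classical
  have := Fintype.ofFinite H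
  have := Fintype.ofFinite V
  have := Fintype.ofFinite M
  apply Complex.ofReal_injective
  rw [sum_ip (fun v => (j v : H)), sum_ip j]
  refine congrArg _ (Finset.sum_congr rfl fun v _ => Finset.sum_congr rfl fun v' _ => ?_)
  by_cases h0 : f v = 0
  · simp [h0]
  · refine congrArg _ (Fintype.sum_of_injective M.subtype Subtype.val_injective _ _ (fun g hg => if_neg fun e => ?_)
      fun g => ?_).symm
    · exact hg ⟨⟨g, h v h0 g v' e⟩, rfl⟩
    · by_cases e : g⁻¹ * j v * g = j v'
      · exact (if_pos e).trans (if_pos (Subtype.ext_iff.1 e)).symm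
      · exact (if_neg e).trans (if_neg fun e' => e (Subtype.ext e')).symm

end Cfsg.Agent.MK.Two
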