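import Cfsg.Agent.MK.Two.Row2
import Cfsg.Agent.MK.Two.Sp4
import Cfsg.Agent.MK.Two.Adj
import Cfsg.Agent.MK.Two.Ext
import Cfsg.Agent.MK.Two.Ab
import Cfsg.Agent.MK.Two.Ti
import Cfsg.Agent.MK.Two.Bor
import Cfsg.Agent.MK.C.Main
import Cfsg.Agent.MK.E.Cyc
import Cfsg.Agent.MK.S.F4R

/-!
# MK, characteristic two: the row (helper89)
-/

set_option autoImplicit false

namespace Cfsg.Agent.MK.Two

open Cfsg

theorem spBox' : SpBox := spBox borBox tiBox abBox extBox (adjBox borBox)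

theorem boxes : Boxes := boxes_of_sp C.stepC spBox'

theorem row_two (s : Small) : Row fun S _ => IsLieTypeChar 2 S := row_of_sp C.stepC spBox' s

/-- the row from the groups `Sp_{2m}(2)` -/
theorem row_two_of_sp2
    (h : ∀ (F : Type) [Field F] [Fintype F] [CharP F 2] (m : ℕ), 3 ≤ m → Fintype.card F = 2 → GdI (PSp m F)) :
    Row fun S _ => IsLieTypeChar 2 S :=
  row_two (S.small_of (E.stepSm (E.stepCyc C.stepC)) h)

end Cfsg.Agent.MK.Two
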