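import Cfsg.Agent.MK.Two.Defs

/-!
# MK, characteristic two: the linear characters of `U` (helper89)

* `cp h l i` : the `i`-th component of a linear character `l` of `U`, `prod_cp`; `sup U D l` : its support;
* `stab` : the stabiliser of `l` in `T` is `TJ U T D (sup U D l)`;
* `lam_conj` : `T` is transitive on the families `lam`; `exists_psi` : `l` is conjugate to `psi lam (sup l)`.
-/

set_option autoImplicit false
set_option maxHeartbeats 400000

namespace Cfsg.Agent.MK.Two.Bor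

open Cfsg Subgroup Cfsg.Agent.H40.OC Cfsg.Agent.H672 Cfsg.Agent.Characters
open Cfsg.Agent.OddOrderCharacters.Clifford

variable {K I : Type} [Group K] {U T B : Subgroup K} {D : I → Subgroup K}

/-- a `T`-invariant proper subgroup above `D i` is `D i` -/
theorem core [Finite I] (H : Sys U T D) {i : I} {l : U →* ℂˣ} (h1 : ∀ u : U, (u : K) ∈ D i → l u = 1) (h2 : l ≠ 1)
    {a : K} (ha : a ∈ U) (h : ∀ s ∈ T, ∀ u : U, (u : K) = s⁻¹ * a * s → l u = 1) : a ∈ D i := by
  by_contra hD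
  obtain ⟨b, hb⟩ : ∃ b : U, l b ≠ 1 := by
    by_contra h3
    push Not at h3
    exact h2 (MonoidHom.ext h3)
  have hbD : (b : K) ∉ D i := fun h3 => hb (h1 b h3)
  obtain ⟨x, hx, hx1, hx2⟩ := H.co i a ha
  obtain ⟨y, hy, hy1, hy2⟩ := H.co i b b.2
  have hxD : x ∉ D i := fun h3 => hD ((Subgroup.mul_mem_cancel_left _ (inv_mem h3)).1 hx1)
  have hyD : y ∉ D i := fun h3 => hbD ((Subgroup.mul_mem_cancel_left _ (inv_mem h3)).1 hy1)
  obtain ⟨t, ht, hh⟩ := H.tr' _ x hx y hy rfl fun j => by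
    by_cases hj : j = i
    · subst hj
      exact ⟨fun h3 => absurd h3 hxD, fun h3 => absurd h3 hyD⟩
    · exact ⟨fun _ => hy2 j hj, fun _ => hx2 j hj⟩
  have hd : (t⁻¹ * (x⁻¹ * a)⁻¹ * t) * ((t⁻¹ * x * t)⁻¹ * y) * (y⁻¹ * b) ∈ D i :=
    mul_mem (mul_mem ((H.conj_D_iff ht i).2 (inv_mem hx1)) (hh i)) hy1
  apply hb
  have e : b = (⟨t⁻¹ * a * t, H.conj_U ht ha⟩ : U) * ⟨_, H.le i hd⟩ := Subtype.ext (by
    simp only [Subgroup.coe_mul]
    group)
  rw [e, map_mul, h t ht _ rfl, h1 _ hd, mul_one]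

theorem cj_D (H : Sys U T D) {t u : K} (ht : t ∈ T) (i : I) : t * u * t⁻¹ ∈ D i ↔ u ∈ D i := by
  have := H.conj_D_iff (u := u) (inv_mem ht) i
  rwa [inv_inv] at this

/-- an element which fixes a nontrivial character of the coordinate `i` acts trivially on it -/
theorem fix_D [Finite I] (h : Bo U T B D) {i : I} {l : U →* ℂˣ} (h1 : ∀ u : U, (u : K) ∈ D i → l u = 1) (h2 : l ≠ 1)
    {t : K} (ht : t ∈ T) (hf : ∀ u u' : U, (u' : K) = t * u * t⁻¹ → l u' = l u) {u : K} (hu : u ∈ U) :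
    u⁻¹ * (t * u * t⁻¹) ∈ D i := by
  refine core h.sys h1 h2 (mul_mem (inv_mem hu) (h.sys.conj_U' ht hu)) fun s hs v hv => ?_
  have h3 : s⁻¹ * u * s ∈ U := h.sys.conj_U hs hu
  have e : v = (⟨_, h3⟩ : U)⁻¹ * ⟨_, h.sys.conj_U' ht h3⟩ := Subtype.ext (by
    have c1 : t * s⁻¹ = s⁻¹ * t := h.comm t ht _ (inv_mem hs)
    have c2 : s * t⁻¹ = t⁻¹ * s := h.comm s hs _ (inv_mem ht)
    simp only [Subgroup.coe_mul, Subgroup.coe_inv, hv]
    calc s⁻¹ * (u⁻¹ * (t * u * t⁻¹)) * s = s⁻¹ * u⁻¹ * s * (s⁻¹ * t) * u * (t⁻¹ * s) := by group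
      _ = s⁻¹ * u⁻¹ * s * (t * s⁻¹) * u * (s * t⁻¹) := by rw [c1, c2]
      _ = _ := by group)
  rw [e, map_mul, map_inv, hf ⟨_, h3⟩ ⟨_, h.sys.conj_U' ht h3⟩ rfl, inv_mul_cancel]

/-! ### components -/

/-- the `i`-th coordinate of `u` -/
noncomputable def cx (H : Sys U T D) (i : I) (u : U) : U := ⟨(H.co i u u.2).choose, (H.co i u u.2).choose_spec.1⟩

theorem cx_1 (H : Sys U T D) (i : I) (u : U) : (cx H i u : K)⁻¹ * u ∈ D i := (H.co i u u.2).choose_spec.2.1

theorem cx_2 (H : Sys U T D) (i : I) (u : U) (j : I) (hj : j ≠ i) : (cx H i u : K) ∈ D j :=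
  (H.co i u u.2).choose_spec.2.2 j hj

theorem l_eq (h : Bo U T B D) (l : U →* ℂˣ) {i : I} {x y : U} (hx : ∀ j, j ≠ i → (x : K) ∈ D j)
    (hy : ∀ j, j ≠ i → (y : K) ∈ D j) (hxy : (x : K)⁻¹ * y ∈ D i) : l x = l y := by
  have h1 : l (x⁻¹ * y) = 1 := h.hn l _ fun j => by
    by_cases hj : j = i
    · subst hj
      exact hxy
    · exact mul_mem (inv_mem (hx j hj)) (hy j hj)
  rw [map_mul, map_inv, inv_mul_eq_one] at h1
  exact h1

theorem l_cx (h : Bo U T B D) (l : U →* ℂˣ) {i : I} {x u : U} (hx : ∀ j, j ≠ i → (x : K) ∈ D j)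
    (hu : (x : K)⁻¹ * u ∈ D i) : l (cx h.sys i u) = l x := by
  refine l_eq h l (cx_2 h.sys i u) hx ?_
  have e : (cx h.sys i u : K)⁻¹ * x = ((cx h.sys i u : K)⁻¹ * u) * ((x : K)⁻¹ * u)⁻¹ := by group
  rw [e]
  exact mul_mem (cx_1 h.sys i u) (inv_mem hu)

/-- the `i`-th component of `l` -/
noncomputable def cp (h : Bo U T B D) (l : U →* ℂˣ) (i : I) : U →* ℂˣ :=
  MonoidHom.mk' (fun u => l (cx h.sys i u)) fun a b => by
    rw [← map_mul]
    refine l_cx h l (fun j hj => mul_mem (cx_2 h.sys i a j hj) (cx_2 h.sys i b j hj)) ?_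
    have e : ((cx h.sys i a * cx h.sys i b : U) : K)⁻¹ * (a * b : U) =
        ((cx h.sys i b : K)⁻¹ * ((cx h.sys i a : K)⁻¹ * a) * (cx h.sys i b : K)⁻¹⁻¹) * ((cx h.sys i b : K)⁻¹ * b) := by
      simp only [Subgroup.coe_mul]
      group
    rw [e]
    exact mul_mem ((Subgroup.mem_normalizer_iff.1 (h.sys.uD i (inv_mem (cx h.sys i b).2)) _).1 (cx_1 h.sys i a))
      (cx_1 h.sys i b)

theorem cp_eq (h : Bo U T B D) (l : U →* ℂˣ) {i : I} {x u : U} (hx : ∀ j, j ≠ i → (x : K) ∈ D j)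
    (hu : (x : K)⁻¹ * u ∈ D i) : cp h l i u = l x := l_cx h l hx hu

theorem cp_one (h : Bo U T B D) (l : U →* ℂˣ) (i : I) (u : U) (hu : (u : K) ∈ D i) : cp h l i u = 1 := by
  rw [cp_eq h l (x := 1) (fun j _ => one_mem _) (by simpa using hu), map_one]

theorem cp_self (h : Bo U T B D) (l : U →* ℂˣ) {i : I} {u : U} (hu : ∀ j, j ≠ i → (u : K) ∈ D j) :
    cp h l i u = l u := cp_eq h l hu (by rw [inv_mul_cancel]; exact one_mem _)

theorem prod_cp' (h : Bo U T B D) (l : U →* ℂˣ) (s : Finset I) :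
    ∀ u : U, (∀ j, j ∉ s → (u : K) ∈ D j) → l u = ∏ i ∈ s, cp h l i u := by
  classical
  induction s using Finset.induction_on with
  | empty =>
    intro u hu
    rw [Finset.prod_empty]
    exact h.hn l u fun i => hu i (Finset.notMem_empty i)
  | insert i s hi ih =>
    intro u hu
    have h1 := ih ((cx h.sys i u)⁻¹ * u) fun j hj => by
      by_cases hji : j = i
      · subst hji
        exact cx_1 h.sys j u
      · exact mul_mem (inv_mem (cx_2 h.sys i u j hji)) (hu j fun h2 => by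
          rcases Finset.mem_insert.1 h2 with h3 | h3
          · exact hji h3
          · exact hj h3)
    have h2 : ∀ j ∈ s, cp h l j ((cx h.sys i u)⁻¹ * u) = cp h l j u := fun j hj => by
      rw [map_mul, map_inv, cp_one h l j _ (cx_2 h.sys i u j fun h3 => hi (h3 ▸ hj)), inv_one, one_mul]
    rw [Finset.prod_insert hi, ← Finset.prod_congr rfl h2, ← h1, map_mul, map_inv]
    exact (mul_inv_cancel_left _ _).symm

theorem prod_cp [Fintype I] (h : Bo U T B D) (l : U →* ℂˣ) (u : U) : l u = ∏ i, cp h l i u :=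
  prod_cp' h l Finset.univ u fun j hj => absurd (Finset.mem_univ j) hj

/-- the support of a linear character -/
def sup (U : Subgroup K) (D : I → Subgroup K) (l : U →* ℂˣ) : Set I :=
  {i | ∃ u : U, (∀ j, j ≠ i → (u : K) ∈ D j) ∧ l u ≠ 1}

theorem mem_sup (h : Bo U T B D) (l : U →* ℂˣ) (i : I) : i ∈ sup U D l ↔ cp h l i ≠ 1 := by
  constructor
  · rintro ⟨u, hu, h1⟩ h2
    apply h1
    rw [← cp_self h l hu, h2, MonoidHom.one_apply]
  · intro h1
    by_contra h2
    apply h1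
    refine MonoidHom.ext fun u => ?_
    by_contra h3
    exact h2 ⟨cx h.sys i u, cx_2 h.sys i u, h3⟩

theorem psi_at [DecidableEq I] {lam : I → (U →* ℂˣ)} (hl : ∀ i, ∀ u : U, (u : K) ∈ D i → lam i u = 1) (J : Finset I)
    {i : I} {u : U} (hu : ∀ j, j ≠ i → (u : K) ∈ D j) : psi lam J u = if i ∈ J then lam i u else 1 := by
  unfold psi
  rw [MonoidHom.finsetProd_apply]
  split_ifs with hi
  · exact Finset.prod_eq_single_of_mem i hi fun j _ hj => hl j u (hu j hj)
  · exact Finset.prod_eq_one fun j hj => hl j u (hu j fun h1 => hi (h1 ▸ hj))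

theorem lam_cx (H : Sys U T D) {l : U →* ℂˣ} {i : I} (hl : ∀ u : U, (u : K) ∈ D i → l u = 1) (u : U) :
    l (cx H i u) = l u := by
  have h1 := hl ((cx H i u)⁻¹ * u) (cx_1 H i u)
  rw [map_mul, map_inv, inv_mul_eq_one] at h1
  exact h1

theorem sup_psi (H : Sys U T D) {lam : I → (U →* ℂˣ)} (hl : Lam U D lam) (J : Finset I) :
    sup U D (psi lam J) = J := by
  classical
  ext i
  constructor
  · rintro ⟨u, hu, h1⟩
    by_contra h2
    apply h1
    rw [psi_at hl.one J hu, if_neg fun h3 => h2 (Finset.mem_coe.2 h3)]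
  · intro hi
    by_contra h2
    apply hl.ne i
    refine MonoidHom.ext fun u => ?_
    by_contra h3
    refine h2 ⟨cx H i u, cx_2 H i u, ?_⟩
    rw [psi_at hl.one J (cx_2 H i u), if_pos (Finset.mem_coe.1 hi), lam_cx H (hl.one i)]
    exact h3

/-- **the stabiliser of a linear character** -/
theorem stab [Fintype I] (h : Bo U T B D) (l : U →* ℂˣ) {t : K} (ht : t ∈ T) :
    (∀ u u' : U, (u' : K) = t * u * t⁻¹ → l u' = l u) ↔ t ∈ TJ U T D (sup U D l) := by
  constructor
  · intro hf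
    refine ⟨ht, fun i hi u hu => fix_D h (cp_one h l i) ((mem_sup h l i).1 hi) ht (fun v v' hv => ?_) hu⟩
    have h1 : cp h l i v' = l ⟨_, h.sys.conj_U' ht (cx h.sys i v).2⟩ := by
      refine cp_eq h l (fun j hj => (cj_D h.sys ht j).2 (cx_2 h.sys i v j hj)) ?_
      have e : (t * (cx h.sys i v : K) * t⁻¹)⁻¹ * v' = t * ((cx h.sys i v : K)⁻¹ * v) * t⁻¹ := by
        rw [hv]
        group
      show (t * (cx h.sys i v : K) * t⁻¹)⁻¹ * v' ∈ D i
      rw [e]
      exact (cj_D h.sys ht i).2 (cx_1 h.sys i v)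
    rw [h1, hf (cx h.sys i v) _ rfl]
    rfl
  · intro hT u u' hu
    have h1 : l (u⁻¹ * u') = 1 := by
      rw [prod_cp h l]
      refine Finset.prod_eq_one fun i _ => ?_
      by_cases hi : i ∈ sup U D l
      · refine cp_one h l i _ ?_
        rw [Subgroup.coe_mul, Subgroup.coe_inv, hu]
        exact hT.2 i hi u u.2
      · rw [mem_sup h, not_not] at hi
        rw [hi, MonoidHom.one_apply]
    rw [map_mul, map_inv, inv_mul_eq_one] at h1
    exact h1.symm

/-! ### transitivity -/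

/-- the conjugate of a linear character -/
def cl (H : Sys U T D) (t : T) (l : U →* ℂˣ) : U →* ℂˣ := l.comp (RM.cj (H.tU t.2)).toMonoidHom

theorem cl_apply (H : Sys U T D) (t : T) (l : U →* ℂˣ) {u u' : U} (hu : (u' : K) = t * u * (t : K)⁻¹) :
    cl H t l u = l u' := by
  have e : u' = RM.cj (H.tU t.2) u := Subtype.ext hu
  rw [e]
  rfl

theorem cl_lam (H : Sys U T D) (t : T) {lam : I → (U →* ℂˣ)} (hl : Lam U D lam) : Lam U D fun i => cl H t (lam i) := by
  refine ⟨fun i u hu => ?_, fun i h1 => hl.ne i (MonoidHom.ext fun u => ?_)⟩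
  · rw [cl_apply H t _ (u' := ⟨_, H.conj_U' t.2 u.2⟩) rfl]
    exact hl.one i _ ((cj_D H t.2 i).2 hu)
  · rw [← cl_apply H t (lam i) (u := ⟨_, H.conj_U t.2 u.2⟩) (u' := u) (by simp only; group), h1]
    rfl

theorem cl_psi (H : Sys U T D) (t : T) (lam : I → (U →* ℂˣ)) (J : Finset I) :
    cl H t (psi lam J) = psi (fun i => cl H t (lam i)) J := by
  refine MonoidHom.ext fun u => ?_
  unfold psi cl
  rw [MonoidHom.comp_apply, MonoidHom.finsetProd_apply, MonoidHom.finsetProd_apply]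
  rfl

theorem inner_ne {V : Type} [Group V] [Fintype V] {l l' : V →* ℂˣ} (h : l ≠ l') :
    classInner (fun u => (l u : ℂ)) (fun u => (l' u : ℂ)) = 0 :=
  Core.classInner_irr_ne (Linear.isIrrCharacter_hom l) (Linear.isIrrCharacter_hom l') fun h1 =>
    h (MonoidHom.ext fun u => Units.ext (congrFun h1 u))

open Classical in
theorem inner_ite {V : Type} [Group V] [Fintype V] (l l' : V →* ℂˣ) :
    classInner (fun u => (l u : ℂ)) (fun u => (l' u : ℂ)) = if l = l' then 1 else 0 := by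
  split_ifs with h
  · rw [h]
    exact Core.classInner_irr_self (Linear.isIrrCharacter_hom l')
  · exact inner_ne h

/-- **`T` is transitive on the families** -/
theorem lam_conj [Finite K] [Fintype I] (H : Sys U T D) {lam lam' : I → (U →* ℂˣ)} (hl : Lam U D lam)
    (hl' : Lam U D lam') : ∃ t ∈ T, ∀ i, ∀ u u' : U, (u' : K) = t * u * t⁻¹ → lam' i u = lam i u' := by
  classical
  let _ := Fintype.ofFinite U
  let _ := Fintype.ofFinite T
  let φ : K → ℂ := fun y => ∑ t : T,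
    extendByZero U (fun u => (psi lam Finset.univ u : ℂ)) ((t : K) * y * (t : K)⁻¹)
  have hφ : ∀ t ∈ T, ∀ u ∈ U, φ (t⁻¹ * u * t) = φ u := by
    intro t ht u _
    refine Fintype.sum_equiv (Equiv.mulRight (⟨t, ht⟩ : T)⁻¹) _ _ fun s => ?_
    congr 1
    simp only [Equiv.coe_mulRight, Subgroup.coe_mul, Subgroup.coe_inv]
    group
  have h1 : (fun u : U => φ u) = ∑ t : T, fun u : U => (cl H t (psi lam Finset.univ) u : ℂ) := by
    funext u
    rw [Finset.sum_apply]
    refine Finset.sum_congr rfl fun t _ => ?_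
    rw [ext_apply_mem U _ _ (H.conj_U' t.2 u.2), cl_apply H t _ (u' := ⟨_, H.conj_U' t.2 u.2⟩) rfl]
  have h2 : ∀ μ : I → (U →* ℂˣ), Lam U D μ → mr U D φ = (-1) ^ (Finset.univ : Finset I).card *
      ∑ t : T, if cl H t (psi lam Finset.univ) = psi μ Finset.univ then (1 : ℂ) else 0 := by
    intro μ hμ
    rw [mr_eq H hμ hφ, Finset.sum_eq_single Finset.univ _ fun h3 => absurd (Finset.mem_univ _) h3, h1,
      Core.classInner_sum_left]
    · congr 1
      exact Finset.sum_congr rfl fun t _ => by rw [inner_ite]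
    · intro J _ hJ
      rw [h1, Core.classInner_sum_left, Finset.sum_eq_zero, mul_zero]
      intro t _
      refine inner_ne fun h3 => hJ ?_
      have h4 := congrArg (sup U D) h3
      rw [cl_psi, sup_psi H (cl_lam H t hl), sup_psi H hμ] at h4
      exact (Finset.coe_injective h4).symm
  have h3 := (h2 lam hl).symm.trans (h2 lam' hl')
  have h4 := mul_left_cancel₀ (pow_ne_zero _ (neg_ne_zero.2 one_ne_zero)) h3
  obtain ⟨t, ht⟩ : ∃ t : T, cl H t (psi lam Finset.univ) = psi lam' Finset.univ := by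
    by_contra h5
    push Not at h5
    rw [Finset.sum_eq_zero (s := Finset.univ) (f := fun t : T =>
      if cl H t (psi lam Finset.univ) = psi lam' Finset.univ then (1 : ℂ) else 0) fun t _ => if_neg (h5 t),
      Finset.sum_boole, Nat.cast_eq_zero, Finset.card_eq_zero, Finset.filter_eq_empty_iff] at h4
    refine h4 (Finset.mem_univ 1) (MonoidHom.ext fun u => cl_apply H 1 _ ?_)
    simp
  refine ⟨t, t.2, fun i u u' hu => ?_⟩
  have h5 := DFunLike.congr_fun ht (cx H i u)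
  rw [cl_psi, psi_at (cl_lam H t hl).one _ (cx_2 H i u), psi_at hl'.one _ (cx_2 H i u), if_pos (Finset.mem_univ i),
    if_pos (Finset.mem_univ i), lam_cx H ((cl_lam H t hl).one i), lam_cx H (hl'.one i), cl_apply H t _ hu] at h5
  exact h5.symm

/-- **every linear character is conjugate to a standard one** -/
theorem exists_psi [Finite K] [Fintype I] (h : Bo U T B D) {lam : I → (U →* ℂˣ)} (hl : Lam U D lam) (l : U →* ℂˣ)
    {J : Finset I} (hJ : (J : Set I) = sup U D l) :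
    ∃ t ∈ T, ∀ u u' : U, (u' : K) = t * u * t⁻¹ → l u = psi lam J u' := by
  classical
  have h1 : Lam U D fun i => if cp h l i = 1 then lam i else cp h l i := by
    refine ⟨fun i u hu => ?_, fun i => ?_⟩
    · split_ifs
      · exact hl.one i u hu
      · exact cp_one h l i u hu
    · split_ifs with h2
      · exact hl.ne i
      · exact h2
  obtain ⟨t, ht, h2⟩ := lam_conj h.sys hl h1
  refine ⟨t, ht, fun u u' hu => ?_⟩
  have h3 : ∀ i, i ∈ J ↔ cp h l i ≠ 1 := fun i => by rw [← mem_sup h, ← hJ, Finset.mem_coe]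
  unfold psi
  rw [prod_cp h l, MonoidHom.finsetProd_apply, ← Finset.prod_subset (Finset.subset_univ J)]
  · refine Finset.prod_congr rfl fun i hi => ?_
    rw [← h2 i u u' hu, if_neg ((h3 i).1 hi)]
  · intro i _ hi
    rw [h3, not_not] at hi
    rw [hi, MonoidHom.one_apply]

end Cfsg.Agent.MK.Two.Bor
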