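import Cfsg.Agent.MK.Basic
import Cfsg.Agent.GAL.C2.Cd
import Cfsg.Agent.GAL.Two.Kp

/-!
# MK, characteristic two: the interface (helper58)

Plan: `notes/MK/two.md`.

* `Bo U T B D` : a Borel subgroup `B = U T` with coordinates `D`; `Js`, `TJ` : the label of a character of `B`;
  `fl lam = ∏ (1 - lam i)`;
* `Fr ι U T B D Φ R` : `X` is normal in `K = X T`, `Φ` is a group of automorphisms of `K`, `R` relates the characters of odd
  degree of `K` and `B`;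
* `CF Λ Ω` : an equivariant bijection for all characters of odd degree with the extension property;
* the boxes `BorBox`, `TiBox`, `AbBox`, `ExtBox`, `AdjBox`, `SpBox`, `DescBox` (finite groups), `RelBox`, `GenBox`, `BoxT`,
  `BoxS` (algebraic groups).
-/

set_option autoImplicit false
set_option maxHeartbeats 400000

namespace Cfsg.Agent.MK.Two

open Cfsg Subgroup Cfsg.Agent.H40.OC Cfsg.Agent.H672
open Cfsg.Agent.DL Cfsg.Agent.DL.PP Cfsg.Agent.ODD.C2 Cfsg.Agent.Tits.Roots Cfsg.Agent.GAL.C2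
open scoped ComplexConjugate

/-! ### finite groups -/

section fin

variable {X K I : Type} [Group X] [Group K]

/-- the scalar product -/
noncomputable def ip {H : Type} [Group H] [Finite H] (φ ψ : H → ℂ) : ℂ :=
  letI := Fintype.ofFinite H
  classInner φ ψ

theorem ip_eq {H : Type} [Group H] [Fintype H] (φ ψ : H → ℂ) : ip φ ψ = classInner φ ψ := by
  unfold ip
  congr 1
  exact Subsingleton.elim _ _

/-- a Borel subgroup -/
structure Bo (U T B : Subgroup K) (D : I → Subgroup K) : Prop where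
  sys : Sys U T D
  two : IsPGroup 2 U
  odd : Odd (Nat.card T)
  comm : ∀ s ∈ T, ∀ t ∈ T, s * t = t * s
  mem : ∀ b, b ∈ B ↔ ∃ u ∈ U, ∃ t ∈ T, b = u * t
  hn : ∀ f : U →* ℂˣ, ∀ u : U, (∀ i, (u : K) ∈ D i) → f u = 1
  lam : ∃ lam, Lam U D lam

theorem Bo.uB {U T B : Subgroup K} {D : I → Subgroup K} (h : Bo U T B D) : U ≤ B :=
  fun u hu => (h.mem u).2 ⟨u, hu, 1, one_mem _, (mul_one u).symm⟩

theorem Bo.tB {U T B : Subgroup K} {D : I → Subgroup K} (h : Bo U T B D) : T ≤ B :=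
  fun t ht => (h.mem t).2 ⟨1, one_mem _, t, ht, (one_mul t).symm⟩

/-- the coordinates on which `ψ` is not trivial -/
def Js (U B : Subgroup K) (D : I → Subgroup K) (ψ : B → ℂ) : Set I :=
  {i | ∃ u : B, (u : K) ∈ U ∧ (∀ j, j ≠ i → (u : K) ∈ D j) ∧ ψ u ≠ ψ 1}

/-- the elements of `T` which act trivially on the coordinates in `J` -/
def TJ (U T : Subgroup K) (D : I → Subgroup K) (J : Set I) : Set K :=
  {t | t ∈ T ∧ ∀ i ∈ J, ∀ u ∈ U, u⁻¹ * (t * u * t⁻¹) ∈ D i}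

/-- the virtual character `∑ (-1) ^ |J| psi lam J` -/
noncomputable def fl [Fintype I] {U : Subgroup K} (lam : I → (U →* ℂˣ)) : U → ℂ := fun u => ∏ i, (1 - (lam i u : ℂ))

/-- the frame -/
structure Fr (ι : X →* K) (U T B : Subgroup K) (D : I → Subgroup K) (Φ : Subgroup (MulAut K))
    (R : (K → ℂ) → (B → ℂ) → Prop) : Prop where
  bo : Bo U T B D
  inj : Function.Injective ι
  nrm : ι.range.Normal
  uX : U ≤ ι.range
  spl : ∀ k, ∃ x, ∃ t ∈ T, k = ι x * t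
  ti : ∀ u ∈ U, (∀ i, u ∉ D i) → ∀ g, g⁻¹ * u * g ∈ U → g ∈ B
  mr : ∀ [Fintype U] (χ : K → ℂ), OI K χ → Complex.normSq (mr U D χ) = 1
  cen : ∀ t ∈ TJ U T D Set.univ, t ∈ center K
  zX : ∀ z ∈ center X, ι z ∈ center K
  cX : ∀ b ∈ B, (∀ x, b * ι x = ι x * b) → b ∈ center K
  φX : ∀ φ ∈ Φ, ∀ x, φ (ι x) ∈ ι.range
  φU : ∀ φ ∈ Φ, ∀ u ∈ U, φ u ∈ U
  φT : ∀ φ ∈ Φ, ∀ t ∈ T, φ t ∈ T
  φD : ∀ φ ∈ Φ, ∃ σ : Equiv.Perm I, ∀ i, ∀ u ∈ U, φ u ∈ D (σ i) ↔ u ∈ D i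
  fa : ∀ φ ∈ Φ, ∀ b ∈ B, (∀ x, φ (ι x) = b * ι x * b⁻¹) → φ = 1
  ex : ∀ ψ, OI B ψ → ∃ χ, OI K χ ∧ R χ ψ
  un : ∀ χ ψ ψ', OI K χ → OI B ψ → OI B ψ' → R χ ψ → R χ ψ' → ψ = ψ'
  aut : ∀ φ ∈ Φ, ∀ χ ψ ψ', OI K χ → OI B ψ → R χ ψ → (∀ b b' : B, (b' : K) = φ b → ψ' b = ψ b') →
    R (fun g => χ (φ g)) ψ'
  tw : ∀ β : K →* ℂˣ, (∀ x, β (ι x) = 1) → ∀ χ ψ, OI K χ → OI B ψ → R χ ψ →
    R (fun g => β g * χ g) fun b => β b * ψ b
  cz : ∀ χ ψ, OI K χ → OI B ψ → R χ ψ → ∀ z : B, (z : K) ∈ center K → χ z * ψ 1 = ψ z * χ 1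

/-- `Λ` consists of the automorphisms of `X` which are induced by `B Φ` -/
def IsL (ι : X →* K) (B : Subgroup K) (Φ : Subgroup (MulAut K)) (Λ : Subgroup (MulAut X)) : Prop :=
  ∀ α, α ∈ Λ ↔ ∃ b ∈ B, ∃ φ ∈ Φ, ∀ x, ι (α x) = b * φ (ι x) * b⁻¹

/-- `ExtOn` with a finite group -/
def ExtF (Λ S : Subgroup (MulAut X)) (θ : X → ℂ) (ψ : In Λ → ℂ) : Prop :=
  ∃ (A : Type) (_ : Group A) (_ : Finite A) (j : X × In Λ →* A) (t : S →* A) (Ψ : A → ℂ), IsIrrCharacter A Ψ ∧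
    (∀ x y, Ψ (j (x, y)) = θ x * conj (ψ y)) ∧
    (∀ (α : S) (x : X) (y y' : In Λ), (y' : X) = α.1 y → t α * j (x, y) = j (α.1 x, y') * t α) ∧
    ∀ (y : In Λ) (h : MulAut.conj (y : X) ∈ S), t ⟨_, h⟩ = j (y, y)

/-- `CD` for all characters of odd degree -/
structure CF (Λ : Subgroup (MulAut X)) (Ω : (X → ℂ) → In Λ → ℂ) : Prop where
  bij : Set.BijOn Ω {θ | OI X θ} {ψ | OI (In Λ) ψ}
  cen : ∀ θ, OI X θ → ∀ z : In Λ, (z : X) ∈ center X → θ z * Ω θ 1 = Ω θ z * θ 1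
  eqv : ∀ θ, OI X θ → ∀ (α : Λ) (y : In Λ), Ω (fun x => θ (α.1 x)) y = Ω θ (rs Λ α y)
  ext : ∀ θ, OI X θ → ExtF Λ (St Λ θ) θ (Ω θ)

end fin

/-- **the characters of the Borel subgroup** -/
def BorBox : Prop :=
  ∀ {K I : Type} [Group K] [Finite K] [Fintype I] {U T B : Subgroup K} {D : I → Subgroup K} (h : Bo U T B D),
    (∀ ψ, OI B ψ → ∃ μ : T →* ℂˣ, ∀ t : T, (t : K) ∈ TJ U T D (Js U B D ψ) → ψ ⟨t, h.tB t.2⟩ = μ t * ψ 1) ∧
    (∀ ψ ψ', OI B ψ → OI B ψ' → Js U B D ψ = Js U B D ψ' →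
      (∀ t : B, (t : K) ∈ TJ U T D (Js U B D ψ) → ψ t * ψ' 1 = ψ' t * ψ 1) → ψ = ψ') ∧
    ∀ lam, Lam U D lam →
      (∀ ψ, OI B ψ → ∀ J : Finset I, ((J : Set I) = Js U B D ψ →
        ip (ψ ∘ inclusion h.uB) (fun u => (psi lam J u : ℂ)) = 1) ∧ ((J : Set I) ≠ Js U B D ψ →
        ip (ψ ∘ inclusion h.uB) (fun u => (psi lam J u : ℂ)) = 0)) ∧
      (∀ ψ, IsIrrCharacter B ψ → ∀ l : U →* ℂˣ, ip (ψ ∘ inclusion h.uB) (fun u => (l u : ℂ)) ≠ 0 → OI B ψ) ∧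
      (∀ lam', Lam U D lam' → ∃ t ∈ T, ∀ i, ∀ u u' : U, (u' : K) = t * u * t⁻¹ → lam' i u = lam i u') ∧
      ∀ t ∈ T, ∀ i, (∀ u u' : U, (u' : K) = t * u * t⁻¹ → lam i u' = lam i u) → t ∈ TJ U T D {i}

/-- **the isometry** -/
def TiBox : Prop :=
  ∀ {H V : Type} [Group H] [Group V] [Finite H] [Finite V] (M : Subgroup H) (j : V →* M) (f : V → ℂ),
    (∀ v, f v ≠ 0 → ∀ (g : H) (v' : V), g⁻¹ * j v * g = j v' → g ∈ M) →
    ∑ᶠ θ : IrrCharacter H, Complex.normSq (ip (fun v => (θ : H → ℂ) (j v)) f) =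
      ∑ᶠ ψ : IrrCharacter M, Complex.normSq (ip (fun v => (ψ : M → ℂ) (j v)) f)

/-- **abelian quotients, multiplicity one** -/
def AbBox : Prop :=
  ∀ {H S : Type} [Group H] [Group S] [Finite H] [Finite S] (ι : S →* H), Function.Injective ι → ι.range.Normal →
    (∀ a b : H, (a * b)⁻¹ * (b * a) ∈ ι.range) → ∀ (χ : H → ℂ) (θ : S → ℂ), IsIrrCharacter H χ → IsIrrCharacter S θ →
    ip (χ ∘ ι) θ = 1 → ∀ L : Subgroup H, (∀ g, g ∈ L ↔ ∀ s s', ι s' = g * ι s * g⁻¹ → θ s' = θ s) →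
    (∃ η : L → ℂ, IsIrrCharacter L η ∧ (∀ s (g : L), (g : H) = ι s → η g = θ s) ∧ ip (χ ∘ L.subtype) η ≠ 0 ∧
      ∀ η' : L → ℂ, IsIrrCharacter L η' → (∀ s (g : L), (g : H) = ι s → η' g = θ s) →
        ip (χ ∘ L.subtype) η' ≠ 0 → η' = η) ∧
    ∀ β : H →* ℂˣ, (∀ s, β (ι s) = 1) → ((∀ g, β g * χ g = χ g) ↔ ∀ g ∈ L, β g = 1)

/-- **extension to a semidirect product** -/
def ExtBox : Prop :=
  ∀ {E Φ V : Type} [Group E] [Group Φ] [Group V] [Finite E] [Finite Φ] [Finite V] (ρ : Φ →* MulAut E)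
    (σ : Φ →* MulAut V) (j : V →* E), Function.Injective j → (∀ φ v, j (σ φ v) = ρ φ (j v)) →
    ∀ Ψ : E → ℂ, IsIrrCharacter E Ψ → (∀ φ e, Ψ (ρ φ e) = Ψ e) →
    ∀ {n : Type} [Fintype n] (c : n → ℤ) (l : n → (V →* ℂˣ)) (f : V → ℂ), (∀ v, f v = ∑ i, c i * (l i v : ℂ)) →
    (∀ φ v, f (σ φ v) = f v) → Complex.normSq (ip (Ψ ∘ j) f) = 1 →
    ∃ Ψ' : E ⋊[ρ] Φ → ℂ, IsIrrCharacter _ Ψ' ∧ ∀ e, Ψ' (SemidirectProduct.inl e) = Ψ e

/-- **the complement can be chosen such that it fixes `fl lam`** -/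
def AdjBox : Prop :=
  ∀ {X K I : Type} [Group X] [Group K] [Finite K] [Fintype I] {ι : X →* K} {U T B : Subgroup K} {D : I → Subgroup K}
    {Φ : Subgroup (MulAut K)} {R : (K → ℂ) → (B → ℂ) → Prop}, Fr ι U T B D Φ R → ∀ lam, Lam U D lam →
    ∃ Φ', Fr ι U T B D Φ' R ∧ (∀ Λ, IsL ι B Φ Λ → IsL ι B Φ' Λ) ∧
      ∀ φ ∈ Φ', ∀ u u' : U, (u' : K) = φ u → fl lam u' = fl lam u

/-- **the bijection** -/
def SpBox : Prop :=
  ∀ {X K I : Type} [Group X] [Group K] [Finite K] [Fintype I] {ι : X →* K} {U T B : Subgroup K} {D : I → Subgroup K}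
    {Φ : Subgroup (MulAut K)} {R : (K → ℂ) → (B → ℂ) → Prop}, Fr ι U T B D Φ R →
    ∀ Λ, IsL ι B Φ Λ → ∃ Ω, CF Λ Ω

/-- **descent to a central quotient and to a subgroup** -/
def DescBox : Prop :=
  ∀ {X' X : Type} [Group X'] [Group X] [Finite X'] (π : X' →* X), Function.Surjective π → π.ker ≤ center X' →
    commutator X' = ⊤ → ∀ (Λ' : Subgroup (MulAut X')) (Ω : (X' → ℂ) → In Λ' → ℂ), CF Λ' Ω →
    ∀ Λ : Subgroup (MulAut X), (∀ α ∈ Λ, ∃ α' ∈ Λ', ∀ x, π (α' x) = α (π x)) → (∀ y, y ∈ In Λ' ↔ π y ∈ In Λ) →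
    ∀ l, ∃ Ω', CD Λ l Ω'

/-! ### algebraic groups -/

/-- **the relation between the characters of `G^F` and `B^F`** -/
def RelBox : Prop :=
  ∀ {k : Type} [Field k] [CharP k 2] {Y : Type} [Group Y] {N : Type} [Fintype N] [DecidableEq N] {ρ : Y →* GL N k}
    {F : MulAut Y} {G : Subgroup Y} [IsAlgClosed k] {D : Datum 2 ρ F G}, Good D →
    ∀ B : Subgroup (GF F G), Bo (UH D) (TH D) B (Do D) → ∃ R : (GF F G → ℂ) → (B → ℂ) → Prop,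
    (∀ ψ, OI B ψ → ∃ χ, OI _ χ ∧ R χ ψ) ∧
    (∀ χ ψ ψ', OI _ χ → OI B ψ → OI B ψ' → R χ ψ → R χ ψ' → ψ = ψ') ∧
    (∀ α A π ε (h : Sym D α A π ε), ∀ χ ψ ψ', OI _ χ → OI B ψ → R χ ψ →
      (∀ b b' : B, (b' : GF F G) = h.au.aut b → ψ' b = ψ b') → R (fun g => χ (h.au.aut g)) ψ') ∧
    (∀ β : GF F G →* ℂˣ, (∀ g : GF F G, (g : Y) ∈ GAL.C2.Gd D → β g = 1) → (∀ g : GF F G, Uni.IsUni 2 (g : Y) → β g = 1) →
      ∀ χ ψ, OI _ χ → OI B ψ → R χ ψ → R (fun g => β g * χ g) fun b => β b * ψ b) ∧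
    ∀ χ ψ, OI _ χ → OI B ψ → R χ ψ → ∀ z : B, ((z : GF F G) : Y) ∈ Zc D → χ z * ψ 1 = ψ z * χ 1

/-- all situations are good -/
def GdA (X : Type) [Group X] : Prop := ∀ Γ : Subgroup (MulAut X), MK.Sit X Γ → MK.Gd X Γ

section alg

variable {k : Type} [Field k] [CharP k 2] {Y : Type} [Group Y] {N : Type} [Fintype N] [DecidableEq N]
  {ρ : Y →* GL N k} {F : MulAut Y} {G : Subgroup Y} [IsAlgClosed k] (D : Datum 2 ρ F G)
  {X' S X : Type} [Group X'] [Group S] [Group X] (ι : X' →* Y) (pr : X' →* S) (π : X' →* X)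

/-- the model: `X'` is a normal subgroup of `G^F`, `S = X' / Z(X')`, `X` is a central quotient of `X'`; the group of the
diagonal automorphisms has order at least `d` and `|Out S| ≤ d m` -/
structure Mo (d m : ℕ) : Prop where
  md : Md D ι pr
  zS : center S = ⊥
  perf : commutator X' = ⊤
  surj : Function.Surjective π
  ker : π.ker ≤ center X'
  dg : ∃ t ∈ GF F G, ∀ (i : ℕ) (x : X'), ∀ z ∈ Zc D, t ^ i = ι x * z → d ∣ i
  card : Nat.card (MulAut S) ≤ Nat.card S * d * m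

end alg

/-- **the generic theorem** -/
def GenBox : Prop :=
  ∀ {k : Type} [Field k] [CharP k 2] {Y : Type} [Group Y] {N : Type} [Fintype N] [DecidableEq N] {ρ : Y →* GL N k}
    {F : MulAut Y} {G : Subgroup Y} [IsAlgClosed k] {D : Datum 2 ρ F G} {X' S X : Type} [Group X'] [Group S] [Group X]
    [Finite X] {ι : X' →* Y} {pr : X' →* S} {π : X' →* X} {P : Type} [Fintype P] [Nonempty P] {d : ℕ},
    Mo D ι pr π d (Fintype.card P) →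
    ∀ {α : P → MulAut Y} {A : P → Matrix D.R D.R ℤ} {s : P → Equiv.Perm D.I} {ε : P → D.I → ℕ},
    (∀ p, Sym D (α p) (A p) (s p) (ε p)) → (∀ p x, α p (ι x) ∈ ι.range) →
    (∀ p p', ∃ p'', ∀ g ∈ GF F G, α p (α p' g) = α p'' g) →
    (∀ p p', (∀ y : D.I → k, FixT D.σ (fun i => D.ex (sr i)) y → ∀ i j, s p i = s p' j →
      y i ^ 2 ^ ε p i = y j ^ 2 ^ ε p' j) → p = p') → GdA X

/-- field automorphisms only: a cyclic group of order `n` -/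
def BoxT : Prop :=
  ∀ {k : Type} [Field k] [CharP k 2] {Y : Type} [Group Y] {N : Type} [Fintype N] [DecidableEq N] {ρ : Y →* GL N k}
    {F : MulAut Y} {G : Subgroup Y} [IsAlgClosed k] {D : Datum 2 ρ F G} {X' S X : Type} [Group X'] [Group S] [Group X]
    [Finite X] {ι : X' →* Y} {pr : X' →* S} {π : X' →* X} {d n : ℕ}, Mo D ι pr π d n →
    ∀ {φ : MulAut Y} {A : Matrix D.R D.R ℤ}, Sym D φ A 1 (fun _ => 1) → (∀ x, φ (ι x) ∈ ι.range) →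
    (∀ g ∈ GF F G, (φ ^ n) g = g) →
    (∃ j, ∀ a : k, a ^ 2 ^ n = a → ∃ y, FixT D.σ (fun i => D.ex (sr i)) y ∧ y j = a) → GdA X

/-- split groups: field automorphisms `φ` and representatives `ψ w` of the graph automorphisms -/
def BoxS : Prop :=
  ∀ {k : Type} [Field k] [CharP k 2] {Y : Type} [Group Y] {N : Type} [Fintype N] [DecidableEq N] {ρ : Y →* GL N k}
    {F : MulAut Y} {G : Subgroup Y} [IsAlgClosed k] {D : Datum 2 ρ F G} {X' S X : Type} [Group X'] [Group S] [Group X]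
    [Finite X] {ι : X' →* Y} {pr : X' →* S} {π : X' →* X} {P : Type} [Fintype P] [Nonempty P] {d e : ℕ},
    Mo D ι pr π d (Fintype.card P * e) → Nonempty D.I → D.σ = 1 → (∀ i, D.ex (sr i) = e) →
    ∀ {φ : MulAut Y} {A : Matrix D.R D.R ℤ}, Sym D φ A 1 (fun _ => 1) → (∀ x, φ (ι x) ∈ ι.range) →
    (∀ g ∈ GF F G, (φ ^ e) g = g) →
    ∀ {ψ : P → MulAut Y} {B : P → Matrix D.R D.R ℤ} {s : P → Equiv.Perm D.I} {ε : P → D.I → ℕ},
    (∀ p, Sym D (ψ p) (B p) (s p) (ε p)) → (∀ p x, ψ p (ι x) ∈ ι.range) → Function.Injective s →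
    (∀ p, ∀ g ∈ GF F G, ψ p (φ g) = φ (ψ p g)) →
    (∀ p p', ∃ (p'' : P) (i : ℕ), ∀ g ∈ GF F G, ψ p (ψ p' g) = (φ ^ i) (ψ p'' g)) → GdA X

/-- the two forms -/
structure Boxes : Prop where
  t : BoxT
  s : BoxS

end Cfsg.Agent.MK.Two
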