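import Cfsg.Agent.MK.Two.Defs

/-!
# MK, characteristic two: tori (helper58)

* `ZP D P` : the elements of `T` on which the simple roots in `P` are trivial; `exists_nrm_ZP` : its rational points are norms;
* `mem_Do_iff`, `exists_perm` : automorphisms permute the coordinates; `mem_TJ`;
* `Inv`, `exists_fac`, `val_eq` : the factorisation of a label.
-/

set_option autoImplicit false
set_option maxHeartbeats 400000
set_option linter.unusedSectionVars false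

namespace Cfsg.Agent.MK.Two

open Cfsg CoxeterSystem Cfsg.Agent.Tits.Roots Cfsg.Agent.Nodes.Reps Cfsg.Agent.Nodes.BNOf
open Cfsg.Agent.DL Cfsg.Agent.DL.PP Cfsg.Agent.DL.Asm Cfsg.Agent.DL.Uni Cfsg.Agent.DL.Mk Cfsg.Agent.ODD.C2
open Cfsg.Agent.GAL.C2 Cfsg.Agent.GAL.Two Cfsg.Agent.H40.OC Matrix

variable {k : Type} [Field k] [CharP k 2] {Y : Type} [Group Y] {N : Type} [Fintype N]
  [DecidableEq N] {ρ : Y →* GL N k} {F : MulAut Y} {G : Subgroup Y} [IsAlgClosed k] (D : Datum 2 ρ F G)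

/-- the elements of `T` on which the simple roots in `P` are trivial -/
def ZP (P : D.I → Prop) : Subgroup Y where
  carrier := {z | z ∈ D.T ∧ ∀ i, P i → D.χ (sr i) z = 1}
  one_mem' := ⟨one_mem _, fun _ _ => D.χ_one _⟩
  mul_mem' ha hb := ⟨mul_mem ha.1 hb.1, fun i hi => by rw [D.χ_mul _ ha.1 hb.1, ha.2 i hi, hb.2 i hi, mul_one]⟩
  inv_mem' ha := ⟨inv_mem ha.1, fun i hi => by rw [D.χ_inv _ ha.1, ha.2 i hi, inv_one]⟩

/-- trivial on the coroots -/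
def Inv (z : D.R → kˣ) : Prop := ∀ i, chr (D.cw i) z = 1

/-- the class of a simple root -/
noncomputable abbrev cl (i : D.I) : Ob D := Quotient.mk _ i

variable {D} {P : D.I → Prop}

theorem ZP_F (h : D.QS) (hP : ∀ i, P (D.σ i) → P i) : ∀ z ∈ ZP D P, F z ∈ ZP D P := fun z hz =>
  ⟨D.F_mem_T hz.1, fun i hi => by
    obtain ⟨j, rfl⟩ := D.σ.surjective i
    rw [← h.g_sr, D.χ_F (isRoot_sr _ _ j) hz.1, hz.2 j (hP j hi), one_pow]⟩

theorem coch_mem_ZP {v : D.R → ℤ} (hv : ∀ i, P i → (Wt D *ᵥ v) i = 0) (a : kˣ) : D.τ (coch v a) ∈ ZP D P :=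
  ⟨D.τ_mem _, fun i hi => by rw [χ_coch, hv i hi, zpow_zero, Units.val_one]⟩

theorem cl_σ (i : D.I) : cl D (D.σ i) = cl D i :=
  Quotient.sound (Equiv.Perm.sameCycle_apply_left.2 (Equiv.Perm.SameCycle.refl _ _))

section lvl

variable {d e : ℕ} {ζ : kˣ} (L : Lvl D d e) (hζ : IsPrimitiveRoot ζ (2 ^ e - 1))
include L hζ

theorem exists_ZP (hZ : CZ D) {z : Y} (hz : z ∈ ZP D P) (h : (F ^ d) z = z) :
    ∃ v, (∀ i, P i → (Wt D *ᵥ v) i = 0) ∧ z = D.τ (coch v ζ) := by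
  classical
  obtain ⟨m, ϖ, hϖ⟩ := hZ
  obtain ⟨x, hx⟩ := exists_coch L hζ (y := 1) (w := 1) (one_mem _) (by simpa using rp_one) (by rw [cj_one]; exact hz.1) h
  rw [one_mul, inv_one, mul_one] at hx
  let s : D.I → ℤ := fun i => if P i then (Wt D *ᵥ x) i else 0
  have h1 : D.τ (coch ((2 ^ m : ℤ) • x - ∑ i, s i • ϖ i) ζ) = z ^ 2 ^ m := by
    have h2 : coch (∑ i, s i • ϖ i) ζ = 1 :=
      Finset.sum_induction _ (fun v => coch v ζ = 1) (fun a b ha hb => by rw [coch_add, ha, hb, mul_one])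
        (funext fun _ => zpow_zero _) fun i _ => by
          by_cases hi : P i
          · have h3 := hz.2 i hi
            rw [hx, χ_coch, Units.val_eq_one] at h3
            rw [coch_zsmul, show s i = _ from if_pos hi, h3, map_one]
          · rw [coch_zsmul, show s i = _ from if_neg hi, zpow_zero, map_one]
    rw [sub_eq_add_neg, coch_add, coch_neg, h2, inv_one, mul_one, coch_zsmul, hx, ← map_pow, ← map_pow]
    norm_cast
  have h2 : ∀ j, z ^ 2 ^ (e * j) = z := fun j => by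
    induction j with
    | zero => simp
    | succ j ih => rw [mul_add, mul_one, pow_add, pow_mul, ih, ← Lvl_T L hz.1, h]
  refine ⟨(2 ^ (e * m - m) : ℤ) • ((2 ^ m : ℤ) • x - ∑ i, s i • ϖ i), fun i hi => ?_, ?_⟩
  · rw [mulVec_smul, mulVec_sub, mulVec_smul, Wt_sum hϖ, Pi.smul_apply, Pi.sub_apply, Pi.smul_apply, Pi.smul_apply,
      show s i = _ from if_pos hi, sub_self, smul_zero]
  · rw [coch_zsmul, map_zpow, map_zpow, h1, ← h2 m]
    norm_cast
    rw [h2, ← pow_mul, ← pow_add, Nat.add_sub_cancel' (Nat.le_mul_of_pos_left m L.e_pos), h2]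

theorem exists_nrm_ZP (h : D.QS) (hZ : CZ D) (hP : ∀ i, P (D.σ i) → P i) {z : Y} (hz : z ∈ ZP D P) (hF : F z = z) :
    ∃ v, (∀ i, P i → (Wt D *ᵥ v) i = 0) ∧ z = nrm F d (D.τ (coch v ζ)) := by
  obtain ⟨v, hv, rfl⟩ := exists_ZP L hζ hZ hz (CF.pow_apply_of_fixed hF d)
  have h0 : 1 < 2 ^ e := Nat.one_lt_two_pow L.e_pos.ne'
  obtain ⟨b, hb⟩ := exists_zpow_eq (n := ((2 ^ e - 1 : ℕ) : ℤ)) (by omega) ζ⁻¹
  rw [zpow_natCast] at hb
  have h1 := coch_mem_ZP hv b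
  have h2 : (F ^ d) (D.τ (coch v b)) = D.τ (coch v b) * (D.τ (coch v ζ))⁻¹ := by
    rw [Lvl_T L h1.1, ← map_inv, ← map_inv, ← hb, map_pow, map_pow, ← pow_succ', Nat.sub_add_cancel h0.le]
  obtain ⟨v', hv', h3⟩ := exists_ZP L hζ hZ (mul_mem h1 (inv_mem (ZP_F h hP _ h1))) (by
    rw [map_mul, map_inv, ← MulAut.mul_apply _ (F ^ d) F, ← pow_succ, pow_succ', MulAut.mul_apply, h2, map_mul F,
      map_inv F, hF, _root_.mul_inv_rev, inv_inv, mul_assoc, inv_mul_cancel_left])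
  exact ⟨v', hv', by rw [← h3, nrm_lang, h2, _root_.mul_inv_rev, inv_inv, D.T_comm (D.τ_mem _) (inv_mem h1.1),
    mul_inv_cancel_left]⟩

theorem nr_mem (v : D.R → ℤ) : nrm F d (D.τ (coch v ζ)) ∈ D.T ⊓ GF F G := by
  have h := nrm_mem L hζ (y := 1) (w := 1) (one_mem _) (by simpa using rp_one) v
  rwa [cj_one, one_mul, inv_one, mul_one] at h

/-- the label of a linear character of `T^F` -/
theorem exists_labT (μ : TH D →* ℂˣ) : ∃ c : D.R → ℂˣ, PP.Fx D 1 c ∧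
    ∀ v (t : TH D), ((t : GF F G) : Y) = nrm F d (D.τ (coch v ζ)) → μ t = chr v c := by
  let f : ↥(cj 1 D.T ⊓ GF F G) →* TH D :=
    { toFun := fun t => ⟨⟨t, t.2.2⟩, (cj_one D.T).le t.2.1⟩
      map_one' := rfl
      map_mul' := fun _ _ => rfl }
  have hw : D.Rp 1 ((1 : Y)⁻¹ * F 1) := by simpa using rp_one
  obtain ⟨c, hc⟩ := exists_lab L hζ (one_mem _) hw (isLin_lin (μ.comp f))
  refine ⟨c, hc.fx L hζ (one_mem _) hw, fun v t ht => Units.ext ?_⟩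
  rw [← hc v, lin_apply _ (nrm_mem L hζ (one_mem _) hw v)]
  refine congrArg (fun s => ((μ s : ℂˣ) : ℂ)) (Subtype.ext (Subtype.ext ?_))
  rw [ht]
  change _ = nrm F d _
  rw [one_mul, inv_one, mul_one]

end lvl

theorem Gd_comm {g t : Y} (hg : g ∈ G) (ht : t ∈ D.T) : g * t * g⁻¹ * t⁻¹ ∈ GAL.C2.Gd D := by
  obtain ⟨s, hs, t', ht', rfl⟩ := (D.mem_TS (A := {a | D.Rt a}) fun _ h => h).1 (D.G_eq.ge hg)
  rw [show s * t' * t * (s * t')⁻¹ * t⁻¹ = s * ((t' * t) * t'⁻¹) * s⁻¹ * t⁻¹ by group, D.T_comm ht' ht,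
    mul_inv_cancel_right, show s * t * s⁻¹ * t⁻¹ = s * (t * s⁻¹ * t⁻¹) by group]
  exact mul_mem hs (D.conj_mem_S_of_T (fun _ h => h) ht (inv_mem hs))

theorem nrm_Gd {a b : Y} (hb : b ∈ G) (h : a * b⁻¹ ∈ GAL.C2.Gd D) (d : ℕ) :
    nrm F d a * (nrm F d b)⁻¹ ∈ GAL.C2.Gd D := by
  induction d with
  | zero => simp [nrm_zero]
  | succ d ih =>
    have h1 : nrm F d b ∈ G := nrm_mem_of (fun y hy => (D.F_mem_G_iff y).2 hy) d hb
    have h2 := pow_maps (Gd_F (D := D)) d h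
    rw [nrm_succ, nrm_succ, show nrm F d a * (F ^ d) a * (nrm F d b * (F ^ d) b)⁻¹ =
      nrm F d a * (nrm F d b)⁻¹ * (nrm F d b * ((F ^ d) a * ((F ^ d) b)⁻¹) * (nrm F d b)⁻¹) by group, ← map_inv,
      ← map_mul]
    exact mul_mem ih (Gd_cj h1 h2)

/-! ### the coordinates -/

theorem mem_Do_iff (h : D.QS) {u : GF F G} (hu : u ∈ UH D) (i : D.I) : u ∈ Do D (cl D i) ↔ kap D i u = 0 := by
  refine ⟨fun h1 => h1.2 i rfl, fun h2 => ⟨hu, fun j hj => ?_⟩⟩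
  obtain ⟨m, -, rfl⟩ := (Quotient.exact hj.symm : D.σ.SameCycle i j).exists_pow_eq'
  clear hj
  induction m with
  | zero => exact h2
  | succ m ih => rw [pow_succ', Equiv.Perm.mul_apply, kap_fix h hu, ih, zero_pow (pow_ne_zero _ two_ne_zero), mul_zero]

theorem Sys.inj {I K : Type} [Group K] {U T : Subgroup K} {E : I → Subgroup K} (H : Sys U T E) {i j : I}
    (h : ∀ u ∈ U, u ∈ E i → u ∈ E j) : i = j := by
  by_contra h1
  obtain ⟨a, ha, h2⟩ := H.ne j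
  obtain ⟨x, hx, h3, h4⟩ := H.co j a ha
  exact h2 (by simpa using mul_mem (h x hx (h4 i h1)) h3)

variable {α : MulAut Y} {A : Matrix D.R D.R ℤ} {π : Equiv.Perm D.I} {ε : D.I → ℕ}

theorem aut_mem_Do (hq : D.QS) (h : Sym D α A π ε) {u : GF F G} (hu : u ∈ UH D) (i : D.I) :
    h.au.aut u ∈ Do D (cl D (π i)) ↔ u ∈ Do D (cl D i) := by
  obtain ⟨c, h1, h2⟩ := h.kap i
  rw [mem_Do_iff hq (u := h.au.aut u) ((h.au.memU _).2 hu), mem_Do_iff hq hu, Au.coe_aut, h2 _ (mS hu), mul_eq_zero,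
    or_iff_right h1, pow_eq_zero_iff (pow_ne_zero _ two_ne_zero)]

/-- automorphisms permute the coordinates -/
theorem exists_perm (hq : D.QS) (hZ : CZ D) (h : Sym D α A π ε) : ∃ s : Equiv.Perm (Ob D),
    (∀ i, s (cl D i) = cl D (π i)) ∧ ∀ o, ∀ u ∈ UH D, h.au.aut u ∈ Do D (s o) ↔ u ∈ Do D o := by
  have h1 : ∀ i j, cl D i = cl D j ↔ cl D (π i) = cl D (π j) := fun i j =>
    ⟨fun e => Sys.inj (sys hq hZ) fun u hu h2 => by
      obtain ⟨u, rfl⟩ := h.au.aut.surjective u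
      have h3 : u ∈ UH D := (h.au.memU _).1 hu
      rwa [aut_mem_Do hq h h3, ← e, ← aut_mem_Do hq h h3],
    fun e => Sys.inj (sys hq hZ) fun u hu h2 => by
      rwa [← aut_mem_Do hq h hu, ← e, aut_mem_Do hq h hu]⟩
  let f : Ob D → Ob D := Quotient.lift (fun i => cl D (π i)) fun i j e => (h1 i j).1 (Quotient.sound e)
  have h2 : Function.Injective f := fun a b => Quotient.inductionOn₂ a b fun i j e => (h1 i j).2 e
  exact ⟨Equiv.ofBijective f (Finite.injective_iff_bijective.1 h2), fun _ => rfl,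
    fun o => Quotient.inductionOn o fun i u hu => aut_mem_Do hq h hu i⟩

theorem mem_TJ (hq : D.QS) {J : Set (Ob D)} {t : GF F G} :
    t ∈ TJ (UH D) (TH D) (Do D) J ↔ (t : Y) ∈ ZP D fun i => cl D i ∈ J := by
  have h0 : t ∈ TH D → ∀ u ∈ UH D, ∀ i, kap D i (u⁻¹ * (t * u * t⁻¹) : GF F G) = (D.χ (sr i) t - 1) * kap D i u :=
    fun ht u hu i => by
      rw [Subgroup.coe_mul, Subgroup.coe_mul, Subgroup.coe_mul, Subgroup.coe_inv, Subgroup.coe_inv,
        kap_mul i (inv_mem (mS hu)) (D.conj_mem_U_of_T (mS ht) (mS hu)), kap_inv i (mS hu), kap_conj i (mS ht) (mS hu)]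
      ring
  refine and_congr_right fun ht => ⟨fun h1 i hi => ?_, fun h1 o ho u hu => ?_⟩
  · obtain ⟨u, hu, h2⟩ := exists_regU hq
    have h3 := (h1 _ hi ⟨u, hu.2⟩ hu.1).2 i rfl
    rw [h0 ht _ hu.1] at h3
    exact sub_eq_zero.1 ((mul_eq_zero.1 h3).resolve_right (h2 i))
  · refine ⟨mul_mem (inv_mem (mS hu)) (D.conj_mem_U_of_T ht hu), fun i hi => ?_⟩
    rw [h0 ht u hu, h1 i ((show cl D i = o from hi) ▸ ho :), sub_self, zero_mul]

/-! ### the factorisation of the labels -/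

theorem Inv.mul {z z' : D.R → kˣ} (h : Inv D z) (h' : Inv D z') : Inv D (z * z') := fun i => by
  rw [map_mul, h, h', mul_one]

theorem Inv.wm {z : D.R → kˣ} (h : Inv D z) (u : D.W) (v : D.R → ℤ) : chr (D.Wm u *ᵥ v) z = chr v z := by
  induction u using D.cs.simple_induction_left with
  | one => rw [D.Wm_one, one_mulVec]
  | mul_simple_left u i ih =>
    rw [D.Wm_mul, ← mulVec_mulVec, D.Wm_simple, sub_mulVec, one_mulVec, vecMulVec_mulVec, chr_sub, ih, op_smul_eq_smul,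
      chr_zsmul, h, _root_.one_zpow, inv_one, mul_one]

theorem Inv.sym {z : D.R → kˣ} (h : Inv D z) (hα : Sym D α A π ε) : Inv D (pb A z) := fun i => by
  rw [chr_pb, hα.cw, chr_zsmul, h, _root_.one_zpow]

theorem exists_fac (b : D.R → kˣ) : ∃ b0 z, Inv D z ∧ b = pb (Wt D) b0 * z := by
  have h0 : (Wt D * (of D.cw)ᵀ)ᵀ.det ≠ 0 := by rw [det_transpose]; exact det_cartan D
  obtain ⟨b0, h⟩ := mon_surj h0 fun i => chr (D.cw i) b
  refine ⟨b0, (pb (Wt D) b0)⁻¹ * b, fun i => ?_, by rw [mul_inv_cancel_left]⟩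
  rw [map_mul, map_inv, chr_pb, ← congrFun h i, inv_mul_eq_one]
  rfl

/-- the value of a coordinate -/
noncomputable def val (b0 : D.I → kˣ) (z : D.R → kˣ) (i : D.I) (n : ℕ) (v : D.R → ℤ) : k :=
  chr v z * st D.cs D.h i b0 ^ 2 ^ n

theorem chr_fac {v : D.R → ℤ} {i : D.I} {n : ℕ} (hv : Wt D *ᵥ v = (2 ^ n : ℤ) • Pi.single i 1) (b0 : D.I → kˣ) :
    chr v (pb (Wt D) b0) = b0 i ^ 2 ^ n := by
  rw [chr_pb, hv, chr_zsmul, chr_single]
  norm_cast

theorem inv_pb {y : D.I → kˣ} (h : Inv D (pb (Wt D) y)) (j : D.I) : chr (fun i => D.A j i) y = 1 := by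
  rw [← Wt_cw, ← chr_pb, h]

theorem val_eq {b0 b1 : D.I → kˣ} {z z' : D.R → kˣ} (hz : Inv D z) (hz' : Inv D z') {u : D.W}
    (h : ∀ v, chr (D.Wm u *ᵥ v) (pb (Wt D) b1 * z') = chr v (pb (Wt D) b0 * z)) {v : D.R → ℤ} {i : D.I} {n : ℕ}
    (hv : Wt D *ᵥ v = (2 ^ n : ℤ) • Pi.single i 1) : val b0 z i n v = val b1 z' i n v := by
  let b2 := pb (Wp D.cs D.h u) b1
  have h1 : pb (Wt D) b2 * z' = pb (Wt D) b0 * z := ext_chr fun v => by
    rw [← h, map_mul, map_mul, hz'.wm, chr_pb, chr_pb, chr_pb, mulVec_mulVec, mulVec_mulVec, Wt_Wm]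
  have h2 : pb (Wt D) (b2⁻¹ * b0) * z = z' := by
    rw [map_mul, map_inv, mul_assoc, ← h1, inv_mul_cancel_left]
  have h3 : Inv D (pb (Wt D) (b2⁻¹ * b0)) := fun j => by
    have := hz' j
    rwa [← h2, map_mul, hz j, mul_one] at this
  have h4 := st_mul D.cs D.h (inv_pb h3) i b2
  rw [mul_inv_cancel_left] at h4
  rw [val, val, h4, ← h2, map_mul, chr_fac hv, st_congr D.cs D.h (b := b2) (b' := b1) (w := u)
    (fun v => (chr_pb _ v b1).symm) i, mul_pow, Units.val_mul, Units.val_pow_eq_pow_val]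
  ring

end Cfsg.Agent.MK.Two
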