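import Cfsg.Agent.MK.Two.Defs
import Cfsg.Agent.GAL.C2.RowX
import Cfsg.Agent.DL.Ex.Tw
import Cfsg.Agent.H79.GraphD4
import Cfsg.Agent.S0817
import Cfsg.Agent.S1082

/-!
# MK, characteristic two: `PΩ₈⁺(q)` with the triality (helper70)

`gdA_d4` : the row; `D4.exists_sym` : every graph automorphism times a power of the Frobenius map is a symmetry.
-/

set_option autoImplicit false
set_option maxHeartbeats 400000
set_option linter.unusedSectionVars false

namespace Cfsg.Agent.MK.Two.D4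

open Cfsg Cfsg.Lie Cfsg.Agent.ChevalleyStructure Cfsg.Agent.ChevalleyStructure.SignedSymm
  Cfsg.Agent.ChevalleyStructure.GraphSymm Cfsg.Agent.Tits.Roots Cfsg.Agent.BpExc.TowChev Cfsg.Agent.GpExc.Field
open Cfsg.Agent.DL Cfsg.Agent.DL.PP Cfsg.Agent.DL.Ex Cfsg.Agent.ODD.C2 Cfsg.Agent.GAL.C2 Cfsg.Agent.GAL.C2.RX
open Cfsg.Agent.H79 Cfsg.Agent.H79.GraphD4

theorem tabA : Tab chevD4 4 (bS symmD4a) (fun _ => 0) (eS symmD4a) (ext4 OutAbs.c3) := by decide +kernel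

theorem tabC : Tab chevD4 4 (bS symmD4c) (fun _ => 0) (eS symmD4c) (ext4 (Equiv.swap 0 1)) := by decide +kernel

theorem sqC : ∀ r < chevD4.nroots, bS symmD4c r < chevD4.nroots ∧ bS symmD4c (bS symmD4c r) = r ∧
    eS symmD4c (bS symmD4c r) * eS symmD4c r = 1 := by decide +kernel

theorem ext4_inj : Function.Injective ext4 := Equiv.Perm.extendDomainHom_injective _

variable {k : Type} [Field k] [CharP k 2] [IsAlgClosed k]

theorem gamA : gammaD4 k OutAbs.c3 = symmD4a.aut k :=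
  (gammaD4_spec k _).unique (isG_of_symm symmD4a _ _ extD4_c3 S1081.specD4a)

theorem gamC : gammaD4 k (Equiv.swap 0 1) = symmD4c.aut k :=
  (gammaD4_spec k _).unique (isG_of_symm symmD4c _ _ extD4_swap specD4c)

/-- induction over the symmetric group -/
theorem ind3 {p : Equiv.Perm (Fin 3) → Prop} (h1 : p OutAbs.c3) (h2 : p (Equiv.swap 0 1))
    (h3 : ∀ a b, p a → p b → p (a * b)) (a : Equiv.Perm (Fin 3)) : p a := by
  have key : ∀ x : Equiv.Perm (Fin 3), x = OutAbs.c3 ∨ x = Equiv.swap 0 1 ∨ x = OutAbs.c3 * OutAbs.c3 ∨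
      x = OutAbs.c3 * Equiv.swap 0 1 ∨ x = Equiv.swap 0 1 * OutAbs.c3 ∨ x = Equiv.swap 0 1 * Equiv.swap 0 1 := by
    decide
  rcases key a with h | h | h | h | h | h <;> rw [h]
  exacts [h1, h2, h3 _ _ h1 h1, h3 _ _ h1 h2, h3 _ _ h2 h1, h3 _ _ h2 h2]

theorem comm_aut (S : Symm chevD4) (n : ℕ) : Commute (S.aut k) (frobA hp4.inList 2 n) :=
  MulEquiv.ext fun y => (Acts.emb (iterateFrobenius k 2 n) (acts_aut 2 hp4.inList S) (acts_aut 2 hp4.inList S) y).symm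

theorem comm_gam (a : Equiv.Perm (Fin 3)) (n : ℕ) : Commute (gammaD4 k a) (frobA hp4.inList 2 n) := by
  refine ind3 (p := fun a => Commute (gammaD4 k a) (frobA hp4.inList 2 n)) ?_ ?_ (fun a b ha hb => ?_) a
  · rw [gamA]
    exact comm_aut _ n
  · rw [gamC]
    exact comm_aut _ n
  · rw [map_mul]
    exact ha.mul_left hb

variable (hk : LocFin k) {e : ℕ} (he : 0 < e)

theorem sym_sig (S : Symm chevD4) {π : Equiv.Perm (Fin 4)} (T : Tab chevD4 4 (bS S) (fun _ => 0) (eS S) π)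
    (amb : Amb 2 (chevD4.group k).subtype (sigS 2 hp4.inList S 1)) :
    ∃ B, Sym (chev (p := 2) hp4 hk he) (S.aut k * frobA hp4.inList 2 1 ^ 1) B π fun _ => 1 := by
  rw [pow_one]
  let E := chevP hp4 hk amb (acts_sigS 2 _ _ 1) T
  exact ⟨E.Mx, Sym.of_withF (D := chev (p := 2) hp4 hk he) E.amb E.g E.ex E.g_root E.F_x E.F_τ
    (fun y => (Acts.emb (iterateFrobenius k 2 e) (acts_sigS 2 hp4.inList S 1) (acts_sigS 2 hp4.inList S 1) y).symm)
    (T.g_sr hp4) fun _ => rfl⟩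

theorem exists_sym (a : Equiv.Perm (Fin 3)) : ∃ n B ε,
    Sym (chev (p := 2) hp4 hk he) (gammaD4 k a * frobA hp4.inList 2 1 ^ n) B (ext4 a) ε := by
  refine ind3 (p := fun a => ∃ n B ε,
    Sym (chev (p := 2) hp4 hk he) (gammaD4 k a * frobA hp4.inList 2 1 ^ n) B (ext4 a) ε) ?_ ?_ ?_ a
  · obtain ⟨B, h⟩ := sym_sig hk he symmD4a tabA (amb_of_pow hk three_pos (by omega) sigD4_cube)
    exact ⟨1, B, _, gamA (k := k) ▸ h⟩
  · have h1 := (acts_sigS (k := k) 2 hp4.inList symmD4c 1).sq (c := 0) fun r hr =>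
      ⟨(sqC r hr).1, (sqC r hr).2.1, (sqC r hr).2.2, rfl⟩
    obtain ⟨B, h⟩ := sym_sig hk he symmD4c tabC (amb_of_pow hk two_pos (by omega) h1)
    exact ⟨1, B, _, gamC (k := k) ▸ h⟩
  · rintro a b ⟨n, B, ε, h⟩ ⟨n', B', ε', h'⟩
    have h1 := h.mul h'
    rw [mul_assoc, ← mul_assoc (_ ^ n), ← ((comm_gam b 1).pow_right n).eq, mul_assoc, ← pow_add, ← mul_assoc,
      ← map_mul] at h1
    exact ⟨_, _, _, (map_mul ext4 a b).symm ▸ h1⟩

end Cfsg.Agent.MK.Two.D4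

namespace Cfsg.Agent.MK.Two

open Cfsg Cfsg.Lie Cfsg.Agent.GpExc.Field Cfsg.Agent.H129.TorusChar
open Cfsg.Agent.DL Cfsg.Agent.DL.Ex Cfsg.Agent.ODD.C2 Cfsg.Agent.GAL.C2 Cfsg.Agent.GAL.C2.RX
open Cfsg.Agent.H79.GraphD4 Cfsg.Agent.MK.Two.D4

/-- **`PΩ₈⁺(q)`, `q` even** -/
theorem gdA_d4 (hB : Boxes) (F : Type) [Field F] [Fintype F] [CharP F 2] {X : Type} [Group X] [Finite X]
    (e : X ≃* POmega F (quadFormPlus 4 F)) : GdA X := by
  intro Γ s
  obtain ⟨n, hn, hF, _, hk⟩ := exists_setup F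
  obtain ⟨e1⟩ := S1082.result (F := F)
  have hA := S0817.result 2 n hn hF 4 le_rfl
  rw [if_pos rfl, if_pos rfl, ← Nat.card_congr (MulAut.congr e1).toEquiv, ← Nat.card_congr e1.toEquiv] at hA
  have hZ := H70.OutCount.center_eq_bot (F := F) hp4.inList
  have E := emb_chev hp4 hk hn (m := 1) invC_D4 (algebraMap F (AlgebraicClosure F)) hF
  choose m B ε h using exists_sym hk hn
  have hφ : ∀ g ∈ GF (frobA hp4.inList 2 n) (⊤ : Subgroup ↥(chevD4.group (AlgebraicClosure F))),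
      (frobA hp4.inList 2 1 ^ n) g = g := fun g hg => (frobA_pow hp4 n g).trans hg.2
  have hp : commutator ↥(chevD4.group F) = ⊤ := by
    have := s.qs.1
    have h1 : Group.IsPerfect ↥(chevD4.group F) :=
      Group.IsPerfect.ofSurjective (f := (e.trans e1.symm).toMonoidHom) (e.trans e1.symm).surjective
    exact h1.commutator_eq_top
  refine hB.s (D := chev (p := 2) hp4 hk hn) (π := (e1.trans e.symm).toMonoidHom) (P := Equiv.Perm (Fin 3)) (d := 1)
    (e := n) ⟨md_of_emb (good_sl hk hn hp4 slD4) E hZ, hZ, hp, (e1.trans e.symm).surjective, ?_,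
      ⟨1, one_mem _, fun _ _ _ _ _ => one_dvd _⟩, ?_⟩ ⟨(0 : Fin 4)⟩ (σ_chev hp4 hk hn) (fun _ => rfl)
    (sym_chev hp4 hk hn) (stab_of_emb E (sym_chev hp4 hk hn)) hφ h (fun p => stab_of_emb E (h p)) ext4_inj
    (fun p g _ => ?_) (fun p p' => ⟨p * p', m p + m p' + (n - 1) * m (p * p'), fun g hg => ?_⟩) Γ s
  · rw [(MonoidHom.ker_eq_bot_iff _).2 (e1.trans e.symm).injective]
    exact bot_le
  · rw [hA, Fintype.card_perm, Fintype.card_fin]
    exact le_of_eq (by rw [show Nat.factorial 3 = 3 * 2 from rfl]; ring)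
  · exact DFunLike.congr_fun ((comm_gam p 1).mul_left ((Commute.refl _).pow_left _)).eq g
  · have h1 : ∀ j : ℕ, ((frobA hp4.inList 2 1 ^ n) ^ j) g = g := fun j => by
      induction j with
      | zero => rfl
      | succ j ih => rw [pow_succ, MulAut.mul_apply, hφ g hg, ih]
    have h2 : m p + m p' + (n - 1) * m (p * p') + m (p * p') = m p + m p' + n * m (p * p') := by
      obtain ⟨j, rfl⟩ : ∃ j, n = j + 1 := ⟨n - 1, by omega⟩
      rw [Nat.add_sub_cancel]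
      ring
    have h3 : ∀ {A : Type} [Group A] (a b φ : A) (i j : ℕ), Commute a φ → Commute b φ →
        a * φ ^ i * (b * φ ^ j) = a * b * φ ^ (i + j) ∧ φ ^ i * (a * φ ^ j) = a * φ ^ (i + j) := by
      intro A _ a b φ i j ha hb
      rw [pow_add, ← mul_assoc (φ ^ i), ← (ha.pow_right i).eq, mul_assoc a (φ ^ i) (b * _), ← mul_assoc (φ ^ i),
        ← (hb.pow_right i).eq]
      simp only [mul_assoc, and_self]
    rw [← MulAut.mul_apply, ← MulAut.mul_apply (e₁ := _ ^ _), (h3 _ _ _ _ _ (comm_gam p 1) (comm_gam p' 1)).1,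
      (h3 _ 1 _ _ _ (comm_gam (p * p') 1) (Commute.one_left _)).2, h2, pow_add _ (m p + m p'), pow_mul, ← mul_assoc,
      MulAut.mul_apply (e₂ := (_ ^ n) ^ _), h1, map_mul]

end Cfsg.Agent.MK.Two
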