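import Cfsg.Agent.MK.Two.Defs
import Cfsg.Agent.GAL.Two.RowL
import Cfsg.Agent.S0280
import Mathlib.GroupTheory.IsPerfect
import Mathlib.RingTheory.RootsOfUnity.AlgebraicallyClosed

/-!
# MK, characteristic two: the linear and the unitary groups (helper9)

`gdA_sl`, `gdA_su` : the central quotients of `SL n q` and `SU n q`.
-/

set_option autoImplicit false
set_option linter.unusedSectionVars false

namespace Cfsg.Agent.MK.Two

open Cfsg Subgroup Cfsg.Agent.DL Cfsg.Agent.DL.PP Cfsg.Agent.Tits.Roots Cfsg.Agent.GAL.C2 Cfsg.Agent.ODD.C2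
  Cfsg.Agent.ODD.C2.GlA Cfsg.Agent.Nodes.RootsA Cfsg.Agent.ChevalleyStructure.CoxeterGeom Matrix Cfsg.Agent.GAL.Two

attribute [local instance] finite_WA

namespace LU

theorem gcd_dvd_of_pow {H : Type} [Group H] {w a : H} {m n i : ℕ} (hm : 0 < m) (hw : orderOf w = m) (ha : a ^ m = 1)
    (h : w ^ i = a ^ n) : Nat.gcd n m ∣ i := by
  obtain ⟨m', h1⟩ := Nat.gcd_dvd_right n m
  obtain ⟨n', h2⟩ := Nat.gcd_dvd_left n m
  generalize Nat.gcd n m = d at h1 h2
  have h3 : m ∣ i * m' := hw ▸ orderOf_dvd_of_pow_eq_one (by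
    rw [pow_mul, h, ← pow_mul, h2, mul_right_comm, ← h1, pow_mul, ha, one_pow])
  rw [h1] at h3 hm
  exact Nat.dvd_of_mul_dvd_mul_right (Nat.pos_of_mul_pos_left hm) h3

theorem exists_order (k : Type) [Field k] [CharP k 2] [IsAlgClosed k] {m : ℕ} (hm : Odd m) :
    ∃ w : kˣ, orderOf w = m := by
  have : NeZero (m : k) := ⟨fun h => (Nat.not_even_iff_odd.2 hm) (even_iff_two_dvd.2 ((CharP.cast_eq_zero_iff k 2 m).1 h))⟩
  obtain ⟨z, hz⟩ := HasEnoughRootsOfUnity.exists_primitiveRoot k m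
  exact ⟨(hz.isUnit hm.pos.ne').unit, by rw [← orderOf_units, IsUnit.unit_spec, ← hz.eq_orderOf]⟩

/-- the diagonal automorphisms -/
theorem dg_A {n : ℕ} {k : Type} [Field k] [CharP k 2] [IsAlgClosed k] {F : MulAut (GL (Fin (n + 1)) k)}
    (D : Datum 2 (MonoidHom.id _) F ((mnA n).G k (csA n) (isCartan n))) {X : Type} [Group X]
    {ι : X →* GL (Fin (n + 1)) k} {m : ℕ} (hm : Odd m)
    (h1 : ∀ x, ι x ∈ GF F ((mnA n).G k (csA n) (isCartan n)) ∧ GeneralLinearGroup.det (ι x) = 1)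
    (h2 : ∀ w : kˣ, w ^ m = 1 → ∃ t ∈ GF F ((mnA n).G k (csA n) (isCartan n)), GeneralLinearGroup.det t = w)
    (h3 : ∀ a : kˣ, F ((mnA n).τ k (coch 1 a)) = (mnA n).τ k (coch 1 a) → a ^ m = 1) :
    ∃ t ∈ GF F ((mnA n).G k (csA n) (isCartan n)), ∀ (i : ℕ) (x : X), ∀ z ∈ Zc D, t ^ i = ι x * z →
      Nat.gcd (n + 1) m ∣ i := by
  obtain ⟨w, hw⟩ := exists_order k hm
  obtain ⟨t, ht, h4⟩ := h2 w (hw ▸ pow_orderOf_eq_one w)
  refine ⟨t, ht, fun i x z hz h => ?_⟩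
  obtain ⟨c, hc⟩ := GeneralLinearGroup.mem_center_iff_val_mem_range_scalar.1
    (mem_center_iff.2 fun g => (Zc_comm hz (g := g) (by rw [G_top]; trivial)).symm)
  obtain ⟨a, rfl⟩ := eq_τ_of_scalar (c := c) hc.symm
  have h5 := mul_mem (inv_mem (h1 x).1) (pow_mem ht i)
  rw [h, inv_mul_cancel_left] at h5
  refine gcd_dvd_of_pow hm.pos hw (h3 a h5.2) ?_
  rw [← h4, ← map_pow, h, map_mul, (h1 x).2, one_mul, det_τA, chr_apply]
  simp [coch_apply]

theorem card_pgl (F : Type) [Field F] [Fintype F] (n : ℕ) : Nat.card (ProjGenLinGroup (Fin (n + 1)) F) =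
    Nat.card (ProjectiveSpecialLinearGroup (Fin (n + 1)) F) * Nat.gcd (n + 1) (Fintype.card F - 1) := by
  rw [ClassicalGeometry.PSL2Basic.card_PGL_eq_card_SL, ← S0280.card_center_SL (K := F) (Nat.succ_pos n)]
  exact Subgroup.card_eq_card_quotient_mul_card_subgroup _

theorem zS {X : Type} [Group X] (h : commutator X = ⊤) : center (X ⧸ center X) = ⊥ :=
  haveI : Group.IsPerfect X := ⟨h⟩
  Group.IsPerfect.center_quotient_center_eq_bot X

end LU

open LU

/-- **the linear groups** -/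
theorem gdA_sl (hB : Boxes) {X : Type} [Group X] [Finite X] (F : Type) [Field F] [Fintype F] [CharP F 2] (n : ℕ)
    (φ : SpecialLinearGroup (Fin n) F →* X) (hn : 2 ≤ n) (h4 : n = 2 → 4 ≤ Fintype.card F)
    (hs : Function.Surjective φ) (hker : φ.ker ≤ center (SpecialLinearGroup (Fin n) F)) : GdA X := by
  obtain ⟨n, rfl⟩ : ∃ m, n = m + 1 := ⟨n - 1, by omega⟩
  have h : 2 ≤ n ∨ (n = 1 ∧ 4 ≤ Fintype.card F) := by omega
  obtain ⟨e, he, hF, _, hk⟩ := exists_setup F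
  replace hk := DL.Ex.lf_of_locFin (p := 2) hk
  have : Fact (Nat.Prime 2) := Nat.fact_prime_two
  have h1 := embL (n := n) (algebraMap F (AlgebraicClosure F)) hF
  have h2 := fun y => mem_range_ιL (n := n) (y := y) (algebraMap F (AlgebraicClosure F)) hF
  have hp := perfect_sl h
  have hσ := sigma_mn hk he (cs := csA n) (h := isCartan n) (mnA n).sy_one IsOfFinOrder.one (π := 1) fun _ => rfl
  have hφ := sym_mn hk he (cs := csA n) (h := isCartan n) (mnA n).sy_one IsOfFinOrder.one one_pos (mnA n).sy_one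
    IsOfFinOrder.one (Commute.one_left _) (π := 1) fun _ => rfl
  have hψ := sym_mn hk he (mnA n).sy_one IsOfFinOrder.one one_pos (syA (n := n)) (Mn.fin_pm_it _)
    (Commute.one_right _) (π := Fin.revPerm) gA_sr
  have hq : ∀ a : (AlgebraicClosure F)ˣ, a ^ (2 ^ e - 1) = 1 ↔ a ^ 2 ^ e = a := fun a => by
    rw [← mul_left_inj a, ← pow_succ, Nat.sub_add_cancel Nat.one_le_two_pow, one_mul]
  have hM : ∀ m, Nat.card (MulAut (ProjectiveSpecialLinearGroup (Fin (n + 1)) F)) =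
      m * Nat.card (ProjGenLinGroup (Fin (n + 1)) F) →
      Mo ((mnA n).dat (csA n) (isCartan n) hk he) (ιL n (algebraMap F _)) (QuotientGroup.mk' (center _)) φ
        (Nat.gcd (n + 1) (2 ^ e - 1)) m := fun m hm =>
    ⟨⟨goodL hk he, ⟨_, Mn.odd_two_pow_sub_one he, h1⟩, QuotientGroup.mk'_surjective _,
      fun s => QuotientGroup.eq_one_iff s, fun y hy h3 => (h2 y hy).2 (hom_Gd _ _ h3)⟩, zS hp, hp, hs, hker,
      dg_A _ (Mn.odd_two_pow_sub_one he) (fun x => ⟨h1.mem x, det_ιL _ x⟩)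
        (fun w hw => ⟨(mnA n).τ _ (Pi.mulSingle 0 w), mem_GF_L.2 ((mnA n).τ_mem_lv.2 (by
          rw [← Pi.mulSingle_pow, (hq w).1 hw])), by rw [det_τA, chr_one_single]⟩)
        fun a ha => (hq a).2 (by simpa [coch_apply] using congrFun ((mnA n).τ_mem_lv.1 ha) 0),
      (hm.trans (by rw [card_pgl, hF, mul_comm])).le⟩
  have h3 : ∀ s, (1 * frA _ _ 1 : MulAut _) (ιL n (algebraMap F (AlgebraicClosure F)) s) ∈ (ιL n (algebraMap F _)).range :=
    fun s => by rw [h2 _ (hφ.mem_GF (h1.mem s)), one_mul, det_frA, det_ιL, one_pow]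
  have h5 := fun g => fix_mn (y := g) (e := e) (cs := csA n) (h := isCartan n) (k := AlgebraicClosure F)
    (H := (mnA n).G _ (csA n) (isCartan n)) (mnA n).sy_one (pow_one _)
  rw [one_mul e] at h5
  have h6 := S0813.result 2 e he hF (n + 1) hn (hF ▸ h4)
  rcases h with h | ⟨rfl, h⟩
  · rw [if_neg (by omega)] at h6
    have hc := syA (n := n) (k := AlgebraicClosure F).commute 1
    refine hB.s (P := Bool) (hM _ h6) ⟨(⟨0, by omega⟩ : Fin n)⟩ hσ (fun _ => rfl) hφ h3 h5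
      (ψ := fun p => cond p (γA n _ * frA _ _ 1) (1 * frA _ _ 1)) (B := fun p => cond p _ _)
      (s := fun p => cond p Fin.revPerm 1) (ε := fun _ _ => 1) (Bool.rec hφ hψ) (Bool.rec h3 fun s => ?g1)
      (fun p p' h7 => ?g2) (Bool.rec (fun _ _ => rfl) fun g _ => (DFunLike.congr_fun hc.eq _)) fun p p' =>
        ⟨xor p p', 1, fun g _ => ?g3⟩
    case g1 => rw [cond_true, h2 _ (hψ.mem_GF (h1.mem s)), MulAut.mul_apply, det_γA, det_frA, det_ιL, one_pow, inv_one]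
    case g2 =>
      have h8 : (Fin.revPerm : Equiv.Perm (Fin n)) ≠ 1 := fun h5 => by
        have h6 : n - (0 + 1) = 0 := congrArg (fun π : Equiv.Perm (Fin n) => (π ⟨0, by omega⟩).val) h5
        omega
      cases p <;> cases p'
      exacts [rfl, absurd h7.symm h8, absurd h7 h8, rfl]
    case g3 =>
      have h8 : ∀ y, γA n _ (frA _ _ 1 y) = frA _ (AlgebraicClosure F) 1 (γA n _ y) := DFunLike.congr_fun hc.eq
      cases p <;> cases p'
      exacts [rfl, rfl, h8 _, (congrArg (fun y => γA n _ y) (h8 _).symm).trans (γA_γA _)]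
  · rw [if_pos rfl, one_mul] at h6
    refine hB.t (hM _ h6) hφ h3 h5 ⟨(0 : Fin 1), fun a ha => ?_⟩
    exact exists_fixT _ _ one_ne_zero (by rw [hσ]; exact Function.minimalPeriod_id) (by rwa [one_mul])

/-- **the unitary groups** -/
theorem gdA_su (hB : Boxes) {X : Type} [Group X] [Finite X] (F : Type) [Field F] [Fintype F] [CharP F 2] (n q : ℕ)
    (φ : SU n F q →* X) (hF : Fintype.card F = q ^ 2) (hn : 3 ≤ n) (h : ¬ (n = 3 ∧ q = 2))
    (hs : Function.Surjective φ) (hker : φ.ker ≤ center (SU n F q)) : GdA X := by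
  obtain ⟨n, rfl⟩ : ∃ m, n = m + 1 := ⟨n - 1, by omega⟩
  obtain ⟨e, he, rfl, _, hk⟩ := exists_setup' F two_ne_zero hF
  replace hk := DL.Ex.lf_of_locFin (p := 2) hk
  obtain ⟨ι, h1, h2, -⟩ := embU hk he n (algebraMap F _) hF
  have hp := perfect_su (n := n) hF (by omega) (by omega)
  have hσ := sigma_mn hk he (syA (n := n)) (Mn.fin_pm_it _) (π := Fin.revPerm) gA_sr
  have hφ := sym_mn hk he (syA (n := n)) (Mn.fin_pm_it _) one_pos (mnA n).sy_one IsOfFinOrder.one (Commute.one_left _)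
    (π := 1) fun _ => rfl
  have : Fact (Nat.Prime 2) := Nat.fact_prime_two
  have ho : Odd (2 ^ e + 1) := (Nat.even_pow.2 ⟨even_two, he.ne'⟩).add_one
  refine hB.t (d := Nat.gcd (n + 1) (2 ^ e + 1)) (n := 2 * e)
    ⟨⟨goodU hk he, ⟨_, ho, h1⟩, QuotientGroup.mk'_surjective _, fun s => QuotientGroup.eq_one_iff s,
      fun y hy h3 => (h2 y hy).2 (hom_Gd _ _ h3)⟩, zS hp, hp, hs, hker,
      dg_A _ ho (fun x => ⟨h1.mem x, (h2 _ (h1.mem x)).1 ⟨x, rfl⟩⟩) (fun w hw => ?_) fun a ha => ?_, le_of_eq ?_⟩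
    hφ (fun s => ?_) (fun g hg => fix_mn syA γA_sq hg) ⟨(⟨0, by omega⟩ : Fin n), fun a ha => ?_⟩
  · obtain ⟨t, ht, h3⟩ := exists_tor_U (n := n) he hw
    exact ⟨t, ⟨by rw [G_top]; trivial, ht.2⟩, h3⟩
  · rw [MulAut.mul_apply, frA_apply, (mnA n).frob_τ, syA.τ, ((mnA n).τ_inj _).eq_iff] at ha
    have h3 := congrFun ha 0
    rw [mon_BA, inv_eq_iff_mul_eq_one] at h3
    simpa [coch_apply, pow_succ] using h3
  · rw [S0815.result 2 e he rfl hF (n + 1) hn h]
    ring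
  · rw [h2 _ (hφ.mem_GF (h1.mem s)), one_mul, det_frA, (h2 _ (h1.mem s)).1 ⟨s, rfl⟩, one_pow]
  · refine exists_fixT _ _ two_ne_zero ?_ ha
    rw [hσ]
    refine Function.minimalPeriod_eq_prime (Fin.rev_rev _) fun h3 => ?_
    have h4 : n - (0 + 1) = 0 := congrArg Fin.val h3
    omega

end Cfsg.Agent.MK.Two
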