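import Cfsg.Agent.MK.Two.Row1
import Cfsg.Agent.MK.Two.RowLU
import Cfsg.Agent.MK.Two.RowD4

/-!
# MK, characteristic two: the row from `SpBox` and the two small families (helper89)
-/

set_option autoImplicit false
set_option maxHeartbeats 400000

namespace Cfsg.Agent.MK.Two

open Cfsg

theorem rest_of (hB : Boxes) : Rest where
  sl := fun F _ _ _ n h1 h2 _ _ _ φ _ h3 h4 => gdA_sl hB F n φ h1 h2 h3 h4
  su := fun F _ _ _ n q h1 h2 h3 _ _ _ φ _ h4 h5 => gdA_su hB F n q φ h1 h2 h3 h4 h5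
  d4 := fun F _ _ _ _ _ _ _ e => gdA_d4 hB F e

theorem row_of_sp (hC : StepC) (hS : SpBox) (s : Small) : Row fun S _ => IsLieTypeChar 2 S :=
  row_of_rest (boxes_of_sp hC hS) (rest_of (boxes_of_sp hC hS)) s

end Cfsg.Agent.MK.Two
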