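import Cfsg.Agent.MK.Two.Defs
import Cfsg.Agent.ODD.Cov.Two

/-!
# MK, characteristic two: the families give the row (helper89)

`Rows` : one field for each family; `row_of_rows : Rows → Row fun S _ => IsLieTypeChar 2 S`.
-/

set_option autoImplicit false
set_option maxHeartbeats 400000

namespace Cfsg.Agent.MK.Two

open Cfsg Subgroup Matrix Cfsg.Agent.ODD Cfsg.Agent.ODD.Cv

/-- all groups isomorphic to the simple group `S` are good -/
def GdI (S : Type) [Group S] : Prop :=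
  ∀ (X : Type) [Group X] [Finite X], IsSimpleGroup X → (X ≃* S) → GdA X

/-- all quasisimple groups with central quotient `S` and a centre of odd order are good -/
def GdT (S : Type) [Group S] : Prop :=
  ∀ (X : Type) [Group X] [Finite X], IsQuasisimple X → Odd (Nat.card (center X)) → (X ⧸ center X ≃* S) → GdA X

/-- all central quotients of `S` are good -/
def GdQ (S : Type) [Group S] : Prop :=
  ∀ (X : Type) [Group X] [Finite X] (φ : S →* X), IsQuasisimple X → Function.Surjective φ → φ.ker ≤ center S → GdA X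

/-- the families -/
structure Rows : Prop where
  sl : ∀ (F : Type) [Field F] [Fintype F] [CharP F 2] (n : ℕ), 2 ≤ n → (n = 2 → 4 ≤ Fintype.card F) →
    GdQ (SpecialLinearGroup (Fin n) F)
  su : ∀ (F : Type) [Field F] [Fintype F] [CharP F 2] (n q : ℕ), Fintype.card F = q ^ 2 → 3 ≤ n → ¬ (n = 3 ∧ q = 2) →
    GdQ (SU n F q)
  sp : ∀ (F : Type) [Field F] [Fintype F] [CharP F 2] (m : ℕ), 2 ≤ m → 4 ≤ Fintype.card F → GdI (PSp m F)
  sp2 : ∀ (F : Type) [Field F] [Fintype F] [CharP F 2] (m : ℕ), 3 ≤ m → Fintype.card F = 2 → GdI (PSp m F)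
  d4 : ∀ (F : Type) [Field F] [Fintype F] [CharP F 2], GdI (POmega F (quadFormPlus 4 F))
  plus : ∀ (F : Type) [Field F] [Fintype F] [CharP F 2] (m : ℕ), 4 < m → GdI (POmega F (quadFormPlus m F))
  minus : ∀ (F : Type) [Field F] [Fintype F] [CharP F 2] (m : ℕ) (a b : F), 4 ≤ m →
    (∀ z₁ z₂ : F, z₁ ^ 2 + a * z₁ * z₂ + b * z₂ ^ 2 = 0 → z₁ = 0 ∧ z₂ = 0) → GdI (POmega F (quadFormMinus (m - 1) F a b))
  g2 : ∀ (F : Type) [Field F] [Fintype F] [CharP F 2], 3 ≤ Fintype.card F → GdI (Lie.chevG2.group F)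
  f4 : ∀ (F : Type) [Field F] [Fintype F] [CharP F 2], Fintype.card F ≠ 2 → GdI (Lie.chevF4.group F)
  f42 : ∀ (F : Type) [Field F] [Fintype F] [CharP F 2], Fintype.card F = 2 → GdI (Lie.chevF4.group F)
  e6 : ∀ (F : Type) [Field F] [Fintype F] [CharP F 2], GdT (Lie.chevE6.group F)
  e7 : ∀ (F : Type) [Field F] [Fintype F] [CharP F 2], GdI (Lie.chevE7.group F)
  e8 : ∀ (F : Type) [Field F] [Fintype F] [CharP F 2], GdI (Lie.chevE8.group F)
  te6 : ∀ (F : Type) [Field F] [Fintype F] [CharP F 2] (q : ℕ), IsPrimePow q → Fintype.card F = q ^ 2 →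
    GdT (Lie.twistedE6 F q)
  td4 : ∀ (F : Type) [Field F] [Fintype F] [CharP F 2] (q : ℕ), IsPrimePow q → Fintype.card F = q ^ 3 →
    GdI (Lie.twistedD4 F q)
  sz : ∀ (F : Type) [Field F] [Fintype F] (m : ℕ), 1 ≤ m → Fintype.card F = 2 ^ (2 * m + 1) →
    GdI (Lie.Sz F (2 ^ (m + 1)))
  tf4 : ∀ (F : Type) [Field F] [Fintype F] (m : ℕ), 1 ≤ m → Fintype.card F = 2 ^ (2 * m + 1) →
    GdI (Lie.twistedF4 F (2 ^ m))

/-- **the row in characteristic two from the families** -/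
theorem row_of_rows (h : Rows) : Row fun S _ => IsLieTypeChar 2 S := by
  intro X _ _ c
  have pl : center X = ⊥ → IsSimpleGroup X := simple_of c
  have go : ∀ {S : Type} [Group S], GdI S → center X = ⊥ → (X ⧸ center X ≃* S) → GdA X :=
    fun r hZ f => r X (pl hZ) ((eqv hZ).trans f)
  rcases c.fam with ⟨F, _, _, _, n, h1, h2, ⟨f⟩⟩ | ⟨F, _, _, _, n, h1, h2, ⟨f⟩⟩ | ⟨F, _, _, _, n, q, h1, h2, h3, ⟨f⟩⟩ |
    ⟨F, _, _, _, n, h1, h2, ⟨f⟩⟩ | ⟨F, _, _, _, n, h1, ⟨f⟩⟩ | ⟨F, _, _, _, n, x, y, h1, h2, ⟨f⟩⟩ |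
    ⟨F, _, _, _, h0⟩ | ⟨F, _, _, _, q, h0, h1⟩ | ⟨-, F, _, _, m, h1, h2, ⟨f⟩⟩ | ⟨-, F, _, _, m, h1, h2, ⟨f⟩⟩ |
    ⟨h0, -⟩
  · obtain ⟨k, hk⟩ := even_card F
    obtain ⟨φ, h3, h4, -⟩ := sl_cover c h1 h2 (by omega) f
    exact h.sl F n h1 h2 X φ c.qs h3 h4
  · have hZ := center_eq_bot c ((mb_psp h1 h2).congr f)
    obtain ⟨k, hk⟩ := even_card F
    have h3 : 1 < Fintype.card F := Fintype.one_lt_card
    by_cases h4 : Fintype.card F = 2
    · exact go (h.sp2 F n (by omega) h4) hZ f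
    · exact go (h.sp F n h1 (by omega)) hZ f
  · obtain ⟨k, hk⟩ := even_card F
    obtain ⟨φ, h4, h5, -⟩ := su_cover c h1 h2 h3 (by
      rintro ⟨-, rfl⟩
      omega) f
    exact h.su F n q h1 h2 h3 X φ c.qs h4 h5
  · exact absurd (even_card F) (Nat.not_even_iff_odd.2 h2)
  · have hZ := center_eq_bot c ((mb_plus h1).congr f)
    rcases h1.eq_or_lt with rfl | h2
    · exact go (h.d4 F) hZ f
    · exact go (h.plus F n h2) hZ f
  · exact go (h.minus F n x y h1 h2) (center_eq_bot c ((mb_minus h1 h2).congr f)) f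
  · rcases h0 with ⟨h0, ⟨f⟩⟩ | ⟨⟨f⟩⟩ | ⟨⟨f⟩⟩ | ⟨⟨f⟩⟩ | ⟨⟨f⟩⟩
    · obtain ⟨k, hk⟩ := even_card F
      exact go (h.g2 F h0) (center_eq_bot c ((mb_g2 (by omega)).congr f)) f
    · by_cases h4 : Fintype.card F = 2
      · exact go (h.f42 F h4) (center_eq_bot c (mb_f4.congr f)) f
      · exact go (h.f4 F h4) (center_eq_bot c (mb_f4.congr f)) f
    · exact h.e6 F X c.qs c.odd f
    · exact go (h.e7 F) (center_eq_bot c (mb_e7.congr f)) f
    · exact go (h.e8 F) (center_eq_bot c (mb_e8.congr f)) f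
  · rcases h1 with ⟨h1, ⟨f⟩⟩ | ⟨h1, ⟨f⟩⟩
    · exact h.te6 F q h0 h1 X c.qs c.odd f
    · exact go (h.td4 F q h0 h1) (center_eq_bot c ((mb_d4 h0 h1).congr f)) f
  · exact go (h.sz F m h1 h2) (center_eq_bot c ((mb_sz h1 h2).congr f)) f
  · exact go (h.tf4 F m h1 h2) (center_eq_bot c ((mb_tf4 h1 h2).congr f)) f
  · exact absurd h0 (by norm_num)

end Cfsg.Agent.MK.Two
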