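import Cfsg.Agent.MK.Two.Defs
import Cfsg.Agent.MK.E.F
import Cfsg.Agent.GAL.C2.Cl
import Cfsg.Agent.H672.Ext

/-!
# MK, characteristic two: tools for `SpBox` (helper58)

* `ip_congr`, `ip_nat`, `ip_sum`, `ip_tw`, `ip_zero_of`, `ip_one_unique` : scalar products;
* `exists_act` : restriction of an action; `cen_of_und`; `count`;
* `Ab ι` : `ι` is injective, the range is normal, the quotient is abelian of odd order; `Ab.up`, `Ab.down`, `Ab.cj`, `Ab.tw`,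
  `Ab.mult_one`, `Ab.Stb`, `Ab.sep`, `Ab.hat`;
* `extF_of`, `ExtF.conj`.
-/

set_option autoImplicit false
set_option maxHeartbeats 400000

namespace Cfsg.Agent.MK.Two

open Cfsg Subgroup Cfsg.Agent.Characters Cfsg.Agent.Characters.Core Cfsg.Agent.ODD.Red
open scoped ComplexConjugate

section ip

variable {H S V : Type} [Group H] [Group S] [Group V] [Finite H] [Finite S] [Finite V]

theorem ip_congr (e : S ≃ H) {φ ψ : H → ℂ} {φ' ψ' : S → ℂ} (h : ∀ s, φ' s * conj (ψ' s) = φ (e s) * conj (ψ (e s))) :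
    ip φ' ψ' = ip φ ψ := by
  have := Fintype.ofFinite H
  have := Fintype.ofFinite S
  rw [ip_eq, ip_eq, classInner_def, classInner_def, Nat.card_congr e]
  exact congrArg _ (Fintype.sum_equiv e _ _ h)

theorem ip_nat {χ θ : H → ℂ} (hχ : IsCharacter H χ) (hθ : IsCharacter H θ) : ∃ n : ℕ, ip χ θ = n :=
  letI := Fintype.ofFinite H
  classInner_isNat hχ hθ

theorem ip_sum [Fintype (IrrCharacter H)] {χ : H → ℂ} (hχ : IsCharacter H χ) (j : V → H) (f : V → ℂ) :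
    ip (χ ∘ j) f = ∑ θ : IrrCharacter H, ip χ θ * ip ((θ : H → ℂ) ∘ j) f := by
  have := Fintype.ofFinite H
  have := Fintype.ofFinite V
  simp only [ip_eq]
  conv_lhs => rw [classFunction_eq_sum (isCharacter_isClassFunction hχ)]
  simp only [← classInner_smul_left, ← classInner_sum_left]
  exact congrArg (classInner · f) (funext fun v => by simp)

theorem lin_conj (β : H →* ℂˣ) (g : H) : (β g : ℂ) * conj (β g : ℂ) = 1 := by
  rw [Complex.mul_conj, Complex.normSq_eq_norm_sq, Linear.norm_hom_apply]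
  simp

theorem ip_outer (a f : H → ℂ) (b g : S → ℂ) :
    ip (fun v : H × S => a v.1 * conj (b v.2)) (fun v => f v.1 * conj (g v.2)) = ip a f * conj (ip b g) := by
  have := Fintype.ofFinite H
  have := Fintype.ofFinite S
  simp only [ip_eq, classInner_def, Fintype.sum_prod_type, Nat.card_prod, map_mul, map_sum, map_inv₀, map_natCast]
  rw [mul_mul_mul_comm, Finset.sum_mul_sum, Nat.cast_mul, mul_inv]
  exact congrArg _ (Finset.sum_congr rfl fun _ _ => Finset.sum_congr rfl fun _ _ => by ring)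

theorem nat_sum (j : V →* H) {χ : H → ℂ} (hχ : IsCharacter H χ) {l : V → ℂ} (hl : IsCharacter V l)
    [Fintype (IrrCharacter H)] : ∃ m n : IrrCharacter H → ℕ, (∀ η : IrrCharacter H, ip χ η = m η) ∧
      (∀ η : IrrCharacter H, ip ((η : H → ℂ) ∘ j) l = n η) ∧ ip (χ ∘ j) l = (∑ η, m η * n η : ℕ) := by
  choose m hm using fun η : IrrCharacter H => ip_nat hχ (isIrr_isCharacter η.2)
  choose n hn using fun η : IrrCharacter H => ip_nat (isCharacter_comp j (isIrr_isCharacter η.2)) hl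
  exact ⟨m, n, hm, hn, by simp [ip_sum hχ, hm, hn]⟩

theorem ip_zero_of (j : V →* H) {χ η : H → ℂ} (hχ : IsCharacter H χ) (hη : IsIrrCharacter H η) {l : V → ℂ}
    (hl : IsCharacter V l) (h : ip χ η ≠ 0) (h0 : ip (χ ∘ j) l = 0) : ip (η ∘ j) l = 0 := by
  have := @Fintype.ofFinite _ (finite_irr (G := H))
  obtain ⟨m, n, hm, hn, hs⟩ := nat_sum j hχ hl
  rw [hs, Nat.cast_eq_zero, Finset.sum_eq_zero_iff] at h0
  rw [hm ⟨η, hη⟩, Nat.cast_ne_zero] at h
  exact (hn ⟨η, hη⟩).trans (Nat.cast_eq_zero.2 ((mul_eq_zero.1 (h0 _ (Finset.mem_univ _))).resolve_left h))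

theorem ip_one_unique (j : V →* H) {χ η η' : H → ℂ} (hχ : IsCharacter H χ) (hη : IsIrrCharacter H η)
    (hη' : IsIrrCharacter H η') {l : V → ℂ} (hl : IsCharacter V l) (h1 : ip (χ ∘ j) l = 1) (h : ip χ η ≠ 0)
    (h' : ip χ η' ≠ 0) (h2 : ip (η ∘ j) l ≠ 0) (h2' : ip (η' ∘ j) l ≠ 0) : η = η' ∧ ip (η ∘ j) l = 1 := by
  classical
  have := @Fintype.ofFinite _ (finite_irr (G := H))
  obtain ⟨m, n, hm, hn, hs⟩ := nat_sum j hχ hl
  rw [hs, Nat.cast_eq_one] at h1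
  rw [hm ⟨η, hη⟩, Nat.cast_ne_zero] at h
  rw [hm ⟨η', hη'⟩, Nat.cast_ne_zero] at h'
  rw [hn ⟨η, hη⟩, Nat.cast_ne_zero] at h2
  rw [hn ⟨η', hη'⟩, Nat.cast_ne_zero] at h2'
  have h3 := Nat.pos_of_ne_zero (mul_ne_zero h h2)
  have h4 := Nat.pos_of_ne_zero (mul_ne_zero h' h2')
  have h5 := Finset.single_le_sum (f := fun η => m η * n η) (fun _ _ => Nat.zero_le _) (Finset.mem_univ ⟨η, hη⟩)
  refine ⟨by_contra fun e => ?_, (hn ⟨η, hη⟩).trans (Nat.cast_eq_one.2 (Nat.eq_one_of_mul_eq_one_left (m := m ⟨η, hη⟩)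
    (by omega)))⟩
  have h6 := Finset.add_le_sum (f := fun η => m η * n η) (fun _ _ => Nat.zero_le _) (Finset.mem_univ ⟨η, hη⟩)
    (Finset.mem_univ ⟨η', hη'⟩) fun e' => e (congrArg Subtype.val e')
  omega

theorem exists_und (j : V → H) {χ : H → ℂ} (hχ : IsCharacter H χ) {f : V → ℂ} (h : ip (χ ∘ j) f ≠ 0) :
    ∃ η, IsIrrCharacter H η ∧ ip χ η ≠ 0 ∧ ip (η ∘ j) f ≠ 0 := by
  have := @Fintype.ofFinite _ (finite_irr (G := H))
  rw [ip_sum hχ] at h
  obtain ⟨η, -, h1⟩ := Finset.exists_ne_zero_of_sum_ne_zero h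
  exact ⟨η, η.2, left_ne_zero_of_mul h1, right_ne_zero_of_mul h1⟩

theorem exists_ov {ι : S →* H} (hι : Function.Injective ι) {θ : S → ℂ} (hθ : IsIrrCharacter S θ) :
    ∃ χ, IsIrrCharacter H χ ∧ ip (χ ∘ ι) θ ≠ 0 := by
  have := Fintype.ofFinite S
  have := Fintype.ofFinite ι.range
  obtain ⟨χ, h1, h2⟩ := ODD.C2.exists_over ι.range (GAL.C2.tr_irr hι hθ)
  exact ⟨χ, h1, by rwa [GAL.C2.inner_tr, ← ip_eq] at h2⟩

theorem cen_of_und {i : S →* H} (hi : Function.Injective i) {χ : H → ℂ} (hχ : IsIrrCharacter H χ) {η : S → ℂ}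
    (hη : IsIrrCharacter S η) (h : ip (χ ∘ i) η ≠ 0) {z : S} (hz : i z ∈ center H) {c : ℂ}
    (hc : χ (i z) = c * χ 1) : η z = c * η 1 := by
  have h1 : z ∈ center S := mem_center_iff.2 fun g => hi (by rw [map_mul, map_mul, mem_center_iff.1 hz])
  obtain ⟨a, ha, -⟩ := exists_central hχ hz
  obtain ⟨b, hb, -⟩ := exists_central hη h1
  have h2 : η z = b * η 1 := by rw [← hb, mul_one]
  obtain rfl : a = c := mul_right_cancel₀ (isIrr_apply_one_ne_zero hχ) (by rw [← ha, mul_one, hc])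
  have h3 := E.mul_conj_central hη h1 h2
  have := Fintype.ofFinite S
  have h4 : ip ((a * conj b) • (χ ∘ i)) η = ip (χ ∘ i) η := ip_congr (Equiv.mulLeft z) fun s => by
    simp only [Equiv.coe_mulLeft, Function.comp, Pi.smul_apply, smul_eq_mul, map_mul, ha, hb]
    ring
  rw [ip_eq, classInner_smul_left, ← ip_eq] at h4
  have h5 := mul_right_cancel₀ h (h4.trans (one_mul _).symm)
  rw [h2, show b = a by linear_combination a * h3 - b * h5]

/-- the scalar products with characters are integers -/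
def ZL (f : V → ℂ) : Prop := ∀ χ, IsCharacter V χ → ∃ n : ℤ, ip χ f = n

theorem ZL.one_le {f : V → ℂ} (hf : ZL f) {χ : V → ℂ} (hχ : IsCharacter V χ) (h : ip χ f ≠ 0) :
    1 ≤ Complex.normSq (ip χ f) := by
  obtain ⟨n, hn⟩ := hf χ hχ
  rw [hn, Int.cast_ne_zero] at h
  rw [hn, Complex.normSq_intCast]
  exact_mod_cast Int.add_one_le_of_lt (mul_self_pos.2 h)

end ip

theorem exists_act {P G S : Type} [Group P] [Group G] [Group S] (ρ : P →* MulAut G) {i : S →* G}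
    (hi : Function.Injective i) (h : ∀ p s, ρ p (i s) ∈ i.range) :
    ∃ σ : P →* MulAut S, ∀ p s, i (σ p s) = ρ p (i s) := by
  choose g hg using h
  exact ⟨MonoidHom.mk' (fun p =>
    { toFun := g p
      invFun := g p⁻¹
      left_inv := fun s => hi (by rw [hg, hg, map_inv, MulAut.inv_apply_self])
      right_inv := fun s => hi (by rw [hg, hg, map_inv, MulAut.apply_inv_self])
      map_mul' := fun a b => hi (by rw [map_mul, hg, hg, hg, map_mul, map_mul]) })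
    fun p q => MulEquiv.ext fun s => hi ((hg _ s).trans (by rw [map_mul]; exact ((hg p _).trans (congrArg _ (hg q s))).symm)),
    hg⟩

/-- the diagonal action -/
def prodA {P G G' : Type} [Group P] [Group G] [Group G'] (ρ : P →* MulAut G) (σ : P →* MulAut G') :
    P →* MulAut (G × G') :=
  MonoidHom.mk' (fun p => MulEquiv.prodCongr (ρ p) (σ p)) fun p q => by
    rw [map_mul, map_mul]
    rfl

theorem count {A B : Type} [Finite A] [Finite B] (w : A → ℝ) (w' : B → ℝ) (P : A → B → Prop) (h0 : ∀ a, 0 ≤ w a)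
    (h0' : ∀ b, w' b ≠ 0 → w' b = 1 ∧ ∃ a, P a b) (un : ∀ a b b', P a b → P a b' → b = b')
    (h1 : ∀ a b, P a b → 1 ≤ w a ∧ w' b ≠ 0) (hs : ∑ᶠ a, w a = ∑ᶠ b, w' b) :
    (∀ a, w a ≠ 0 → w a = 1 ∧ ∃ b, P a b) ∧ ∀ a a' b, P a b → P a' b → a = a' := by
  classical
  have := Fintype.ofFinite A
  have := Fintype.ofFinite B
  rw [finsum_eq_sum_of_fintype, finsum_eq_sum_of_fintype] at hs
  choose c hc using fun b : {b // w' b ≠ 0} => (h0' b.1 b.2).2
  have h2 : Function.Injective c := fun b b' e => Subtype.ext (un _ _ _ (hc b) (e ▸ hc b'))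
  have h3 : ∑ a, (w a - if a ∈ Finset.univ.image c then 1 else 0) = 0 := by
    rw [Finset.sum_sub_distrib, hs, Finset.sum_ite_mem, Finset.univ_inter, Finset.sum_image fun _ _ _ _ e => h2 e,
      ← Finset.sum_filter_ne_zero, Finset.sum_subtype (p := fun b => w' b ≠ 0) _ (by simp), sub_eq_zero]
    exact Finset.sum_congr rfl fun b _ => (h0' b.1 b.2).1
  have h4 : ∀ a, w a ≠ 0 → w a = 1 ∧ ∃ b, c b = a := fun a ha => by
    have h5 := (Finset.sum_eq_zero_iff_of_nonneg fun a _ => ?_).1 h3 a (Finset.mem_univ a)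
    · split_ifs at h5 with h6
      · exact ⟨sub_eq_zero.1 h5, by simpa using h6⟩
      · exact absurd (sub_eq_zero.1 h5) ha
    · split_ifs with h6
      · obtain ⟨b, -, rfl⟩ := Finset.mem_image.1 h6
        exact sub_nonneg.2 (h1 _ _ (hc b)).1
      · exact sub_nonneg.2 (h0 a)
  refine ⟨fun a ha => ?_, fun a a' b h h' => ?_⟩
  · obtain ⟨h5, b, rfl⟩ := h4 a ha
    exact ⟨h5, b, hc b⟩
  · obtain ⟨-, b1, rfl⟩ := h4 a (one_pos.trans_le (h1 _ _ h).1).ne'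
    obtain ⟨-, b2, rfl⟩ := h4 a' (one_pos.trans_le (h1 _ _ h').1).ne'
    exact congrArg c (Subtype.ext ((un _ _ _ (hc b1) h).trans (un _ _ _ h' (hc b2))))

theorem exists_sep {H : Type} [Group H] [Finite H] (L : Subgroup H) (hL : ∀ a b : H, (a * b)⁻¹ * (b * a) ∈ L) {g : H}
    (hg : g ∉ L) : ∃ β : H →* ℂˣ, (∀ l ∈ L, β l = 1) ∧ β g ≠ 1 := by
  have : L.Normal := ⟨fun l hl a => by
    have h2 := mul_mem hl (hL a⁻¹ l⁻¹)
    rwa [show l * ((a⁻¹ * l⁻¹)⁻¹ * (l⁻¹ * a⁻¹)) = l * (l * (a * l⁻¹ * a⁻¹)) by group, mul_mem_cancel_left hl,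
      mul_mem_cancel_left hl, ← inv_mem_iff, show (a * l⁻¹ * a⁻¹)⁻¹ = a * l * a⁻¹ by group] at h2⟩
  let : CommGroup (H ⧸ L) := { (inferInstance : Group (H ⧸ L)) with
    mul_comm := fun a b => QuotientGroup.induction_on a fun a => QuotientGroup.induction_on b fun b =>
      QuotientGroup.eq.2 (hL a b) }
  have : NeZero ((Monoid.exponent (H ⧸ L) : ℕ) : ℂ) := ⟨Nat.cast_ne_zero.2 Monoid.exponent_ne_zero_of_finite⟩
  obtain ⟨β, hβ⟩ := CommGroup.exists_apply_ne_one_of_hasEnoughRootsOfUnity (H ⧸ L) ℂ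
    (a := (g : H ⧸ L)) fun e => hg ((QuotientGroup.eq_one_iff g).1 e)
  exact ⟨β.comp (QuotientGroup.mk' L), fun l hl => by
    rw [MonoidHom.comp_apply, QuotientGroup.mk'_apply, (QuotientGroup.eq_one_iff l).2 hl, map_one], hβ⟩

/-- an abelian quotient of odd order -/
structure Ab {S H : Type} [Group S] [Group H] (ι : S →* H) : Prop where
  inj : Function.Injective ι
  nrm : ι.range.Normal
  ab : ∀ a b : H, (a * b)⁻¹ * (b * a) ∈ ι.range
  odd : Odd ι.range.index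

namespace Ab

variable {H S V : Type} [Group H] [Group S] [Group V] {ι : S →* H} (h : Ab ι) {χ χ' : H → ℂ} {θ η : S → ℂ}
include h

theorem act : ∃ κ : H →* MulAut S, ∀ g s, ι (κ g s) = g * ι s * g⁻¹ :=
  exists_act MulAut.conj h.inj fun g s => h.nrm.conj_mem _ ⟨s, rfl⟩ g

/-- the stabiliser -/
def Stb (θ : S → ℂ) : Subgroup H where
  carrier := {g | ∀ s s', ι s' = g * ι s * g⁻¹ → θ s' = θ s}
  one_mem' s s' e := congrArg θ (h.inj (by simpa using e))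
  mul_mem' := fun {a b} ha hb s s' e => by
    obtain ⟨t, ht⟩ := h.nrm.conj_mem _ ⟨s, rfl⟩ b
    exact (ha t s' (by rw [e, ht]; group)).trans (hb s t ht)
  inv_mem' := fun {a} ha s s' e => (ha s' s (by rw [e]; group)).symm

theorem mem_Stb {g : H} {α : S → S} (hα : ∀ s, ι (α s) = g * ι s * g⁻¹) : g ∈ h.Stb θ ↔ ∀ s, θ (α s) = θ s :=
  ⟨fun h1 s => h1 s _ (hα s), fun h1 s s' e => by rw [h.inj (e.trans (hα s).symm), h1]⟩

theorem le_Stb (hθ : IsIrrCharacter S θ) (s : S) : ι s ∈ h.Stb θ :=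
  (h.mem_Stb (α := fun x => s * x * s⁻¹) (by simp)).2 fun x => isIrr_isClassFunction hθ x s

variable [Finite H] [Finite S] [Finite V]

theorem down (hχ : OI H χ) (hθ : IsIrrCharacter S θ) (h1 : ip (χ ∘ ι) θ ≠ 0) : OI S θ :=
  ⟨hθ, hχ.2.of_dvd_nat (H672.charDegree_dvd_of_over_hom ι h.inj h.nrm hχ.1 hθ h1).1⟩

theorem up (hθ : OI S θ) : ∃ χ, OI H χ ∧ ip (χ ∘ ι) θ ≠ 0 := by
  obtain ⟨χ, h1, h2⟩ := exists_ov h.inj hθ.1
  obtain ⟨h3, h4⟩ := H672.charDegree_dvd_of_over_hom ι h.inj h.nrm h1 hθ.1 h2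
  exact ⟨χ, ⟨h1, Nat.div_mul_cancel h3 ▸ (h.odd.of_dvd_nat h4).mul hθ.2⟩, h2⟩

theorem cj (hχ : IsIrrCharacter H χ) (hθ : IsIrrCharacter S θ) (hη : IsIrrCharacter S η) (h1 : ip (χ ∘ ι) θ ≠ 0)
    (h2 : ip (χ ∘ ι) η ≠ 0) : ∃ k : H, ∀ s s', ι s' = k * ι s * k⁻¹ → η s = θ s' :=
  letI := Fintype.ofFinite S
  letI := Fintype.ofFinite H
  haveI := h.nrm
  GAL.C2.exists_cj h.inj hχ hθ hη h1 h2

theorem tw (hχ : IsIrrCharacter H χ) (hχ' : IsIrrCharacter H χ') (hθ : IsIrrCharacter S θ) (h1 : ip (χ ∘ ι) θ ≠ 0)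
    (h2 : ip (χ' ∘ ι) θ ≠ 0) : ∃ β : H →* ℂˣ, (∀ s, β (ι s) = 1) ∧ χ' = fun g => β g * χ g :=
  letI := Fintype.ofFinite S
  letI := Fintype.ofFinite H
  haveI := h.nrm
  let ⟨β, h3, h4⟩ := GAL.C2.exists_tw h.inj h.ab hχ hχ' hθ h1 h2
  ⟨β, h3, funext h4⟩

omit h [Finite H] in
theorem ip_cj (hχ : IsIrrCharacter H χ) {g : H} {α : MulAut S} (hα : ∀ s, ι (α s) = g * ι s * g⁻¹) (θ : S → ℂ) :
    ip (χ ∘ ι) (fun s => θ (α s)) = ip (χ ∘ ι) θ :=
  ip_congr α.toEquiv fun s => congrArg (· * _) ((isIrr_isClassFunction hχ _ g).symm.trans (congrArg χ (hα s).symm))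

theorem mult_one (hχ : IsIrrCharacter H χ) (j : V →* S) {f : V → ℂ} (hf : ZL f)
    (h1 : Complex.normSq (ip ((χ ∘ ι) ∘ j) f) = 1) (hθ : IsIrrCharacter S θ) (h2 : ip (χ ∘ ι) θ ≠ 0) :
    ip (χ ∘ ι) θ = 1 := by
  classical
  have := @Fintype.ofFinite _ (finite_irr (G := S))
  have hc := isCharacter_comp ι (isIrr_isCharacter hχ)
  obtain ⟨e, he⟩ := ip_nat hc (isIrr_isCharacter hθ)
  obtain ⟨κ, hκ⟩ := h.act
  choose n hn using fun η : IrrCharacter S => hf _ (isCharacter_comp j (isIrr_isCharacter η.2))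
  have h3 : ip ((χ ∘ ι) ∘ j) f = ((e * ∑ η : IrrCharacter S, if ip (χ ∘ ι) η = 0 then 0 else n η : ℤ) : ℂ) := by
    rw [ip_sum hc, Finset.mul_sum, Int.cast_sum]
    refine Finset.sum_congr rfl fun η _ => ?_
    split_ifs with h4
    · simp [h4]
    · obtain ⟨k, hk⟩ := h.cj hχ hθ η.2 h2 h4
      rw [hn, show (η : S → ℂ) = fun s => θ (κ k s) from funext fun s => hk _ _ (hκ k s), ip_cj hχ (hκ k), he]
      simp
  rw [h3, Complex.normSq_intCast] at h1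
  have h4 : (e : ℤ) ∣ 1 := by
    rw [← Int.cast_mul, Int.cast_eq_one] at h1
    exact h1 ▸ (dvd_mul_right _ _).mul_right _
  rw [he, Nat.dvd_one.1 (Int.natCast_dvd_natCast.1 h4), Nat.cast_one]

omit [Finite S] in
/-- the canonical extension is twisted like the character above -/
theorem hat {ξ : h.Stb θ → ℂ} (h1 : IsIrrCharacter _ ξ) (h2 : ∀ s (g : h.Stb θ), (g : H) = ι s → ξ g = θ s)
    (h3 : ip (χ ∘ (h.Stb θ).subtype) ξ ≠ 0)
    (h4 : ∀ ξ' : h.Stb θ → ℂ, IsIrrCharacter _ ξ' → (∀ s (g : h.Stb θ), (g : H) = ι s → ξ' g = θ s) →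
      ip (χ ∘ (h.Stb θ).subtype) ξ' ≠ 0 → ξ' = ξ)
    {φ : MulAut H} {α : MulAut S} (hα : ∀ s, ι (α s) = φ (ι s)) (hθ : ∀ s, θ (α s) = θ s) {β : H →* ℂˣ}
    (hβ : ∀ s, β (ι s) = 1) (hχ : ∀ g, χ (φ g) = β g * χ g) :
    (∀ g ∈ h.Stb θ, φ g ∈ h.Stb θ) ∧ ∀ g g' : h.Stb θ, (g' : H) = φ g → ξ g' = β g * ξ g := by
  have h5 : ∀ g ∈ h.Stb θ, φ g ∈ h.Stb θ := fun g hg s s' e => by
    obtain ⟨s, rfl⟩ := α.surjective s
    obtain ⟨s', rfl⟩ := α.surjective s'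
    rw [hθ, hθ]
    exact hg _ _ (φ.injective (by rw [← hα, e, hα, map_mul, map_mul, map_inv]))
  let ψ : h.Stb θ →* h.Stb θ := (φ.toMonoidHom.comp (h.Stb θ).subtype).codRestrict _ fun g => h5 g g.2
  have h6 : Function.Bijective ψ :=
    Finite.injective_iff_bijective.1 fun a b e => Subtype.ext (φ.injective (congrArg Subtype.val e))
  have h7 := h4 _ (isIrr_lin_mul (β.comp (h.Stb θ).subtype)⁻¹ (isIrr_comp' ψ h6.2 h1)) (fun s g e => by
    rw [h2 (α s) (ψ g) ((congrArg φ e).trans (hα s).symm), hθ]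
    simp [e, hβ]) (by
    rw [ip_congr (Equiv.ofBijective ψ h6) (φ := χ ∘ (h.Stb θ).subtype) (ψ := ξ) fun g => ?_]
    · exact h3
    · have h8 := lin_conj β⁻¹ g
      have h9 : ((β⁻¹ g : ℂˣ) : ℂ) * β g = 1 := by simp
      change χ g * conj ((β⁻¹ g : ℂˣ) * ξ (ψ g)) = χ (φ g) * conj (ξ (ψ g))
      rw [hχ, map_mul]
      linear_combination χ g * conj (ξ (ψ g)) * ((β g : ℂ) * h8 - conj ((β⁻¹ g : ℂˣ) : ℂ) * h9))
  refine ⟨h5, fun g g' e => ?_⟩
  rw [← congrFun h7 g, show g' = ψ g from Subtype.ext e]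
  simp

end Ab

section ext

variable {X : Type} [Group X] {Λ S : Subgroup (MulAut X)} {θ : X → ℂ} {ψ : In Λ → ℂ}

theorem extF_of {A : Type} [Group A] [Finite A] (j : X × In Λ →* A) {Ψ : A → ℂ} (hΨ : IsIrrCharacter A Ψ)
    (hj : ∀ x y, Ψ (j (x, y)) = θ x * conj (ψ y)) (r : A → MulAut X → Prop)
    (h1 : ∀ c c' α α', r c α → r c' α' → r (c * c') (α * α')) (h2 : ∀ c c' α, r c α → r c' α → Ψ (c * c'⁻¹) = Ψ 1)
    (h3 : ∀ c α, r c α → ∀ (x : X) (y y' : In Λ), (y' : X) = α y → c * j (x, y) = j (α x, y') * c)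
    (h4 : ∀ y : In Λ, r (j (y, y)) (MulAut.conj (y : X))) (h5 : ∀ α ∈ S, ∃ c, r c α) : ExtF Λ S θ ψ := by
  obtain ⟨A', _, p, Ξ, hΞ, hp, hk⟩ := E.exists_faith (isIrr_isCharacter hΨ)
  have key : ∀ c c' α, r c α → r c' α → p.rangeRestrict c = p.rangeRestrict c' := fun c c' α h h' =>
    Subtype.ext (mul_inv_eq_one.1 (by rw [← hk _ (h2 c c' α h h'), map_mul, map_inv]; rfl))
  choose s hs using h5
  exact ⟨p.range, inferInstance, Finite.of_surjective _ p.rangeRestrict_surjective, p.rangeRestrict.comp j,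
    MonoidHom.mk' (fun α => p.rangeRestrict (s α.1 α.2)) fun α β => by
      rw [← map_mul]
      exact key _ _ _ (hs _ _) (h1 _ _ _ _ (hs _ _) (hs _ _)),
    Ξ ∘ p.range.subtype, E.isIrr_of_comp p.rangeRestrict (isCharacter_comp _ hΞ) (funext hp ▸ hΨ :),
    fun x y => (hp _).trans (hj x y), fun α x y y' e => (map_mul p.rangeRestrict _ _).symm.trans
      ((congrArg _ (h3 _ _ (hs _ α.2) x y y' e)).trans (map_mul _ _ _)), fun y hy => key _ _ _ (hs _ _) (h4 y)⟩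

theorem ExtF.conj {T : Subgroup (MulAut X)} (h : ExtF Λ T θ ψ) (δ : Λ) (hS : ∀ α ∈ S, δ.1 * α * δ.1⁻¹ ∈ T) :
    ExtF Λ S (fun x => θ (δ.1 x)) fun y => ψ (rs Λ δ y) := by
  obtain ⟨A, _, _, j, t, Ψ, hΨ, hj, rel, inn⟩ := h
  let c : S →* T := MonoidHom.mk' (fun α => ⟨_, hS α.1 α.2⟩) fun α β => Subtype.ext (by simp [mul_assoc])
  refine ⟨A, inferInstance, inferInstance, j.comp (δ.1.toMonoidHom.prodMap (rs Λ δ).toMonoidHom), t.comp c, Ψ, hΨ,
    fun x y => hj _ _, fun α x y y' hy => ?_, fun y hy => ?_⟩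
  · have h1 := rel (c α) (δ.1 x) (rs Λ δ y) (rs Λ δ y') (by rw [rs_coe, rs_coe, hy]; simp [c])
    rw [show (c α).1 (δ.1 x) = δ.1 (α.1 x) by simp [c]] at h1
    exact h1
  · have h1 : MulAut.conj ((rs Λ δ y : In Λ) : X) = δ.1 * MulAut.conj (y : X) * δ.1⁻¹ := conj_map _ _
    have h2 : c ⟨_, hy⟩ = ⟨_, h1 ▸ hS _ hy⟩ := Subtype.ext h1.symm
    exact (congrArg t h2).trans (inn (rs Λ δ y) _)

end ext

end Cfsg.Agent.MK.Two
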