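import Cfsg.Agent.MK.Two.Sp1

/-!
# MK, characteristic two: the context of `SpBox` (helper58)

* `Cx ι B Φ R Λ κ j f` : what is used of a frame; `exists_cx`.
-/

set_option autoImplicit false
set_option maxHeartbeats 400000

namespace Cfsg.Agent.MK.Two

open Cfsg Subgroup Cfsg.Agent.Characters Cfsg.Agent.Characters.Core Cfsg.Agent.ODD.Red Cfsg.Agent.H40.OC
open scoped ComplexConjugate

/-- the context -/
structure Cx {X K V : Type} [Group X] [Group K] [Group V] [Finite X] [Finite K] [Finite V] (ι : X →* K) (B : Subgroup K)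
    (Φ : Subgroup (MulAut K)) (R : (K → ℂ) → (B → ℂ) → Prop) (Λ : Subgroup (MulAut X)) (κ : In Λ →* B)
    (j : V →* In Λ) (f : V → ℂ) : Prop where
  aX : Ab ι
  aM : Ab κ
  spl : ∀ k, ∃ x, ∃ b ∈ B, k = ι x * b
  isL : IsL ι B Φ Λ
  hκ : ∀ y, (κ y : K) = ι y
  mem : ∀ x, ι x ∈ B → x ∈ In Λ
  jinj : Function.Injective j
  zX : ∀ z ∈ center X, ι z ∈ center K
  cX : ∀ b ∈ B, (∀ x, b * ι x = ι x * b) → b ∈ center K
  φX : ∀ φ ∈ Φ, ∀ x, φ (ι x) ∈ ι.range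
  φB : ∀ φ ∈ Φ, ∀ b ∈ B, φ b ∈ B
  φV : ∃ σ : Φ →* MulAut V, ∀ φ v, ι (j (σ φ v)) = φ.1 (ι (j v)) ∧ f (σ φ v) = f v
  fa : ∀ φ ∈ Φ, ∀ b ∈ B, (∀ x, φ (ι x) = b * ι x * b⁻¹) → φ = 1
  lin : ∃ (n : Type) (_ : Fintype n) (c : n → ℤ) (l : n → (V →* ℂˣ)), ∀ v, f v = ∑ i, c i * (l i v : ℂ)
  nK : ∀ χ, OI K χ → Complex.normSq (ip ((χ ∘ ι) ∘ (In Λ).subtype.comp j) f) = 1
  nB : ∀ ψ, OI B ψ → Complex.normSq (ip ((ψ ∘ κ) ∘ j) f) = 1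
  ex : ∀ ψ, OI B ψ → ∃ χ, OI K χ ∧ R χ ψ
  un : ∀ χ ψ ψ', OI K χ → OI B ψ → OI B ψ' → R χ ψ → R χ ψ' → ψ = ψ'
  un' : ∀ χ χ' ψ, OI K χ → OI K χ' → OI B ψ → R χ ψ → R χ' ψ → χ = χ'
  aut : ∀ φ ∈ Φ, ∀ χ ψ ψ', OI K χ → OI B ψ → R χ ψ → (∀ b b' : B, (b' : K) = φ b → ψ' b = ψ b') →
    R (fun g => χ (φ g)) ψ'
  tw : ∀ β : K →* ℂˣ, (∀ x, β (ι x) = 1) → ∀ χ ψ, OI K χ → OI B ψ → R χ ψ →
    R (fun g => β g * χ g) fun b => β b * ψ b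
  cz : ∀ χ ψ, OI K χ → OI B ψ → R χ ψ → ∀ z : B, (z : K) ∈ center K → χ z * ψ 1 = ψ z * χ 1
  oB : ∀ ψ η, IsIrrCharacter B ψ → IsIrrCharacter (In Λ) η → ip (ψ ∘ κ) η ≠ 0 → ip (η ∘ j) f ≠ 0 → OI B ψ
  uM : ∀ ψ η η', OI B ψ → IsIrrCharacter (In Λ) η → IsIrrCharacter (In Λ) η' → ip (ψ ∘ κ) η ≠ 0 → ip (ψ ∘ κ) η' ≠ 0 →
    ip (η ∘ j) f ≠ 0 → ip (η' ∘ j) f ≠ 0 → η = η' ∧ Complex.normSq (ip (η ∘ j) f) = 1
  ti : ∑ᶠ θ : IrrCharacter X, Complex.normSq (ip ((θ : X → ℂ) ∘ (In Λ).subtype.comp j) f) =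
    ∑ᶠ η : IrrCharacter (In Λ), Complex.normSq (ip ((η : In Λ → ℂ) ∘ j) f)

theorem ip_lin {V n : Type} [Group V] [Finite V] [Fintype n] {c : n → ℤ} {l : n → (V →* ℂˣ)} {f : V → ℂ}
    (h : ∀ v, f v = ∑ i, c i * (l i v : ℂ)) (χ : V → ℂ) : ip χ f = ∑ i, c i * ip χ fun v => l i v := by
  have := Fintype.ofFinite V
  rw [show f = ∑ i, (c i : ℂ) • fun v => (l i v : ℂ) from funext fun v => by simp [h], ip_eq, classInner_sum_right]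
  simp [ip_eq, classInner_smul_right]

variable {X K I : Type} [Group X] [Group K] [Fintype I] {ι : X →* K} {U T B : Subgroup K} {D : I → Subgroup K}
  {Φ : Subgroup (MulAut K)} {R : (K → ℂ) → (B → ℂ) → Prop} {Λ : Subgroup (MulAut X)} {lam : I → (U →* ℂˣ)}

theorem fl_eq (lam : I → (U →* ℂˣ)) (u : U) :
    fl lam u = ∑ J : Finset I, (((-1) ^ J.card : ℤ) : ℂ) * (psi lam J u : ℂ) := by
  simp [fl, prod_one_sub', psi_apply]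

theorem fl_ne (hl : Lam U D lam) {u : U} (h : fl lam u ≠ 0) (i : I) : (u : K) ∉ D i := fun hi =>
  h (Finset.prod_eq_zero (Finset.mem_univ i) (by simp [hl.one i u hi]))

omit [Fintype I] in
theorem Fr.ab [Finite K] (F : Fr ι U T B D Φ R) : Ab ι := by
  have := F.nrm
  have h1 : ∀ k : K, ∃ t : T, (k : K ⧸ ι.range) = (t : K) := fun k => by
    obtain ⟨x, t, ht, rfl⟩ := F.spl k
    exact ⟨⟨t, ht⟩, by rw [QuotientGroup.mk_mul, (QuotientGroup.eq_one_iff (N := ι.range) _).2 ⟨x, rfl⟩, one_mul]⟩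
  refine ⟨F.inj, F.nrm, fun a b => QuotientGroup.eq.1 ?_, F.bo.odd.of_dvd_nat
    (card_dvd_of_surjective ((QuotientGroup.mk' ι.range).comp T.subtype) fun q => ?_)⟩
  · obtain ⟨s, hs⟩ := h1 a
    obtain ⟨t, ht⟩ := h1 b
    rw [QuotientGroup.mk_mul, QuotientGroup.mk_mul, hs, ht, ← QuotientGroup.mk_mul, F.bo.comm _ s.2 _ t.2,
      QuotientGroup.mk_mul]
  · obtain ⟨k, rfl⟩ := QuotientGroup.mk_surjective q
    exact (h1 k).imp fun t ht => ht.symm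

variable [Finite K]

theorem Fr.mem_In (F : Fr ι U T B D Φ R) (hΛ : IsL ι B Φ Λ) (x : X) : x ∈ In Λ ↔ ι x ∈ B := by
  refine ⟨fun h => ?_, fun h => (hΛ _).2 ⟨ι x, h, 1, one_mem _, fun y => by simp⟩⟩
  obtain ⟨b, hb, φ, hφ, h1⟩ := (hΛ _).1 h
  have := Fintype.ofFinite U
  obtain ⟨u, hu⟩ := Finset.card_ne_zero.1 F.bo.sys.reg_nonempty
  obtain ⟨y, hy⟩ := F.uX u.2
  have h2 := F.ti u u.2 (Sys.mem_Reg.1 hu) ((ι x)⁻¹ * b) (by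
    have h3 := h1 y
    rw [MulAut.conj_apply, map_mul, map_mul, map_inv, hy] at h3
    rw [show ((ι x)⁻¹ * b)⁻¹ * u * ((ι x)⁻¹ * b) = b⁻¹ * (ι x * u * (ι x)⁻¹) * b by group, h3]
    simpa [mul_assoc] using F.φU φ hφ u u.2)
  rwa [mul_mem_cancel_right hb, inv_mem_iff] at h2

theorem exists_cx [Finite X] (hB : BorBox) (hT : TiBox) (F : Fr ι U T B D Φ R) (hΛ : IsL ι B Φ Λ) (hl : Lam U D lam)
    (hf : ∀ φ ∈ Φ, ∀ u u' : U, (u' : K) = φ u → fl lam u' = fl lam u) : ∃ κ j, Cx ι B Φ R Λ κ j (fl lam) := by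
  classical
  have hm := F.mem_In hΛ
  have ha := F.ab
  let κ : In Λ →* B := (ι.comp (In Λ).subtype).codRestrict B fun y => (hm _).1 y.2
  have hκ : κ.range = ι.range.subgroupOf B := by
    ext b
    exact ⟨fun ⟨y, e⟩ => ⟨y, congrArg Subtype.val e⟩, fun ⟨x, e⟩ => ⟨⟨x, (hm x).2 (e ▸ b.2)⟩, Subtype.ext e⟩⟩
  choose j0 hj0 using fun u : U => F.uX u.2
  let j : U →* In Λ := MonoidHom.mk' (fun u => ⟨j0 u, (hm _).2 (hj0 u ▸ F.bo.uB u.2)⟩) fun a b =>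
    Subtype.ext (F.inj (by simp [hj0]))
  have hj : ∀ u, ι (j u) = u := hj0
  have e1 : ∀ χ : K → ℂ, (χ ∘ ι) ∘ (In Λ).subtype.comp j = fun u : U => χ u := fun χ =>
    funext fun u => congrArg χ (hj u)
  have e2 : ∀ ψ : B → ℂ, (ψ ∘ κ) ∘ j = ψ ∘ inclusion F.bo.uB := fun ψ =>
    funext fun u => congrArg ψ (Subtype.ext (hj u))
  obtain ⟨b1, b2, -⟩ := (hB F.bo).2.2 lam hl
  have hc : ∀ J, IsCharacter U fun u => (psi lam J u : ℂ) := fun J => Linear.isCharacter_hom _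
  have nK : ∀ χ, OI K χ → Complex.normSq (ip (fun u : U => χ u) (fl lam)) = 1 := fun χ h => by
    have := Fintype.ofFinite U
    have := Fintype.ofFinite T
    rw [← F.mr χ h, mr_eq F.bo.sys hl fun t _ u _ => by simpa using isIrr_isClassFunction h.1 u t⁻¹, ip_lin (fl_eq lam)]
    simp [ip_eq]
  have one : ∀ (χ : U → ℂ) (J : Finset I), (∀ J', J' ≠ J → ip χ (fun u => psi lam J' u) = 0) →
      ip χ (fl lam) = (-1) ^ J.card * ip χ fun u => psi lam J u := fun χ J h => by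
    rw [ip_lin (fl_eq lam), Finset.sum_eq_single J (fun J' _ e => by rw [h J' e, mul_zero]) (by simp)]
    simp
  have b3 : ∀ ψ, OI B ψ → ∃ J, ip (ψ ∘ inclusion F.bo.uB) (fun u => psi lam J u) = 1 ∧
      ∀ J', J' ≠ J → ip (ψ ∘ inclusion F.bo.uB) (fun u => psi lam J' u) = 0 := fun ψ h =>
    ⟨(Js U B D ψ).toFinite.toFinset, (b1 ψ h _).1 (by simp), fun J' e => (b1 ψ h _).2 fun e' => e (Finset.coe_injective (by simpa using e'))⟩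
  have nB : ∀ ψ, OI B ψ → Complex.normSq (ip (ψ ∘ inclusion F.bo.uB) (fl lam)) = 1 := fun ψ h => by
    obtain ⟨J, h1, h2⟩ := b3 ψ h
    simp [one _ J h2, h1]
  have b4 : ∀ χ : U → ℂ, ip χ (fl lam) ≠ 0 → ∃ J, ip χ (fun u => psi lam J u) ≠ 0 := fun χ h => by
    rw [ip_lin (fl_eq lam)] at h
    exact (Finset.exists_ne_zero_of_sum_ne_zero h).imp fun J h1 => right_ne_zero_of_mul h1.2
  have := finite_irr (G := K)
  have := finite_irr (G := B)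
  obtain ⟨-, c2⟩ := count (fun χ : IrrCharacter K => Complex.normSq (ip (fun u : U => χ.1 u) (fl lam)))
    (fun ψ : IrrCharacter B => Complex.normSq (ip (ψ.1 ∘ inclusion F.bo.uB) (fl lam)))
    (fun χ ψ => OI K χ.1 ∧ OI B ψ.1 ∧ R χ.1 ψ.1) (fun _ => Complex.normSq_nonneg _) (fun ψ h => by
      obtain ⟨J, h1⟩ := b4 _ fun e => h (by rw [e, map_zero])
      obtain ⟨χ, h2, h3⟩ := F.ex _ (b2 _ ψ.2 _ h1)
      exact ⟨nB _ (b2 _ ψ.2 _ h1), ⟨χ, h2.1⟩, h2, b2 _ ψ.2 _ h1, h3⟩)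
    (fun χ ψ ψ' h h' => Subtype.ext (F.un _ _ _ h.1 h.2.1 h'.2.1 h.2.2 h'.2.2))
    (fun χ ψ h => ⟨(nK _ h.1).ge, by rw [nB _ h.2.1]; exact one_ne_zero⟩)
    (hT B (inclusion F.bo.uB) (fl lam) fun v hv g v' e => F.ti v v.2 (fl_ne hl hv) g (e.symm ▸ v'.2 :))
  obtain ⟨σ, hσ⟩ := exists_act Φ.subtype U.subtype_injective fun φ u => ⟨⟨_, F.φU φ.1 φ.2 u u.2⟩, rfl⟩
  refine ⟨κ, j, ha, ⟨fun a b e => Subtype.ext (F.inj (congrArg Subtype.val e)), hκ ▸ F.nrm.subgroupOf B,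
    fun a b => hκ ▸ ha.ab a b, hκ ▸ ha.odd.of_dvd_nat (haveI := F.nrm; relIndex_dvd_index_of_normal _ B)⟩,
    fun k => (F.spl k).imp fun x ⟨t, ht, e⟩ => ⟨t, F.bo.tB ht, e⟩, hΛ, fun _ => rfl, fun x => (hm x).2,
    fun a b e => Subtype.ext (by rw [← hj, ← hj, e]), F.zX, F.cX, F.φX, fun φ hφ b hb => ?_,
    ⟨σ, fun φ v => ⟨by rw [hj, hj]; exact hσ φ v, hf φ.1 φ.2 _ _ (hσ φ v)⟩⟩, F.fa, ⟨_, _, _, _, fl_eq lam⟩,
    fun χ h => e1 χ ▸ nK χ h, fun ψ h => e2 ψ ▸ nB ψ h, F.ex, F.un,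
    fun χ χ' ψ h1 h2 h3 h4 h5 => congrArg Subtype.val (c2 ⟨χ, h1.1⟩ ⟨χ', h2.1⟩ ⟨ψ, h3.1⟩ ⟨h1, h3, h4⟩ ⟨h2, h3, h5⟩),
    F.aut, F.tw, F.cz, fun ψ η h1 h2 h3 h4 => ?_, fun ψ η η' h1 h2 h3 h4 h5 h6 h7 => ?_,
    hT (In Λ) j (fl lam) fun v hv g v' e => (hm g).2 (F.ti v v.2 (fl_ne hl hv) _ ?_)⟩
  · obtain ⟨u, hu, t, ht, rfl⟩ := (F.bo.mem b).1 hb
    exact map_mul φ u t ▸ mul_mem (F.bo.uB (F.φU φ hφ u hu)) (F.bo.tB (F.φT φ hφ t ht))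
  · obtain ⟨J, h5⟩ := b4 _ h4
    exact b2 ψ h1 _ fun e => h5 (ip_zero_of j (isCharacter_comp κ (isIrr_isCharacter h1)) h2 (hc J) h3 (e2 ψ ▸ e))
  · obtain ⟨J, h8, h9⟩ := b3 ψ h1
    have h10 := isCharacter_comp κ (isIrr_isCharacter h1.1)
    rw [← e2] at h8 h9
    rw [one _ J fun J' e => ip_zero_of j h10 h3 (hc J') h5 (h9 J' e)] at h7
    rw [one _ J fun J' e => ip_zero_of j h10 h2 (hc J') h4 (h9 J' e)] at h6 ⊢
    obtain ⟨h11, h12⟩ := ip_one_unique j h10 h2 h3 (hc J) h8 h4 h5 (right_ne_zero_of_mul h6) (right_ne_zero_of_mul h7)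
    exact ⟨h11, by simp [h12]⟩
  · rw [← hj v, ← map_inv, ← map_mul, ← map_mul, e, hj]
    exact v'.2

end Cfsg.Agent.MK.Two
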