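import Cfsg.Agent.MK.Two.Sp2

/-!
# MK, characteristic two: standard pairs (helper58)

* `Cx.Wt χ ψ θ η`, `Cx.Pr θ η` : the standard characters `θ` of `X` and `η` of `In Λ` lie under related characters;
* `pr_ex`, `pr_ex'`, `pr_un`, `pr_un'` : `Pr` is a bijection; `Wt.aut`, `Wt.stab`, `key`.
-/

set_option autoImplicit false
set_option maxHeartbeats 400000

namespace Cfsg.Agent.MK.Two

open Cfsg Subgroup Cfsg.Agent.Characters Cfsg.Agent.Characters.Core Cfsg.Agent.ODD.Red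
open scoped ComplexConjugate

theorem oi_tw {H : Type} [Group H] (β : H →* ℂˣ) {χ : H → ℂ} (h : OI H χ) : OI H fun g => β g * χ g :=
  ⟨isIrr_lin_mul β h.1, by rw [charDegree_congr (ψ := χ) (by simp)]; exact h.2⟩

theorem oi_aut {H : Type} [Group H] [Finite H] (α : MulAut H) {χ : H → ℂ} (h : OI H χ) : OI H fun g => χ (α g) :=
  h.comp α.toMonoidHom α.surjective

theorem comp_inj {H : Type} [Group H] (α : MulAut H) {χ ψ : H → ℂ} :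
    ((fun g => χ (α g)) = fun g => ψ (α g)) ↔ χ = ψ :=
  ⟨fun h => funext fun g => by simpa using congrFun h (α⁻¹ g), fun h => h ▸ rfl⟩

namespace Cx

variable {X K V : Type} [Group X] [Group K] [Group V] [Finite X] [Finite K] [Finite V] {ι : X →* K} {B : Subgroup K}
  {Φ : Subgroup (MulAut K)} {R : (K → ℂ) → (B → ℂ) → Prop} {Λ : Subgroup (MulAut X)} {κ : In Λ →* B}
  {j : V →* In Λ} {f : V → ℂ} (C : Cx ι B Φ R Λ κ j f) {χ χ' : K → ℂ} {ψ ψ' : B → ℂ} {θ θ' : X → ℂ}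
  {η η' : In Λ → ℂ}

/-- a standard pair with the characters above -/
structure Wt (C : Cx ι B Φ R Λ κ j f) (χ : K → ℂ) (ψ : B → ℂ) (θ : X → ℂ) (η : In Λ → ℂ) : Prop where
  oχ : OI K χ
  oψ : OI B ψ
  r : R χ ψ
  iθ : IsIrrCharacter X θ
  iη : IsIrrCharacter (In Λ) η
  aθ : ip (θ ∘ (In Λ).subtype.comp j) f ≠ 0
  aη : ip (η ∘ j) f ≠ 0
  uθ : ip (χ ∘ ι) θ ≠ 0
  uη : ip (ψ ∘ κ) η ≠ 0

/-- a standard pair -/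
def Pr (θ : X → ℂ) (η : In Λ → ℂ) : Prop := ∃ χ ψ, C.Wt χ ψ θ η

include C

theorem zl : ZL f := fun χ hχ => by
  obtain ⟨n, _, c, l, h⟩ := C.lin
  choose m hm using fun i => ip_nat hχ (Linear.isCharacter_hom (l i))
  exact ⟨∑ i, c i * m i, by simp [ip_lin h, hm]⟩

theorem exists_b (b : B) : ∃ δ : Λ, (∀ x, ι (δ.1 x) = b * ι x * (b : K)⁻¹) ∧ ∀ y, κ (rs Λ δ y) = b * κ y * b⁻¹ := by
  obtain ⟨a, ha⟩ := C.aX.act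
  exact ⟨⟨a b, (C.isL _).2 ⟨b, b.2, 1, one_mem _, ha b⟩⟩, ha b, fun y => Subtype.ext (by simp [C.hκ, rs_coe, ha])⟩

theorem exists_ρ : ∃ ρ : Φ →* Λ, ∀ φ x, ι ((ρ φ).1 x) = φ.1 (ι x) := by
  obtain ⟨a, ha⟩ := exists_act Φ.subtype C.aX.inj fun φ => C.φX φ.1 φ.2
  exact ⟨a.codRestrict Λ fun φ => (C.isL _).2 ⟨1, one_mem _, φ, φ.2, by simpa using ha φ⟩, ha⟩

theorem exists_τ : ∃ τ : Φ →* MulAut B, ∀ φ b, (τ φ b : K) = φ.1 b :=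
  exists_act Φ.subtype B.subtype_injective fun φ b => ⟨⟨_, C.φB φ.1 φ.2 b b.2⟩, rfl⟩

theorem split {ρ : Φ →* Λ} (hρ : ∀ φ x, ι ((ρ φ).1 x) = φ.1 (ι x)) (γ : Λ) : ∃ (b : B) (φ : Φ) (δ : Λ),
    γ = δ * ρ φ ∧ (∀ x, ι (δ.1 x) = b * ι x * (b : K)⁻¹) ∧ ∀ y, κ (rs Λ δ y) = b * κ y * b⁻¹ := by
  obtain ⟨b, hb, φ, hφ, h⟩ := (C.isL _).1 γ.2
  obtain ⟨δ, h1, h2⟩ := C.exists_b ⟨b, hb⟩
  exact ⟨⟨b, hb⟩, ⟨φ, hφ⟩, δ, Subtype.ext (MulEquiv.ext fun x => C.aX.inj ((h x).trans ((h1 _).trans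
    (congrArg (b * · * b⁻¹) (hρ ⟨φ, hφ⟩ x))).symm)),
    h1, h2⟩

theorem exists_std (hχ : OI K χ) :
    ∃ θ, IsIrrCharacter X θ ∧ ip (χ ∘ ι) θ ≠ 0 ∧ ip (θ ∘ (In Λ).subtype.comp j) f ≠ 0 :=
  exists_und _ (isCharacter_comp ι (isIrr_isCharacter hχ.1)) fun e => zero_ne_one (map_zero Complex.normSq ▸ e ▸ C.nK χ hχ :)

theorem pr_ex (h1 : IsIrrCharacter (In Λ) η) (h2 : ip (η ∘ j) f ≠ 0) : ∃ θ, C.Pr θ η := by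
  obtain ⟨ψ, h3, h4⟩ := exists_ov C.aM.inj h1
  have h5 := C.oB ψ η h3 h1 h4 h2
  obtain ⟨χ, h6, h7⟩ := C.ex ψ h5
  obtain ⟨θ, h8, h9, h10⟩ := C.exists_std h6
  exact ⟨θ, χ, ψ, h6, h5, h7, h8, h1, h10, h2, h9, h4⟩

variable {C}

theorem Wt.link (w : C.Wt χ ψ θ η) (h1 : OI K χ') (h2 : OI B ψ') (h3 : R χ' ψ') {β : K →* ℂˣ} (hβ : ∀ x, β (ι x) = 1)
    (e : χ' = fun g => β g * χ g) : ψ' = fun b : B => β b * ψ b :=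
  C.un χ' _ _ h1 h2 (oi_tw (β.comp B.subtype) w.oψ) h3 (e ▸ C.tw β hβ χ ψ w.oχ w.oψ w.r)

theorem pr_un (h : C.Pr θ η) (h' : C.Pr θ η') : η = η' := by
  obtain ⟨χ, ψ, w⟩ := h
  obtain ⟨χ', ψ', w'⟩ := h'
  obtain ⟨β, h1, h2⟩ := C.aX.tw w.oχ.1 w'.oχ.1 w.iθ w.uθ w'.uθ
  have h3 : ψ ∘ κ = ψ' ∘ κ := funext fun y => by simp [w.link w'.oχ w'.oψ w'.r h1 h2, C.hκ, h1]
  exact (C.uM ψ η η' w.oψ w.iη w'.iη w.uη (h3 ▸ w'.uη) w.aη w'.aη).1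

theorem pr_cnt : (∀ θ, IsIrrCharacter X θ → ip (θ ∘ (In Λ).subtype.comp j) f ≠ 0 →
    Complex.normSq (ip (θ ∘ (In Λ).subtype.comp j) f) = 1 ∧ ∃ η, C.Pr θ η) ∧ ∀ θ θ' η, C.Pr θ η → C.Pr θ' η → θ = θ' := by
  have := finite_irr (G := X)
  have := finite_irr (G := In Λ)
  obtain ⟨c1, c2⟩ := count _ _ (fun (θ : IrrCharacter X) (η : IrrCharacter (In Λ)) => C.Pr θ η)
    (fun _ => Complex.normSq_nonneg _) (fun η h => by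
      obtain ⟨θ, χ, ψ, w⟩ := C.pr_ex η.2 fun e => h (by rw [e, map_zero])
      exact ⟨(C.uM ψ η η w.oψ w.iη w.iη w.uη w.uη w.aη w.aη).2, ⟨θ, w.iθ⟩, χ, ψ, w⟩)
    (fun _ _ _ h h' => Subtype.ext (pr_un h h'))
    (fun _ _ ⟨_, _, w⟩ => ⟨C.zl.one_le (isCharacter_comp _ (isIrr_isCharacter w.iθ)) w.aθ,
      fun e => w.aη (Complex.normSq_eq_zero.1 e)⟩) C.ti
  exact ⟨fun θ h1 h2 => let ⟨h3, η, h⟩ := c1 ⟨θ, h1⟩ fun e => h2 (Complex.normSq_eq_zero.1 e); ⟨h3, η, h⟩,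
    fun θ θ' η ⟨χ, ψ, w⟩ ⟨χ', ψ', w'⟩ =>
      congrArg Subtype.val (c2 ⟨θ, w.iθ⟩ ⟨θ', w'.iθ⟩ ⟨η, w.iη⟩ ⟨χ, ψ, w⟩ ⟨χ', ψ', w'⟩)⟩

theorem pr_un' (h : C.Pr θ η) (h' : C.Pr θ' η) : θ = θ' := pr_cnt.2 _ _ _ h h'

theorem Wt.aut (w : C.Wt χ ψ θ η) {φ : Φ} {α : Λ} (hα : ∀ x, ι (α.1 x) = φ.1 (ι x)) {τ : MulAut B}
    (hτ : ∀ b, (τ b : K) = φ.1 b) :
    C.Wt (fun g => χ (φ.1 g)) (fun b => ψ (τ b)) (fun x => θ (α.1 x)) fun y => η (rs Λ α y) := by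
  obtain ⟨σ, hσ⟩ := C.φV
  have h1 : ∀ v, rs Λ α (j v) = j (σ φ v) := fun v => Subtype.ext (C.aX.inj ((hα _).trans (hσ φ v).1.symm))
  refine ⟨oi_aut _ w.oχ, oi_aut _ w.oψ, C.aut φ.1 φ.2 χ ψ _ w.oχ w.oψ w.r fun b b' e =>
    congrArg ψ (Subtype.ext ((hτ b).trans e.symm)), isIrr_comp' α.1.toMonoidHom α.1.surjective w.iθ,
    isIrr_comp' (rs Λ α).toMonoidHom (rs Λ α).surjective w.iη, fun e => w.aθ ?_, fun e => w.aη ?_, fun e => w.uθ ?_,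
    fun e => w.uη ?_⟩ <;> rw [← e]
  · exact (ip_congr (σ φ).toEquiv fun v =>
      congrArg₂ (fun a b => θ a * conj b) (congrArg Subtype.val (h1 v)) (hσ φ v).2.symm).symm
  · exact (ip_congr (σ φ).toEquiv fun v => congrArg₂ (fun a b => η a * conj b) (h1 v) (hσ φ v).2.symm).symm
  · exact (ip_congr α.1.toEquiv fun x => congrArg (fun a => χ a * _) (hα x).symm).symm
  · exact (ip_congr (rs Λ α).toEquiv fun y => congrArg (fun a => ψ a * _)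
      (Subtype.ext (by rw [hτ, C.hκ, C.hκ, ← hα]; rfl))).symm

theorem Pr.aut (h : C.Pr θ η) {φ : Φ} {α : Λ} (hα : ∀ x, ι (α.1 x) = φ.1 (ι x)) :
    C.Pr (fun x => θ (α.1 x)) fun y => η (rs Λ α y) :=
  let ⟨_, _, w⟩ := h
  let ⟨_, hτ⟩ := C.exists_τ
  ⟨_, _, w.aut hα (hτ φ)⟩

theorem Wt.mθ (w : C.Wt χ ψ θ η) : ip (χ ∘ ι) θ = 1 := C.aX.mult_one w.oχ.1 _ C.zl (C.nK χ w.oχ) w.iθ w.uθ

theorem Wt.mη (w : C.Wt χ ψ θ η) : ip (ψ ∘ κ) η = 1 := C.aM.mult_one w.oψ.1 _ C.zl (C.nB ψ w.oψ) w.iη w.uη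

theorem Wt.stab (hA : AbBox) (w : C.Wt χ ψ θ η) (b : B) : (b : K) ∈ C.aX.Stb θ ↔ b ∈ C.aM.Stb η := by
  have a1 := (hA ι C.aX.inj C.aX.nrm C.aX.ab χ θ w.oχ.1 w.iθ w.mθ (C.aX.Stb θ) fun _ => Iff.rfl).2
  have a2 := fun (β : K →* ℂˣ) (h : ∀ x, β (ι x) = 1) =>
    (hA κ C.aM.inj C.aM.nrm C.aM.ab ψ η w.oψ.1 w.iη w.mη (C.aM.Stb η) fun _ => Iff.rfl).2 (β.comp B.subtype)
      fun y => (congrArg β (C.hκ y)).trans (h _)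
  refine ⟨fun h => by_contra fun h1 => ?_, fun h => by_contra fun h1 => ?_⟩
  · have := C.aX.nrm
    obtain ⟨β, h2, h3⟩ := exists_sep ((C.aM.Stb η).map B.subtype ⊔ ι.range) (fun a b => mem_sup_right (C.aX.ab a b))
      (g := b) fun h2 => by
        obtain ⟨_, ⟨b', h3, rfl⟩, _, ⟨x, rfl⟩, h4⟩ := mem_sup_of_normal_right.1 h2
        have h5 : ι x ∈ B := (mul_mem_cancel_left b'.2).1 (h4.symm ▸ b.2 :)
        exact h1 ((Subtype.ext (by rw [← h4, coe_mul, C.hκ]; rfl) : b = b' * κ ⟨x, C.mem x h5⟩) ▸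
          mul_mem h3 (C.aM.le_Stb w.iη _))
    have h4 : ∀ x, β (ι x) = 1 := fun x => h2 _ (mem_sup_right ⟨x, rfl⟩)
    have h5 := C.tw β h4 χ ψ w.oχ w.oψ w.r
    rw [show (fun b : B => (β b : ℂ) * ψ b) = ψ from
      funext ((a2 β h4).2 fun g hg => h2 _ (mem_sup_left (mem_map_of_mem _ hg)))] at h5
    exact h3 ((a1 β h4).1 (congrFun (C.un' _ _ ψ (oi_tw β w.oχ) w.oχ w.oψ h5 w.r)) b h)
  · have h2 : ι.range ≤ C.aX.Stb θ := fun _ ⟨x, e⟩ => e ▸ C.aX.le_Stb w.iθ x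
    obtain ⟨β, h3, h4⟩ := exists_sep (C.aX.Stb θ) (fun a b => h2 (C.aX.ab a b)) h1
    have h5 : ∀ x, β (ι x) = 1 := fun x => h3 _ (h2 ⟨x, rfl⟩)
    exact h4 ((a2 β h5).1 (congrFun (w.link w.oχ w.oψ w.r h5 (funext ((a1 β h5).2 h3)).symm).symm) b h)

/-- a standard character which is conjugate to `θ` is equal to `θ` -/
theorem Wt.fix (w : C.Wt χ ψ θ η) {b : K} {δ : MulAut X} (h : ∀ x, ι (δ x) = b * ι x * b⁻¹)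
    (h1 : C.Pr (fun x => θ (δ x)) η') : (fun x => θ (δ x)) = θ :=
  let ⟨_, _, w'⟩ := h1
  pr_un' ⟨χ, ψ, { w with iθ := w'.iθ, aθ := w'.aθ, uθ := Ab.ip_cj w.oχ.1 h θ ▸ w.uθ }⟩ ⟨χ, ψ, w⟩

theorem key (hA : AbBox) (h : C.Pr θ η) (γ : Λ) (h' : C.Pr (fun x => θ' (γ.1 x)) fun y => η' (rs Λ γ y)) :
    θ = θ' ↔ η = η' := by
  obtain ⟨ρ, hρ⟩ := C.exists_ρ
  obtain ⟨b, φ, δ, rfl, h1, h2⟩ := C.split hρ γ
  have h3 : C.Pr (fun x => θ' (δ.1 x)) fun y => η' (rs Λ δ y) := by simpa using h'.aut (hρ φ⁻¹)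
  obtain ⟨χ, ψ, w⟩ := h
  have h4 := w.stab hA b
  rw [C.aX.mem_Stb h1, C.aM.mem_Stb h2] at h4
  refine ⟨fun e => ?_, fun e => ?_⟩ <;> subst e
  · have h5 := w.fix h1 h3
    exact (comp_inj (rs Λ δ)).1 ((funext (h4.1 (congrFun h5))).trans (pr_un ⟨χ, ψ, w⟩ (h5 ▸ h3)))
  · obtain ⟨χ', ψ', w'⟩ := h3
    have h5 := (C.uM ψ _ η w.oψ w'.iη w.iη (Ab.ip_cj w.oψ.1 h2 η ▸ w.uη) w.uη w'.aη w.aη).1
    exact (comp_inj δ.1).1 ((funext (h4.2 (congrFun h5))).trans (pr_un' ⟨χ, ψ, w⟩ ⟨χ', ψ', h5 ▸ w'⟩))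

end Cx

end Cfsg.Agent.MK.Two
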